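import Groth.Agent.H4Gr.Devissage

/-!
# Finiteness and eventual vanishing of the pieces of local cohomology
-/

set_option autoImplicit false
set_option linter.unusedSectionVars false
set_option linter.style.haveILetI false

universe u

open DirectSum

namespace Groth.Agent.H4Gr

variable {R : Type u} [CommRing R] [IsNoetherianRing R] {𝒜 : ℤ → AddSubgroup R} [GradedRing 𝒜]
variable {L : Type u} [AddCommGroup L] [Module R L] {𝓛 : ℤ → AddSubgroup L} [Decomposition 𝓛]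
  [SetLike.GradedSMul 𝒜 𝓛]
variable {M : Type u} [AddCommGroup M] [Module R M] {ℳ : ℤ → AddSubgroup M} [Decomposition ℳ]
  [SetLike.GradedSMul 𝒜 ℳ]
variable {N : Type u} [AddCommGroup N] [Module R N] {𝒩 : ℤ → AddSubgroup N} [Decomposition 𝒩]
  [SetLike.GradedSMul 𝒜 𝒩]
variable (a : HomogeneousIdeal 𝒜)

/-- A homogeneous linear map between local cohomology modules, on a piece. -/
def pieceMap {EL : GrLC.StarInjRes 𝒜 𝓛} {EM : GrLC.StarInjRes 𝒜 ℳ} {i j : ℕ} {F : EL.H a i →ₗ[R] EM.H a j}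
    {e : ℤ} (hF : GrLC.IsGrHomDeg (EL.Hgr a i) (EM.Hgr a j) F e) (g g' : ℤ) (h : g + e = g') :
    EL.Hcomp a i g →ₗ[GrLC.deg0 𝒜] EM.Hcomp a j g' where
  toFun x := ⟨F x, h ▸ hF g x x.2⟩
  map_add' _ _ := Subtype.ext (map_add F _ _)
  map_smul' r x := Subtype.ext (map_smul F (r : R) (x : EL.H a i))

/-- A piece is finite when it is squeezed between two finite pieces. -/
theorem finite_of_exact {EL : GrLC.StarInjRes 𝒜 𝓛} {EM : GrLC.StarInjRes 𝒜 ℳ} {EN : GrLC.StarInjRes 𝒜 𝒩}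
    {i j l : ℕ} {F : EL.H a i →ₗ[R] EM.H a j} {G : EM.H a j →ₗ[R] EN.H a l} {e e' : ℤ}
    (hF : GrLC.IsGrHomDeg (EL.Hgr a i) (EM.Hgr a j) F e) (hG : GrLC.IsGrHomDeg (EM.Hgr a j) (EN.Hgr a l) G e')
    (hex : Function.Exact F G) (g : ℤ) (h₁ : Module.Finite (GrLC.deg0 𝒜) (EL.Hcomp a i (g - e)))
    (h₂ : Module.Finite (GrLC.deg0 𝒜) (EN.Hcomp a l (g + e'))) :
    Module.Finite (GrLC.deg0 𝒜) (EM.Hcomp a j g) := by
  haveI := isNoetherianRing_deg0 𝒜
  let f := pieceMap a hF (g - e) g (sub_add_cancel g e)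
  let g₁ := pieceMap a hG g (g + e') rfl
  haveI : Module.Finite (GrLC.deg0 𝒜) (LinearMap.range g₁) := inferInstance
  haveI : Module.Finite (GrLC.deg0 𝒜) (LinearMap.ker g₁) := by
    refine Module.Finite.of_surjective (f.codRestrict (LinearMap.ker g₁) fun x =>
      LinearMap.mem_ker.2 (Subtype.ext (hex.apply_apply_eq_zero _))) fun y => ?_
    obtain ⟨⟨y, hy⟩, hk⟩ := y
    obtain ⟨x, hx, hxy⟩ := exists_piece_preimage a hF hy ((hex y).1 (congrArg Subtype.val hk))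
    exact ⟨⟨x, hx⟩, Subtype.ext (Subtype.ext hxy)⟩
  haveI : Module.Finite (GrLC.deg0 𝒜) (EM.Hcomp a j g ⧸ LinearMap.ker g₁) :=
    Module.Finite.equiv g₁.quotKerEquivRange.symm
  exact Module.Finite.of_submodule_quotient (LinearMap.ker g₁)

theorem finite_of_eq_bot {E : GrLC.StarInjRes 𝒜 ℳ} {i : ℕ} {g : ℤ} (h : E.Hcomp a i g = ⊥) :
    Module.Finite (GrLC.deg0 𝒜) (E.Hcomp a i g) := by
  rw [h]; infer_instance

theorem finite_Hcomp_zero [Module.Finite R M] (E : GrLC.StarInjRes 𝒜 ℳ) (g : ℤ) :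
    Module.Finite (GrLC.deg0 𝒜) (E.Hcomp a 0 g) := by
  haveI : IsNoetherian R (E.H a 0) := by
    refine isNoetherian_of_surjective (toH₀ a E) (LinearMap.range_eq_top.2 fun y => ?_)
    obtain ⟨⟨z, hz⟩, rfl⟩ := toH_surjective a 0 y
    obtain ⟨m, rfl⟩ := E.exact_zero.le hz.2
    obtain ⟨n, hn⟩ := hz.1
    exact ⟨⟨m, n, fun r hr => E.ε_injective (by rw [map_smul, map_zero]; exact hn r hr)⟩, rfl⟩
  let := (isInternal_Hgr a E 0).chooseDecomposition
  let := gradedSMul_Hgr a E 0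
  haveI := isNoetherian_comp (𝒜 := 𝒜) (ℳ := E.Hgr a 0) g
  exact (inferInstance : Module.Finite (GrLC.deg0 𝒜) (GrLC.comp 𝒜 (E.Hgr a 0) g))

variable (hpos : ∀ n : ℤ, n < 0 → 𝒜 n = ⊥)
  (ha : a.toIdeal = Ideal.span (⋃ n ∈ Set.Ioi (0 : ℤ), (𝒜 n : Set R)))

/-- Finite pieces, vanishing in large degrees. -/
def Tame (X : GrLC.GMod.{u} 𝒜) : Prop :=
  ∀ E : GrLC.StarInjRes 𝒜 X.gr, (∃ r : ℤ, ∀ (i : ℕ) (n : ℤ), r ≤ n → E.Hcomp a i n = ⊥) ∧
    ∀ (i : ℕ) (n : ℤ), Module.Finite (GrLC.deg0 𝒜) (E.Hcomp a i n)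

include hpos ha in
theorem tame (X : GrLC.GMod.{u} 𝒜) [Module.Finite R X.carrier] : Tame a X := by
  refine devissage 𝒜 (Tame a) (fun X _ E => ⟨⟨0, fun i n _ => Hcomp_eq_bot_of_subsingleton a E i n⟩,
      fun i n => finite_of_eq_bot a (Hcomp_eq_bot_of_subsingleton a E i n)⟩)
    (fun A B C f π S hA hC E => ?_) (fun C g z hz hgen hprime ih E => ?_) X
  · obtain ⟨EA⟩ := nonempty_starInjRes (𝒜 := 𝒜) (ℳ := A.gr)
    obtain ⟨EC⟩ := nonempty_starInjRes (𝒜 := 𝒜) (ℳ := C.gr)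
    obtain ⟨⟨r₁, h₁⟩, f₁⟩ := hA EA
    obtain ⟨⟨r₂, h₂⟩, f₂⟩ := hC EC
    obtain ⟨δ, -, -, hex, -, -⟩ := S.exists_δ a EA E EC
    exact ⟨⟨max r₁ r₂, fun i n hn => S.middle_eq_bot a EA E EC (h₁ i _ (by omega)) (h₂ i _ (by omega))⟩,
      fun i n => finite_of_exact a (isGrHomDeg_hmap a EA E f S.deg i) (isGrHomDeg_hmap a E EC π S.deg' i)
        (hex i) n (f₁ i _) (f₂ i _)⟩
  set p : Ideal R := LinearMap.ker (LinearMap.toSpanSingleton R C.carrier z) with hp
  haveI : Module.Finite R C.carrier := ⟨⟨{z}, by simpa using hgen⟩⟩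
  have hall : ∀ w : C.carrier, ∃ c : R, c • z = w := fun w => Submodule.mem_span_singleton.1 (hgen ▸ Submodule.mem_top)
  have hsmul : ∀ {r : R} {c : R}, r ∈ p → r • c • z = 0 := fun {r c} hr => by
    rw [smul_comm, show r • z = 0 from hr, smul_zero]
  by_cases hap : a.toIdeal ≤ p
  · have htor : GrLC.gam a.toIdeal C.carrier = ⊤ := eq_top_iff.2 fun w _ => ⟨1, fun r hr => by
      obtain ⟨c, rfl⟩ := hall w
      exact hsmul (hap (by simpa using hr))⟩
    refine ⟨⟨g + 1, fun i n hn => ?_⟩, fun i n => ?_⟩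
    · cases i with
      | succ i => exact Hcomp_succ_eq_bot_of_torsion E htor i n
      | zero =>
        refine (Hcomp_zero_eq_bot_iff E n).2 fun w hw hwg => ?_
        clear hwg
        obtain ⟨c, rfl⟩ := hall w
        rw [← proj_same hw]
        clear hw
        induction c using induction 𝒜 with
        | zero => simp
        | hom j r hr =>
          by_cases hj : j + g = n
          · rw [show r • z = 0 from hap (ha ▸ Ideal.subset_span (Set.mem_iUnion₂.2 ⟨j, show (0:ℤ) < j by omega, hr⟩)), map_zero]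
          · exact proj_ne (smul_mem 𝒜 hr hz) hj
        | add p q hp hq => rw [add_smul, map_add, hp, hq, add_zero]
    · cases i with
      | succ i => exact finite_of_eq_bot a (Hcomp_succ_eq_bot_of_torsion E htor i n)
      | zero => exact finite_Hcomp_zero a E n
  obtain ⟨x, d, hd, hxd, hxp⟩ : ∃ (x : R) (d : ℤ), 0 < d ∧ x ∈ 𝒜 d ∧ x ∉ p := by
    by_contra hc
    push Not at hc
    refine hap (ha ▸ Ideal.span_le.2 fun x hx => ?_)
    obtain ⟨d, hd, hxd⟩ := Set.mem_iUnion₂.1 hx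
    exact hc x d hd hxd
  have hxa : x ∈ a.toIdeal := ha ▸ Ideal.subset_span (Set.mem_iUnion₂.2 ⟨d, hd, hxd⟩)
  have hreg : IsSMulRegular C.carrier x := fun u v huv => by
    obtain ⟨b, rfl⟩ := hall u
    obtain ⟨c, rfl⟩ := hall v
    have h : x * (b - c) ∈ p := by
      rw [hp, LinearMap.mem_ker, LinearMap.toSpanSingleton_apply, mul_smul, sub_smul, smul_sub, sub_eq_zero]
      exact huv
    exact sub_eq_zero.1 (by rw [← sub_smul]; exact (hprime.mem_or_mem h).resolve_left hxp)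
  let P : Submodule R C.carrier := LinearMap.range (x • (LinearMap.id : C.carrier →ₗ[R] C.carrier))
  have hP : P.IsHomogeneous C.gr := isHomogeneous_range (isGrHomDeg_smul_id (ℳ := C.gr) hxd)
  let Y := quotMod 𝒜 P hP
  have S : GSES C.gr C.gr Y.gr (x • LinearMap.id) (quotProj 𝒜 P hP) d :=
    ⟨isGrHomDeg_smul_id hxd, hreg, isGrHom_quotProj P hP, Submodule.mkQ_surjective P,
      LinearMap.exact_map_mkQ_range _⟩
  obtain ⟨EY⟩ := nonempty_starInjRes (𝒜 := 𝒜) (ℳ := Y.gr)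
  obtain ⟨⟨r, hr⟩, hfin⟩ := ih (p ⊔ Ideal.span {x}) Y
    (left_lt_sup.2 fun h => hxp (h (Ideal.mem_span_singleton_self x)))
    (inferInstanceAs (Module.Finite R (C.carrier ⧸ P))) (fun s hs y => by
      obtain ⟨w, rfl⟩ := Submodule.mkQ_surjective P y
      obtain ⟨c, rfl⟩ := hall w
      obtain ⟨s₁, hs₁, s₂, hs₂, rfl⟩ := Submodule.mem_sup.1 hs
      obtain ⟨b, rfl⟩ := Ideal.mem_span_singleton'.1 hs₂
      refine (Submodule.Quotient.mk_eq_zero P).2 ⟨b • c • z, ?_⟩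
      show _ = (s₁ + b * x) • c • z
      rw [add_smul, hsmul hs₁, zero_add, LinearMap.smul_apply, LinearMap.id_apply, smul_smul x b, mul_comm x b]) EY
  obtain ⟨δ, hδ, -, -, -, hex₃⟩ := S.exists_δ a E E EY
  have h0 : ∀ n, E.Hcomp a 0 n = ⊥ := fun n => (Hcomp_zero_eq_bot_iff E n).2 fun w _ hw => by
    obtain ⟨N, hN⟩ := hw
    exact (hreg.pow N) (by simpa using hN _ (Ideal.pow_mem_pow hxa N))
  have hinj : ∀ (i : ℕ) (n : ℤ), r ≤ n + d → ∀ y ∈ E.Hgr a (i + 1) n, x • y = 0 → y = 0 := fun i n hn y hy h => by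
    have h2 : hmap a E E (x • LinearMap.id) S.deg (i + 1) y = 0 := by rw [hmap_smul_id a E hxd]; exact h
    obtain ⟨w, hw, rfl⟩ := exists_piece_preimage a (hδ i) hy ((hex₃ i y).1 h2)
    rw [(Hcomp_eq_bot_iff a).1 (hr i _ (by omega)) w hw, map_zero]
  have hvan : ∀ (i : ℕ) (n : ℤ), r ≤ n → E.Hcomp a i n = ⊥ := fun i n hn => by
    cases i with
    | zero => exact h0 n
    | succ i =>
      refine (Hcomp_eq_bot_iff a).2 fun y hy => ?_
      obtain ⟨N, hN⟩ := (gam_H_eq_top a E (i + 1)).ge (Submodule.mem_top (x := y))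
      have hxN : x ^ N • y = 0 := hN _ (Ideal.pow_mem_pow hxa N)
      clear hN
      induction N generalizing n y with
      | zero => simpa using hxN
      | succ N ihN =>
        rw [pow_succ, mul_smul] at hxN
        let := (isInternal_Hgr a E (i + 1)).chooseDecomposition
        let := gradedSMul_Hgr a E (i + 1)
        exact hinj i n (by omega) y hy (ihN (d + n) (by omega) _ (smul_mem 𝒜 hxd hy) hxN)
  refine ⟨⟨r, hvan⟩, fun i n => ?_⟩
  cases i with
  | zero => exact finite_of_eq_bot a (h0 n)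
  | succ i =>
    suffices key : ∀ (k : ℕ) (n : ℤ), r ≤ n + k → Module.Finite (GrLC.deg0 𝒜) (E.Hcomp a (i + 1) n) from
      key (r - n).toNat n (by omega)
    intro k
    induction k with
    | zero => intro n hn; exact finite_of_eq_bot a (hvan _ n (by omega))
    | succ k ihk =>
      intro n hn
      exact finite_of_exact a (hδ i) (isGrHomDeg_hmap a E E _ S.deg (i + 1)) (hex₃ i) n (hfin i _)
        (ihk _ (by omega))

end Groth.Agent.H4Gr
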