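import Groth.Agent.H4Gr.Injective
import Groth.Agent.H4LC.LC
import Groth.Agent.H4LC.CohQ
import Groth.Agent.H4LC.Shift
import Groth.Agent.H4Depth.ExtBasic
import Mathlib.Algebra.Category.ModuleCat.Ext.HasExt
import Mathlib.Algebra.Homology.DerivedCategory.Ext.EnoughProjectives
import Mathlib.Algebra.Homology.DerivedCategory.Ext.ExactSequences
import Mathlib.Algebra.Category.ModuleCat.Projective

/-!
# *injective modules are acyclic; graded local cohomology
-/

set_option autoImplicit false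
set_option linter.unusedSectionVars false

universe u

open DirectSum CategoryTheory

namespace Groth.Agent.H4Gr

variable {ι : Type} [AddCommGroup ι] [DecidableEq ι]
variable {R : Type u} [CommRing R] {𝒜 : ι → AddSubgroup R} [GradedRing 𝒜]
variable {M : Type u} [AddCommGroup M] [Module R M] {ℳ : ι → AddSubgroup M} [Decomposition ℳ]
  [SetLike.GradedSMul 𝒜 ℳ]
variable {N : Type u} [AddCommGroup N] [Module R N] {𝒩 : ι → AddSubgroup N} [Decomposition 𝒩]
  [SetLike.GradedSMul 𝒜 𝒩]

section Components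

variable (𝒜) in
/-- The component of degree `d` of a linear map. -/
noncomputable def homComp (f : M →ₗ[R] N) (ℳ : ι → AddSubgroup M) [Decomposition ℳ]
    [SetLike.GradedSMul 𝒜 ℳ] (𝒩 : ι → AddSubgroup N) [Decomposition 𝒩] [SetLike.GradedSMul 𝒜 𝒩]
    (d : ι) : M →ₗ[R] N where
  toFun x := DirectSum.toAddMonoid
    (fun g => ((proj 𝒩 (g + d)).comp f.toAddMonoidHom).comp (ℳ g).subtype) (decompose ℳ x)
  map_add' x y := by rw [decompose_add, map_add]
  map_smul' r x := by
    induction x using induction ℳ with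
    | zero => simp
    | hom g x hx =>
      induction r using induction 𝒜 with
      | zero => simp
      | hom h r hr =>
        simp only [RingHom.id_apply]
        rw [decompose_of_mem ℳ (smul_mem 𝒜 hr hx), decompose_of_mem ℳ hx, toAddMonoid_of,
          toAddMonoid_of]
        show proj 𝒩 (h + g + d) (f (r • x)) = r • proj 𝒩 (g + d) (f x)
        rw [map_smul, proj_smul hr, show h + g + d - h = g + d by abel]
      | add a b ha hb =>
        simp only [RingHom.id_apply] at ha hb ⊢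
        rw [add_smul, decompose_add, map_add, ha, hb, add_smul]
    | add x y hx hy =>
      simp only [RingHom.id_apply] at hx hy ⊢
      rw [smul_add, decompose_add, decompose_add, map_add, map_add, hx, hy, smul_add]

theorem homComp_of_mem (f : M →ₗ[R] N) (d : ι) {g : ι} {x : M} (hx : x ∈ ℳ g) :
    homComp 𝒜 f ℳ 𝒩 d x = proj 𝒩 (g + d) (f x) := by
  show DirectSum.toAddMonoid _ (decompose ℳ x) = _
  rw [decompose_of_mem ℳ hx, toAddMonoid_of]
  rfl

theorem isGrHomDeg_homComp (f : M →ₗ[R] N) (d : ι) :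
    GrLC.IsGrHomDeg ℳ 𝒩 (homComp 𝒜 f ℳ 𝒩 d) d := fun g x hx => by
  rw [homComp_of_mem f d hx]; exact proj_mem 𝒩 _ _

variable (𝒜 ℳ) in
include 𝒜 in
theorem exists_homogeneous_generators [Module.Finite R M] :
    ∃ (n : ℕ) (m : Fin n → M) (deg : Fin n → ι), (∀ a, m a ∈ ℳ (deg a)) ∧
      Submodule.span R (Set.range m) = ⊤ := by
  classical
  obtain ⟨s, hs⟩ := Module.Finite.fg_top (R := R) (M := M)
  choose t ht _ using fun x : M => exists_sum_proj ℳ x
  let T : Finset (ι × M) := s.biUnion fun x => (t x).image fun g => (g, proj ℳ g x)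
  let e := T.equivFin
  refine ⟨T.card, fun a => (e.symm a).1.2, fun a => (e.symm a).1.1, fun a => ?_, ?_⟩
  · obtain ⟨x, -, hx⟩ := Finset.mem_biUnion.1 (e.symm a).2
    obtain ⟨g, -, hg⟩ := Finset.mem_image.1 hx
    show (e.symm a).1.2 ∈ ℳ (e.symm a).1.1
    rw [← hg]
    exact proj_mem ℳ g x
  · rw [eq_top_iff, ← hs, Submodule.span_le]
    intro x hx
    rw [SetLike.mem_coe, ← ht x]
    refine Submodule.sum_mem _ fun g hg => Submodule.subset_span ?_
    exact ⟨e ⟨(g, proj ℳ g x), Finset.mem_biUnion.2 ⟨x, hx, Finset.mem_image.2 ⟨g, hg, rfl⟩⟩⟩, by simp⟩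

variable (𝒜 ℳ 𝒩) in
theorem exists_sum_homComp [Module.Finite R M] (f : M →ₗ[R] N) :
    ∃ s : Finset ι, (∑ d ∈ s, homComp 𝒜 f ℳ 𝒩 d) = f := by
  classical
  obtain ⟨n, m, deg, hdeg, hspan⟩ := exists_homogeneous_generators 𝒜 ℳ
  choose t ht ht0 using fun x : N => exists_sum_proj 𝒩 x
  let S : Finset ι := Finset.univ.biUnion fun a => (t (f (m a))).image fun g => g - deg a
  refine ⟨S, LinearMap.ext_on hspan ?_⟩
  rintro _ ⟨a, rfl⟩
  rw [LinearMap.sum_apply, Finset.sum_congr rfl fun d _ => homComp_of_mem f d (hdeg a)]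
  have hsub : (t (f (m a))).image (fun g => g - deg a) ⊆ S := fun d hd =>
    Finset.mem_biUnion.2 ⟨a, Finset.mem_univ a, hd⟩
  rw [← Finset.sum_subset hsub fun d _ hd => ht0 _ _ fun h => hd (Finset.mem_image.2 ⟨_, h, by abel⟩),
    Finset.sum_image fun g _ g' _ h => sub_left_inj.1 h]
  simpa using ht (f (m a))

/-- Maps from finite graded modules into a *injective extend along graded injections. -/
theorem exists_extension_of_finite (hN : GrLC.IsStarInj 𝒜 𝒩) {L : Type u} [AddCommGroup L] [Module R L]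
    {𝓛 : ι → AddSubgroup L} [Decomposition 𝓛] [SetLike.GradedSMul 𝒜 𝓛] [Module.Finite R M]
    {i : M →ₗ[R] L} (hi : GrLC.IsGrHom ℳ 𝓛 i) (hii : Function.Injective i) (f : M →ₗ[R] N) :
    ∃ h : L →ₗ[R] N, h ∘ₗ i = f := by
  obtain ⟨s, hs⟩ := exists_sum_homComp 𝒜 ℳ 𝒩 f
  have hext : ∀ d, ∃ h : L →ₗ[R] N, h ∘ₗ i = homComp 𝒜 f ℳ 𝒩 d := fun d => by
    obtain ⟨h, -, hh⟩ := extend_deg hN (isGrHomDeg_zero_iff.2 hi) hii
      (isGrHomDeg_homComp (𝒜 := 𝒜) (ℳ := ℳ) (𝒩 := 𝒩) f d)
    exact ⟨h, hh⟩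
  choose h hh using hext
  refine ⟨∑ d ∈ s, h d, LinearMap.ext fun x => ?_⟩
  conv_rhs => rw [← hs]
  rw [LinearMap.comp_apply, LinearMap.sum_apply, LinearMap.sum_apply]
  exact Finset.sum_congr rfl fun d _ => LinearMap.congr_fun (hh d) x

end Components

section Free

variable {n : ℕ} (deg : Fin n → ι)

variable (𝒜) in
/-- The pieces of a free module on generators of given degrees. -/
def freeGr (g : ι) : AddSubgroup (Fin n → R) := AddSubgroup.pi Set.univ fun a => 𝒜 (g - deg a)

theorem mem_freeGr {g : ι} {v : Fin n → R} : v ∈ freeGr 𝒜 deg g ↔ ∀ a, v a ∈ 𝒜 (g - deg a) := by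
  simp [freeGr, AddSubgroup.mem_pi]

theorem single_mem_freeGr (a : Fin n) {g : ι} {r : R} (hr : r ∈ 𝒜 g) :
    Pi.single a r ∈ freeGr 𝒜 deg (g + deg a) := by
  rw [mem_freeGr]
  intro b
  rcases eq_or_ne b a with rfl | h
  · rwa [Pi.single_eq_same, add_sub_cancel_right]
  · rw [Pi.single_eq_of_ne h]; exact zero_mem _

theorem isInternal_freeGr : DirectSum.IsInternal (freeGr 𝒜 deg) := by
  refine isInternal_of _ (fun g => AddMonoidHom.mk' (fun v a => proj 𝒜 (g - deg a) (v a))
    fun v w => funext fun a => map_add _ _ _) (fun g v => (mem_freeGr deg).2 fun a => proj_mem 𝒜 _ _)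
    (fun g v hv h => funext fun a => ?_) fun v => ?_
  · show proj 𝒜 (h - deg a) (v a) = _
    rw [proj_of_mem ((mem_freeGr deg).1 hv a)]
    by_cases e : g = h
    · subst e; simp
    · rw [if_neg e, if_neg fun e' => e (by simpa using e')]; rfl
  · rw [← Finset.univ_sum_single v]
    refine sum_mem fun a _ => ?_
    generalize v a = r
    induction r using induction 𝒜 with
    | zero => rw [Pi.single_zero]; exact zero_mem _
    | hom g r hr => exact AddSubgroup.mem_iSup_of_mem _ (single_mem_freeGr deg a hr)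
    | add x y hx hy => rw [Pi.single_add]; exact add_mem hx hy

theorem gradedSMul_freeGr : SetLike.GradedSMul 𝒜 (freeGr 𝒜 deg) :=
  ⟨fun {i j r v} hr hv => by
    rw [mem_freeGr] at hv ⊢
    intro a
    rw [vadd_eq_add, add_sub_assoc]
    exact SetLike.mul_mem_graded hr (hv a)⟩

variable (𝒜) in
/-- A free module with generators in given degrees. -/
@[implicit_reducible]
noncomputable def freeMod : GrLC.GMod.{u} 𝒜 :=
  { carrier := Fin n → R
    gr := freeGr 𝒜 deg
    dec := (isInternal_freeGr deg).chooseDecomposition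
    gsmul := gradedSMul_freeGr deg }

theorem isGrHom_linearCombination {m : Fin n → M} (hm : ∀ a, m a ∈ ℳ (deg a)) :
    GrLC.IsGrHom (freeMod 𝒜 deg).gr ℳ (Fintype.linearCombination R m) := by
  intro g v hv
  rw [Fintype.linearCombination_apply]
  refine sum_mem fun a _ => ?_
  have := smul_mem 𝒜 ((mem_freeGr deg).1 hv a) (hm a)
  rwa [sub_add_cancel] at this

end Free

section Ext

variable [IsNoetherianRing R]

/-- Higher `Ext` from finite graded modules into *injectives vanishes. -/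
theorem subsingleton_ext_of_isStarInj (hN : GrLC.IsStarInj 𝒜 𝒩) : ∀ (i : ℕ) (X : GrLC.GMod.{u} 𝒜),
    Module.Finite R X.carrier → 0 < i →
      Subsingleton (Abelian.Ext.{u} (ModuleCat.of R X.carrier) (ModuleCat.of R N) i) := by
  intro i
  induction i with
  | zero => intro X _ h; exact absurd h (lt_irrefl 0)
  | succ i ih =>
    intro X hX _
    obtain ⟨n, m, deg, hdeg, hspan⟩ := exists_homogeneous_generators 𝒜 X.gr
    let F := freeMod 𝒜 deg
    let p : F.carrier →ₗ[R] X.carrier := Fintype.linearCombination R m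
    have hp : GrLC.IsGrHom F.gr X.gr p := isGrHom_linearCombination deg hdeg
    have hsurj : Function.Surjective p := LinearMap.range_eq_top.1 (by
      show LinearMap.range (Fintype.linearCombination R m) = ⊤
      rw [Fintype.range_linearCombination, hspan])
    let K := subMod 𝒜 (LinearMap.ker p) (isHomogeneous_ker (isGrHomDeg_zero_iff.2 hp))
    let j : K.carrier →ₗ[R] F.carrier := subIncl 𝒜 _ _
    have hex : Function.Exact j p := LinearMap.exact_subtype_ker_map p
    have hji : Function.Injective j := Subtype.val_injective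
    have hS := Groth.Agent.H4Depth.shortComplexOf_shortExact j p hji hsurj hex
    have hnoeth : IsNoetherian R F.carrier := inferInstanceAs (IsNoetherian R (Fin n → R))
    have hKfin : Module.Finite R K.carrier := inferInstanceAs (Module.Finite R (LinearMap.ker p))
    have : Module.Free R F.carrier := inferInstanceAs (Module.Free R (Fin n → R))
    have hproj : Projective (ModuleCat.of R F.carrier) :=
      (IsProjective.iff_projective (R := R) _).1 Module.Projective.of_free
    refine subsingleton_of_forall_eq 0 fun x => ?_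
    obtain ⟨y, rfl⟩ := Abelian.Ext.contravariant_sequence_exact₃ hS _ x
      (@Abelian.Ext.eq_zero_of_projective _ _ _ _ _ _ _ hproj _) (show 1 + i = i + 1 by omega)
    cases i with
    | zero =>
      obtain ⟨f, rfl⟩ := (Abelian.Ext.mk₀_bijective _ _).2 y
      obtain ⟨h, hh⟩ := exists_extension_of_finite hN (isGrHom_subIncl _ _) hji f.hom
      have : f = (Groth.Agent.H4Depth.shortComplexOf j p hex).f ≫ ModuleCat.ofHom h :=
        ModuleCat.hom_ext hh.symm
      rw [this, ← Abelian.Ext.mk₀_comp_mk₀]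
      exact hS.extClass_comp_assoc _
    | succ k =>
      rw [@Subsingleton.elim _ (ih K hKfin k.succ_pos) y 0]
      exact Abelian.Ext.comp_zero _ _ _ _ _

variable (a : HomogeneousIdeal 𝒜)

theorem isHomogeneous_pow (n : ℕ) : (a.toIdeal ^ n).IsHomogeneous 𝒜 := by
  induction n with
  | zero => rw [pow_zero, Ideal.one_eq_top]; exact Ideal.IsHomogeneous.top 𝒜
  | succ n ih => rw [pow_succ]; exact ih.mul a.isHomogeneous

/-- *injective modules have no higher local cohomology. -/
theorem subsingleton_H_of_isStarInj (hN : GrLC.IsStarInj 𝒜 𝒩) (i : ℕ) :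
    Subsingleton (LocCoh.H a.toIdeal (i + 1) N) :=
  Groth.Agent.H4LC.subsingleton_H_of_ext a.toIdeal (i + 1) N fun n₀ => ⟨n₀, le_rfl,
    subsingleton_ext_of_isStarInj hN (i + 1) (quotMod 𝒜 (ℳ := 𝒜) (a.toIdeal ^ n₀) (isHomogeneous_pow a n₀))
      (inferInstanceAs (Module.Finite R (R ⧸ a.toIdeal ^ n₀))) i.succ_pos⟩

theorem isHomogeneous_gam : (GrLC.gam a.toIdeal N).IsHomogeneous 𝒩 :=
  isHomogeneous_iff.2 fun g x hx => by
    obtain ⟨n, hn⟩ := hx
    refine ⟨n, fun r hr => ?_⟩
    have key : ∀ i, proj 𝒜 i r • proj 𝒩 g x = 0 := fun i => by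
      have h := congrArg (proj 𝒩 (g + i)) (hn _ ((isHomogeneous_pow a n) i hr))
      rwa [show ((decompose 𝒜 r i : 𝒜 i) : R) = proj 𝒜 i r from rfl, proj_smul (proj_mem 𝒜 i r),
        add_sub_cancel_right, map_zero] at h
    obtain ⟨s, hs, -⟩ := exists_sum_proj 𝒜 r
    rw [← hs, Finset.sum_smul]
    exact Finset.sum_eq_zero fun i _ => key i

variable (E : GrLC.StarInjRes 𝒜 ℳ)

theorem isHomogeneous_cocyc (i : ℕ) : (E.cocyc a i).IsHomogeneous (E.X i).gr :=
  isHomogeneous_inf (isHomogeneous_gam a) (isHomogeneous_ker (isGrHomDeg_zero_iff.2 (E.d_grHom i)))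

theorem isHomogeneous_cobdy : ∀ i : ℕ, (E.cobdy a i).IsHomogeneous (E.X i).gr
  | 0 => isHomogeneous_bot
  | n + 1 => isHomogeneous_map (isGrHomDeg_zero_iff.2 (E.d_grHom n)) (isHomogeneous_gam a)

/-- Graded local cohomology is graded. -/
theorem isInternal_Hgr (i : ℕ) : DirectSum.IsInternal (E.Hgr a i) := by
  letI : Decomposition (subGr (E.X i).gr (E.cocyc a i)) :=
    (isInternal_subGr (isHomogeneous_cocyc a E i)).chooseDecomposition
  haveI := gradedSMul_subGr (𝒜 := 𝒜) (ℳ := (E.X i).gr) (E.cocyc a i)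
  have hc : ((E.cobdy a i).comap (E.cocyc a i).subtype).IsHomogeneous (subGr (E.X i).gr (E.cocyc a i)) :=
    isHomogeneous_comap (isGrHomDeg_zero_iff.2 (isGrHom_subtype _)) (isHomogeneous_cobdy a E i)
  have heq : E.Hgr a i = quotPieces (subGr (E.X i).gr (E.cocyc a i))
      ((E.cobdy a i).comap (E.cocyc a i).subtype) := by
    funext g
    ext x
    exact ⟨fun ⟨z, hz, hzx⟩ => ⟨z, hz, hzx⟩, fun ⟨z, hz, hzx⟩ => ⟨z, hz, hzx⟩⟩
  rw [heq]
  exact isInternal_quotPieces hc

open Groth.Agent.H4LC in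
/-- Graded local cohomology computes local cohomology. -/
theorem nonempty_H_equiv (i : ℕ) : Nonempty (E.H a i ≃ₗ[R] LocCoh.H a.toIdeal i M) := by
  let d : ∀ n, (E.X n).carrier →ₗ[R] (E.X (n + 1)).carrier := E.d
  have hex : ∀ n, Function.Exact (d n) (d (n + 1)) := fun n => LinearMap.exact_iff.2 (E.exact_succ n)
  have hacy : ∀ n k, Subsingleton (LocCoh.H a.toIdeal (k + 1) (E.X n).carrier) := fun n k =>
    subsingleton_H_of_isStarInj a (E.starInj n) k
  let e : M ≃ₗ[R] LinearMap.ker (d 0) :=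
    (LinearEquiv.ofInjective E.ε E.ε_injective).trans (LinearEquiv.ofEq _ _ E.exact_zero.symm)
  have eH : ∀ k, LocCoh.H a.toIdeal k M ≃ₗ[R] LocCoh.H a.toIdeal k (LinearMap.ker (d 0)) := fun k =>
    ((localCohomology a.toIdeal k).mapIso e.toModuleIso).toLinearEquiv
  let ψ : ∀ n, LinearMap.ker (Γmap a.toIdeal (d n)) ≃ₗ[R] E.cocyc a n := fun n =>
    { toFun := fun x => ⟨x.1.1, x.1.2, congrArg Subtype.val (LinearMap.mem_ker.1 x.2)⟩
      invFun := fun z => ⟨⟨z.1, z.2.1⟩, LinearMap.mem_ker.2 (Subtype.ext (LinearMap.mem_ker.1 z.2.2))⟩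
      map_add' := fun _ _ => rfl
      map_smul' := fun _ _ => rfl
      left_inv := fun _ => rfl
      right_inv := fun _ => rfl }
  cases i with
  | zero =>
    obtain ⟨g⟩ := nonempty_H_zero_equiv a.toIdeal (fun n => (E.X n).carrier) d 0
    have h0 : (E.cobdy a 0).comap (E.cocyc a 0).subtype = ⊥ :=
      eq_bot_iff.2 fun x hx => (Submodule.mem_bot R).2 (Subtype.ext ((Submodule.mem_bot R).1 hx))
    exact ⟨(Submodule.quotEquivOfEqBot _ h0).trans ((ψ 0).symm.trans (((eH 0).trans g).symm))⟩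
  | succ n =>
    obtain ⟨g⟩ := nonempty_H_succ_equiv a.toIdeal (fun n => (E.X n).carrier) d hex hacy n
    refine ⟨LinearEquiv.trans (Submodule.Quotient.equiv _ _ (ψ (n + 1)).symm ?_) ((eH (n + 1)).trans g).symm⟩
    ext x
    constructor
    · rintro ⟨z, hz, rfl⟩
      obtain ⟨w, hw, hwz⟩ := hz
      exact ⟨⟨w, hw⟩, Subtype.ext hwz⟩
    · rintro ⟨w, hw⟩
      exact ⟨ψ (n + 1) x, ⟨w.1, w.2, congrArg Subtype.val hw⟩, (ψ (n + 1)).symm_apply_apply x⟩

end Ext

end Groth.Agent.H4Gr
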