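import Groth.Agent.H4Gr.BassMin
import Groth.Agent.H4Goren.Hull
import Groth.Agent.H4LC.FlatBaseChange

/-!
# *local rings; the top local cohomology of a Gorenstein *local ring
-/

set_option autoImplicit false
set_option linter.unusedSectionVars false

universe u

open DirectSum CategoryTheory IsLocalRing

namespace Groth.Agent.H4Gr

variable {ι : Type} [AddCommGroup ι] [DecidableEq ι]
variable {R : Type u} [CommRing R] {𝒜 : ι → AddSubgroup R} [GradedRing 𝒜]

theorem le_of_isStarLocal [IsNoetherianRing R] {m : HomogeneousIdeal 𝒜} (hm : GrLC.IsStarLocal 𝒜 m)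
    {J : Ideal R} (hJ : J.IsHomogeneous 𝒜) (htop : J ≠ ⊤) : J ≤ m.toIdeal := by
  obtain ⟨K, ⟨hKh, hKtop, hJK⟩, hKmax⟩ := set_has_maximal_iff_noetherian.2 inferInstance
    {K : Ideal R | K.IsHomogeneous 𝒜 ∧ K ≠ ⊤ ∧ J ≤ K} ⟨J, hJ, htop, le_rfl⟩
  have hco : IsCoatom (⟨K, hKh⟩ : HomogeneousIdeal 𝒜) := by
    refine ⟨fun h => hKtop (congrArg HomogeneousIdeal.toIdeal h :), fun (L : HomogeneousIdeal 𝒜) hL => ?_⟩
    by_contra hLtop
    have hlt : K < L.toIdeal := hL
    exact hKmax L.toIdeal ⟨L.isHomogeneous, fun h => hLtop (HomogeneousIdeal.toIdeal_injective (h.trans rfl)),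
      hJK.trans hlt.le⟩ hlt
  rw [← hm.2 _ hco]
  exact hJK

variable [Module.Free ℤ ι] [Module.Finite ℤ ι]

theorem isPrime_of_isStarLocal {m : HomogeneousIdeal 𝒜} (hm : GrLC.IsStarLocal 𝒜 m) : m.toIdeal.IsPrime := by
  refine isPrime_of_homogeneous m.isHomogeneous
    (fun h => hm.1.1 (HomogeneousIdeal.toIdeal_injective (h.trans rfl))) fun {i j x y} hx hy hxy => ?_
  by_contra hc
  push Not at hc
  let L : HomogeneousIdeal 𝒜 := ⟨m.toIdeal ⊔ Ideal.span {x},
    m.isHomogeneous.sup (Ideal.homogeneous_span 𝒜 _ fun z hz => ⟨i, by rw [Set.mem_singleton_iff.1 hz]; exact hx⟩)⟩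
  have hlt : m < L := show m.toIdeal < m.toIdeal ⊔ Ideal.span {x} from
    left_lt_sup.2 fun h => hc.1 (h (Ideal.mem_span_singleton_self x))
  have h1 : (1 : R) ∈ m.toIdeal ⊔ Ideal.span {x} := by
    have := congrArg HomogeneousIdeal.toIdeal (hm.1.2 L hlt)
    rw [show m.toIdeal ⊔ Ideal.span {x} = (⊤ : HomogeneousIdeal 𝒜).toIdeal from this]
    exact Submodule.mem_top
  obtain ⟨a, ha, b, hb, hab⟩ := Submodule.mem_sup.1 h1
  obtain ⟨r, rfl⟩ := Ideal.mem_span_singleton'.1 hb
  refine hc.2 ?_
  have : y = a * y + r * (x * y) := by linear_combination (-y) * hab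
  rw [this]
  exact add_mem (m.toIdeal.mul_mem_right _ ha) (m.toIdeal.mul_mem_left _ hxy)

theorem mem_of_isStarLocal [IsNoetherianRing R] {m : HomogeneousIdeal 𝒜} (hm : GrLC.IsStarLocal 𝒜 m)
    {p : Ideal R} [hp : p.IsPrime] (g : ι) (x : R) (hx : x ∈ 𝒜 g) (hxp : x ∈ p) : x ∈ m.toIdeal :=
  le_of_isStarLocal hm (p.homogeneousCore 𝒜).isHomogeneous
    (ne_top_of_le_ne_top hp.ne_top (Ideal.toIdeal_homogeneousCore_le 𝒜 p)) (mem_core_of_mem 𝒜 hx hxp)

variable [IsNoetherianRing R] {m : HomogeneousIdeal 𝒜}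
variable {H : Type u} [AddCommGroup H] [Module R H] {ℋ : ι → AddSubgroup H} [Decomposition ℋ]
  [SetLike.GradedSMul 𝒜 ℋ]

include ℋ in
/-- A torsion module over a *local ring whose localisation is injective with simple socle is *injective:
it is the *injective envelope of a shift of `R ⧸ m`. -/
theorem exists_hull_of_simple_socle (hm : GrLC.IsStarLocal 𝒜 m) [m.toIdeal.IsPrime]
    (htors : GrLC.gam m.toIdeal H = ⊤) (hbass : GrLC.bassNum m.toIdeal H 0 = 1)
    (hinj : Module.Injective (Localization.AtPrime m.toIdeal) (LocalizedModule m.toIdeal.primeCompl H)) :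
    ∃ (g : ι) (e : (R ⧸ m.toIdeal) →ₗ[R] H), GrLC.IsStarInjHull 𝒜 (qPieces m g) ℋ e := by
  classical
  have hT := isHomogeneous_torsionBySet (ℳ := ℋ) m.isHomogeneous
  let T := subMod 𝒜 _ hT
  obtain ⟨κ, b, hb, hbhom⟩ := exists_isFreeFamily_homogeneous 𝒜 T.gr m.toIdeal fun r hr y =>
    Subtype.ext ((Submodule.mem_torsionBySet_iff _ _).1 y.2 ⟨r, hr⟩)
  have hcard : ENat.card κ = 1 := (bassNum_zero_eq_card m.toIdeal hb).symm.trans hbass
  obtain ⟨hu⟩ := ENat.card_eq_one_iff_unique.1 hcard
  haveI := hu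
  let k₀ : κ := default
  obtain ⟨g, hg⟩ := hbhom k₀
  let v : H := (b k₀).1
  have hspan : ∀ x : H, x ∈ Submodule.torsionBySet R H (m.toIdeal : Set R) → x ∈ Submodule.span R {v} := by
    intro x hx
    let C : Ideal R := (Submodule.span R {v}).comap (LinearMap.toSpanSingleton R H x)
    suffices hC : C = ⊤ by
      have : (1 : R) ∈ C := hC ▸ Submodule.mem_top
      simpa [C] using this
    by_contra hC
    obtain ⟨p, hp, hCp⟩ := Ideal.exists_le_maximal C hC
    obtain ⟨s, hs, hsx⟩ := hb.span p (fun i r hr hrp => mem_of_isStarLocal hm i r hr hrp) ⟨x, hx⟩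
    refine hs (hCp ?_)
    have h := Submodule.mem_map_of_mem (f := (Submodule.torsionBySet R H (m.toIdeal : Set R)).subtype) hsx
    rw [Submodule.map_span, ← Set.range_comp] at h
    show s • x ∈ Submodule.span R {v}
    refine Submodule.span_mono ?_ h
    rintro _ ⟨k, rfl⟩
    rw [Subsingleton.elim k k₀]
    rfl
  let e : (R ⧸ m.toIdeal) →ₗ[R] H := (homQuotEquiv m.toIdeal H).symm (b k₀)
  have he1 : ∀ r : R, e (Ideal.Quotient.mk m.toIdeal r) = r • v := fun r => rfl
  have hei : Function.Injective e := (injective_iff_map_eq_zero _).2 fun z hz => by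
    obtain ⟨r, rfl⟩ := Ideal.Quotient.mk_surjective z
    rw [he1] at hz
    refine Ideal.Quotient.eq_zero_iff_mem.2 ?_
    have h := hb.indep (Finsupp.single k₀ r) (by
      rw [Finsupp.linearCombination_single]; exact Subtype.ext hz) k₀
    simpa using h
  have heg : GrLC.IsGrHom (qPieces m g) ℋ e := fun j z hz => by
    obtain ⟨r, hr, rfl⟩ := hz
    show r • v ∈ ℋ j
    have := smul_mem 𝒜 (show r ∈ 𝒜 (j - g) from hr) (show v ∈ ℋ g from hg)
    rwa [sub_add_cancel] at this
  have hess : GrLC.IsStarEss (qPieces m g) ℋ e := ⟨hei, heg, fun P hP hP0 h => by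
    obtain ⟨x, hxP, hx0⟩ := Submodule.exists_mem_ne_zero_of_ne_bot hP0
    obtain ⟨N, hN⟩ : x ∈ GrLC.gam m.toIdeal H := htors ▸ Submodule.mem_top
    suffices key : ∀ N (x : H), x ∈ P → x ≠ 0 → (∀ r ∈ m.toIdeal ^ N, r • x = 0) → False from key N x hxP hx0 hN
    intro N
    induction N with
    | zero => exact fun x _ hx0 hN => hx0 (by simpa using hN 1 (by simp))
    | succ N ih =>
      intro x hxP hx0 hN
      by_cases hk : ∀ a ∈ m.toIdeal, a • x = 0
      · obtain ⟨r, hr⟩ := Submodule.mem_span_singleton.1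
          (hspan x ((Submodule.mem_torsionBySet_iff _ _).2 fun a => hk a a.2))
        refine hx0 ((Submodule.mem_bot R).1 (h ▸ ⟨hxP, Ideal.Quotient.mk m.toIdeal r, ?_⟩))
        rw [he1, hr]
      · push Not at hk
        obtain ⟨a, ha, hax⟩ := hk
        exact ih (a • x) (P.smul_mem a hxP) hax fun r hr => by
          rw [← mul_smul]; exact hN _ (by rw [pow_succ]; exact Ideal.mul_mem_mul hr ha)⟩
  obtain ⟨J, _, _, hJ, j, hj⟩ := exists_injective_module (R := R) H
  obtain ⟨X, f, hf, -⟩ := exists_isStarInjHull (𝒜 := 𝒜) (ℳ := ℋ) J j hj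
  have hXess : GrLC.IsStarEss (qPieces m g) X.gr (f ∘ₗ e) := by
    refine ⟨hf.injective.comp hei, fun i z hz => hf.grHom i _ (heg i z hz), fun P hP hP0 h => ?_⟩
    refine hess.essential (P.comap f) (isHomogeneous_comap (isGrHomDeg_zero_iff.2 hf.grHom) hP) (fun h0 => ?_) ?_
    · refine hf.essential P hP hP0 (eq_bot_iff.2 ?_)
      rintro _ ⟨hx, y, rfl⟩
      have : y ∈ P.comap f := hx
      rw [h0, Submodule.mem_bot] at this
      simp [this]
    · rw [eq_bot_iff]
      rintro _ ⟨hx, y, rfl⟩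
      have : f (e y) ∈ P ⊓ LinearMap.range (f ∘ₗ e) := ⟨hx, y, rfl⟩
      rw [h, Submodule.mem_bot] at this
      rw [Submodule.mem_bot]
      exact hf.injective (this.trans (map_zero f).symm)
  -- retraction after localisation
  let S := m.toIdeal.primeCompl
  let fS := LocalizedModule.map S f
  have hfS : Function.Injective fS := LocalizedModule.map_injective S f hf.injective
  obtain ⟨r, hr⟩ := Module.Injective.extension_property (inj := hinj) (Localization.AtPrime m.toIdeal) _ _ _
    fS hfS LinearMap.id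
  let mkX := LocalizedModule.mkLinearMap S X.carrier
  let mkH := LocalizedModule.mkLinearMap S H
  have hrf : ∀ x : H, r (mkX (f x)) = mkH x := fun x => by
    have h := LinearMap.congr_fun hr (mkH x)
    rw [LinearMap.comp_apply, LinearMap.id_apply] at h
    refine Eq.trans (congrArg r ?_) h
    simp [fS, mkX, mkH, LocalizedModule.map_mk]
  have h1S : (1 : R) ∉ m.toIdeal := fun h => Ideal.IsPrime.ne_top ‹_› ((Ideal.eq_top_iff_one _).2 h)
  have hker : ∀ (N : ℕ) (y : X.carrier), r (mkX y) = 0 → (∀ a ∈ m.toIdeal ^ N, a • y = 0) →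
      ∃ s, s ∉ m.toIdeal ∧ s • y = 0 := by
    intro N
    induction N with
    | zero => exact fun y _ hy => ⟨1, h1S, hy 1 (by simp)⟩
    | succ N ih =>
      intro y hy hyN
      obtain ⟨G, hG⟩ := (IsNoetherian.noetherian m.toIdeal : m.toIdeal.FG)
      have hG' : ∀ a ∈ G, a ∈ m.toIdeal := fun a ha => hG ▸ Submodule.subset_span ha
      choose! t ht hta using fun a (ha : a ∈ G) => ih (a • y) (by
          have : mkX (a • y) = algebraMap R (Localization S) a • mkX y := by rw [map_smul, algebraMap_smul]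
          rw [this, map_smul, hy, smul_zero])
        (fun c hc => by
          rw [← mul_smul]; exact hyN _ (by rw [pow_succ]; exact Ideal.mul_mem_mul hc (hG' a ha)))
      let T' := ∏ a ∈ G, t a
      have hT' : T' ∉ m.toIdeal := fun h => by
        obtain ⟨a, ha, hh⟩ := (Ideal.IsPrime.prod_mem_iff).1 h
        exact ht a ha hh
      have hTy : T' • y ∈ Submodule.torsionBySet R X.carrier (m.toIdeal : Set R) := by
        refine (Submodule.mem_torsionBySet_iff _ _).2 fun a => ?_
        have hle : m.toIdeal ≤ (⊥ : Submodule R X.carrier).comap (LinearMap.toSpanSingleton R X.carrier (T' • y)) := by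
          rw [← hG, Submodule.span_le]
          intro c hc
          show c • (∏ a ∈ G, t a) • y ∈ (⊥ : Submodule R X.carrier)
          rw [Submodule.mem_bot, ← Finset.prod_erase_mul G t hc, mul_smul, smul_comm c, smul_comm c (t c),
            hta c hc, smul_zero]
        exact (Submodule.mem_bot R).1 (hle a.2)
      obtain ⟨s, hs, x, -, hsx⟩ := exists_smul_eq_of_ess 𝒜 (f := f) (p := m.toIdeal) hf.injective hf.grHom
        hf.essential m.isHomogeneous (fun _ _ _ h => h) hTy
      have hx0 : mkH x = 0 := by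
        rw [← hrf, ← hsx, ← mul_smul]
        have : mkX ((s * T') • y) = algebraMap R (Localization S) (s * T') • mkX y := by
          rw [map_smul, algebraMap_smul]
        rw [this, map_smul, hy, smul_zero]
      obtain ⟨u, hu⟩ := (IsLocalizedModule.eq_zero_iff S mkH).1 hx0
      refine ⟨u.1 * (s * T'), fun h => ?_, ?_⟩
      · rcases Ideal.IsPrime.mem_or_mem ‹_› h with h | h
        · exact u.2 h
        · exact (Ideal.IsPrime.mem_or_mem ‹_› h).elim hs hT'
      · rw [mul_smul, mul_smul, hsx, ← map_smul, show u.1 • x = 0 from hu, map_zero]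
  have hsurj : Function.Surjective f := by
    rw [← LinearMap.range_eq_top]
    by_contra hne
    have hrange := isHomogeneous_range (isGrHomDeg_zero_iff.2 hf.grHom)
    obtain ⟨d, y, hy, hyr⟩ : ∃ d y, y ∈ X.gr d ∧ y ∉ LinearMap.range f := by
      by_contra hc
      push Not at hc
      refine hne (eq_top_iff.2 fun y _ => ?_)
      obtain ⟨t, ht, -⟩ := exists_sum_proj X.gr y
      exact ht ▸ sum_mem fun d _ => hc d _ (proj_mem X.gr d y)
    let C : Ideal R := (LinearMap.range f).comap (LinearMap.toSpanSingleton R X.carrier y)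
    have hd : GrLC.IsGrHomDeg 𝒜 X.gr (LinearMap.toSpanSingleton R X.carrier y) d := fun i a ha => by
      rw [LinearMap.toSpanSingleton_apply, add_comm]
      exact mem_of_smul_one hy ha
    have hC : C.IsHomogeneous 𝒜 := isHomogeneous_comap hd hrange
    have hCm : C ≤ m.toIdeal := le_of_isStarLocal hm hC fun h => hyr (by
      have : (1 : R) ∈ C := h ▸ Submodule.mem_top
      simpa [C] using this)
    obtain ⟨⟨x, s⟩, hxs⟩ := IsLocalizedModule.surj S mkH (r (mkX y))
    have h0 : r (mkX (s.1 • y - f x)) = 0 := by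
      rw [map_sub, map_sub, hrf, map_smul, ← algebraMap_smul (Localization S) s.1 (mkX y), map_smul,
        algebraMap_smul]
      exact sub_eq_zero.2 hxs
    obtain ⟨N, hN⟩ : s.1 • y - f x ∈ GrLC.gam m.toIdeal X.carrier := by
      rw [gam_eq_top hXess]; trivial
    obtain ⟨u, hu, hu0⟩ := hker N _ h0 hN
    rw [smul_sub, sub_eq_zero, ← mul_smul, ← map_smul] at hu0
    exact (Ideal.IsPrime.mem_or_mem ‹_› (hCm (show u * s.1 ∈ C from ⟨u • x, hu0.symm⟩))).elim hu s.2
  let φ := LinearEquiv.ofBijective f ⟨hf.injective, hsurj⟩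
  exact ⟨g, e, ⟨hess, isStarInj_of_retraction hf.starInj f φ.symm.toLinearMap hf.grHom
    (isGrHom_symm (e := φ) hf.grHom) (LinearMap.ext fun x => φ.symm_apply_apply x)⟩⟩

theorem length_hom_residueField_eq_one {A : Type u} [CommRing A] [IsLocalRing A] {Y : Type u}
    [AddCommGroup Y] [Module A Y] {g : ResidueField A →ₗ[A] Y} (hg : InjHull.IsInjectiveHull g) :
    Module.length A (Submodule.torsionBySet A Y (maximalIdeal A : Set A)) = 1 := by
  have hle : ∀ y ∈ Submodule.torsionBySet A Y (maximalIdeal A : Set A), y ∈ LinearMap.range g := by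
    intro y hy
    by_cases hy0 : y = 0
    · rw [hy0]; exact zero_mem _
    obtain ⟨a, hay, hne⟩ := H4Inj.exists_smul_mem_range hg.toIsEssentialInj hy0
    have hu : IsUnit a := by
      by_contra hu
      exact hne ((Submodule.mem_torsionBySet_iff _ _).1 hy ⟨a, (mem_maximalIdeal a).2 hu⟩)
    obtain ⟨z, hz⟩ := hay
    exact ⟨(hu.unit⁻¹ : Aˣ) • z, by rw [LinearMap.map_smul_of_tower, hz, inv_smul_eq_iff]; rfl⟩
  have hmem : ∀ z, g z ∈ Submodule.torsionBySet A Y (maximalIdeal A : Set A) := fun z =>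
    (Submodule.mem_torsionBySet_iff _ _).2 fun a => by
      obtain ⟨c, rfl⟩ := Ideal.Quotient.mk_surjective (I := maximalIdeal A) z
      rw [← map_smul]
      exact (congrArg g (Ideal.Quotient.eq_zero_iff_mem.2 ((maximalIdeal A).mul_mem_right c a.2) :)).trans
        (map_zero g)
  have hgi : Function.Injective g := hg.injective
  let e := LinearEquiv.ofBijective (g.codRestrict _ hmem) ⟨fun a b h => hgi (congrArg Subtype.val h),
    fun y => by
      obtain ⟨z, hz⟩ := hle y y.2
      exact ⟨z, Subtype.ext hz⟩⟩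
  rw [← e.length_eq, length_residueField]

end Groth.Agent.H4Gr
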