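import Groth.Agent.H4Gr.Primes

/-!
# Coarsening of gradings along a homomorphism of grading groups
-/

set_option autoImplicit false
set_option linter.unusedSectionVars false

universe u

open DirectSum

namespace Groth.Agent.H4Gr

variable {ι κ : Type} [AddCommGroup ι] [DecidableEq ι] [AddCommGroup κ] [DecidableEq κ]
variable {R : Type u} [CommRing R] {𝒜 : ι → AddSubgroup R} [GradedRing 𝒜]
variable {M : Type u} [AddCommGroup M] [Module R M] {ℳ : ι → AddSubgroup M} [Decomposition ℳ]

/-- The coarsened pieces. -/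
def coarse (φ : ι →+ κ) (ℳ : ι → AddSubgroup M) (h : κ) : AddSubgroup M := ⨆ g ∈ φ ⁻¹' {h}, ℳ g

/-- The component of degree `h` for the coarsened grading. -/
noncomputable def cproj (φ : ι →+ κ) (ℳ : ι → AddSubgroup M) [Decomposition ℳ] (h : κ) : M →+ M :=
  (DirectSum.toAddMonoid fun g => if φ g = h then (ℳ g).subtype else 0).comp
    (decomposeAddEquiv ℳ).toAddMonoidHom

theorem cproj_of_mem (φ : ι →+ κ) {g : ι} {x : M} (hx : x ∈ ℳ g) (h : κ) :
    cproj φ ℳ h x = if φ g = h then x else 0 := by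
  show DirectSum.toAddMonoid _ (decompose ℳ x) = _
  rw [decompose_of_mem ℳ hx, toAddMonoid_of]
  split_ifs <;> rfl

theorem mem_coarse_of_mem (φ : ι →+ κ) {g : ι} {x : M} (hx : x ∈ ℳ g) : x ∈ coarse φ ℳ (φ g) :=
  AddSubgroup.mem_iSup_of_mem g (AddSubgroup.mem_iSup_of_mem rfl hx)

theorem cproj_mem (φ : ι →+ κ) (h : κ) (x : M) : cproj φ ℳ h x ∈ coarse φ ℳ h := by
  induction x using induction ℳ with
  | zero => simp
  | hom g x hx =>
    rw [cproj_of_mem φ hx]
    split_ifs with e
    · exact e ▸ mem_coarse_of_mem φ hx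
    · exact zero_mem _
  | add x y hx hy => rw [map_add]; exact add_mem hx hy

theorem proj_eq_zero_of_mem_coarse {φ : ι →+ κ} {h : κ} {x : M} (hx : x ∈ coarse φ ℳ h) {g : ι}
    (hg : φ g ≠ h) : proj ℳ g x = 0 := by
  induction hx using AddSubgroup.iSup_induction' with
  | hp g' x hx =>
    induction hx using AddSubgroup.iSup_induction' with
    | hp hg' x hx => exact proj_ne hx fun e => hg (by rw [← e]; exact hg')
    | h1 => exact map_zero _
    | hadd x y _ _ ihx ihy => rw [map_add, ihx, ihy, add_zero]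
  | h1 => exact map_zero _
  | hadd x y _ _ ihx ihy => rw [map_add, ihx, ihy, add_zero]

theorem proj_cproj (φ : ι →+ κ) (h : κ) (g : ι) (x : M) :
    proj ℳ g (cproj φ ℳ h x) = if φ g = h then proj ℳ g x else 0 := by
  induction x using induction ℳ with
  | zero => simp
  | hom g' x hx =>
    rw [cproj_of_mem φ hx, proj_of_mem hx]
    by_cases e : g' = g
    · subst e; split_ifs <;> simp_all [proj_same hx]
    · split_ifs <;> simp [proj_ne hx e]
  | add x y hx hy => simp only [map_add, hx, hy]; split_ifs <;> simp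

theorem mem_coarse_iff {φ : ι →+ κ} {h : κ} {x : M} :
    x ∈ coarse φ ℳ h ↔ ∀ g, φ g ≠ h → proj ℳ g x = 0 := by
  refine ⟨fun hx g hg => proj_eq_zero_of_mem_coarse hx hg, fun hx => ?_⟩
  have e : cproj φ ℳ h x = x := ext_proj ℳ fun g => by
    rw [proj_cproj]; split_ifs with e
    · rfl
    · exact (hx g e).symm
  exact e ▸ cproj_mem φ h x

theorem cproj_of_mem_coarse {φ : ι →+ κ} {h' : κ} {x : M} (hx : x ∈ coarse φ ℳ h') (h : κ) :
    cproj φ ℳ h x = if h' = h then x else 0 := by
  refine ext_proj ℳ fun g => ?_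
  rw [proj_cproj]
  by_cases e : h' = h
  · subst e; rw [if_pos rfl]
    split_ifs with e'
    · rfl
    · exact (proj_eq_zero_of_mem_coarse hx e').symm
  · rw [if_neg e, map_zero]
    split_ifs with e'
    · exact proj_eq_zero_of_mem_coarse hx fun e'' => e (e''.symm.trans e')
    · rfl

theorem isInternal_coarse (φ : ι →+ κ) : DirectSum.IsInternal (coarse φ ℳ) := by
  refine isInternal_of _ (cproj φ ℳ) (cproj_mem φ) (fun g x hx h => cproj_of_mem_coarse hx h) fun x => ?_
  induction x using induction ℳ with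
  | zero => exact zero_mem _
  | hom g x hx => exact AddSubgroup.mem_iSup_of_mem (φ g) (mem_coarse_of_mem φ hx)
  | add x y hx hy => exact add_mem hx hy

/-- The coarsened decomposition. -/
@[implicit_reducible]
noncomputable def coarseDec (φ : ι →+ κ) (ℳ : ι → AddSubgroup M) [Decomposition ℳ] :
    Decomposition (coarse φ ℳ) :=
  (isInternal_coarse φ).chooseDecomposition

theorem proj_coarse (φ : ι →+ κ) (h : κ) (x : M) :
    letI := coarseDec φ ℳ
    proj (coarse φ ℳ) h x = cproj φ ℳ h x := by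
  letI := coarseDec φ ℳ
  induction x using induction ℳ with
  | zero => simp
  | hom g x hx => rw [cproj_of_mem φ hx, proj_of_mem (mem_coarse_of_mem φ hx)]
  | add x y hx hy => rw [map_add, map_add, hx, hy]

variable [SetLike.GradedSMul 𝒜 ℳ]

theorem gradedSMul_coarse (φ : ι →+ κ) : SetLike.GradedSMul (coarse φ 𝒜) (coarse φ ℳ) :=
  ⟨fun {h h' a x} ha hx => by
    rw [mem_coarse_iff] at hx ⊢
    intro g hg
    rw [vadd_eq_add] at hg
    obtain ⟨s, hs, -⟩ := exists_sum_proj 𝒜 a
    rw [← hs, Finset.sum_smul, map_sum]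
    refine Finset.sum_eq_zero fun i _ => ?_
    rw [proj_smul (proj_mem 𝒜 i a)]
    by_cases e : φ i = h
    · rw [hx (g - i) (fun e' => hg (by rw [← e, ← e', map_sub]; abel)), smul_zero]
    · rw [proj_eq_zero_of_mem_coarse ha e, zero_smul]⟩

variable (𝒜) in
/-- The coarsened graded ring. -/
@[implicit_reducible]
noncomputable def coarseGradedRing (φ : ι →+ κ) : GradedRing (coarse φ 𝒜) :=
  { coarseDec φ 𝒜 with
    one_mem := map_zero φ ▸ mem_coarse_of_mem φ SetLike.GradedOne.one_mem
    mul_mem := fun i j a b ha hb =>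
      (gradedSMul_coarse (ℳ := 𝒜) φ).smul_mem (i := i) (j := j) ha hb }

end Groth.Agent.H4Gr
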