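import Groth.Prelude.Def_GrLC
import Mathlib.RingTheory.GradedAlgebra.Basic

/-!
# Graded modules: components, homogeneous submodules and bundled constructions
-/

set_option autoImplicit false
set_option linter.unusedSectionVars false

universe u

open DirectSum

namespace Groth.Agent.H4Gr

variable {ι : Type} [AddCommGroup ι] [DecidableEq ι]
variable {R : Type u} [CommRing R] {𝒜 : ι → AddSubgroup R} [GradedRing 𝒜]
variable {M : Type u} [AddCommGroup M] [Module R M] (ℳ : ι → AddSubgroup M) [Decomposition ℳ]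

section Proj

/-- The component of degree `g`. -/
def proj (g : ι) : M →+ M where
  toFun x := (decompose ℳ x g : M)
  map_zero' := by rw [decompose_zero, DirectSum.zero_apply]; rfl
  map_add' x y := by rw [decompose_add, DirectSum.add_apply]; rfl

theorem proj_mem (g : ι) (x : M) : proj ℳ g x ∈ ℳ g := (decompose ℳ x g).2

variable {ℳ}

theorem proj_of_mem {g : ι} {x : M} (hx : x ∈ ℳ g) (h : ι) : proj ℳ h x = if g = h then x else 0 := by
  split_ifs with e
  · subst e; exact decompose_of_mem_same ℳ hx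
  · exact decompose_of_mem_ne ℳ hx e

theorem proj_same {g : ι} {x : M} (hx : x ∈ ℳ g) : proj ℳ g x = x := by rw [proj_of_mem hx, if_pos rfl]

theorem proj_ne {g h : ι} {x : M} (hx : x ∈ ℳ g) (e : g ≠ h) : proj ℳ h x = 0 := by
  rw [proj_of_mem hx, if_neg e]

variable (ℳ) in
theorem induction {motive : M → Prop} (zero : motive 0) (hom : ∀ (g : ι) (x : M), x ∈ ℳ g → motive x)
    (add : ∀ x y, motive x → motive y → motive (x + y)) (x : M) : motive x :=
  Decomposition.inductionOn ℳ zero (fun {g} m => hom g m.1 m.2) add x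

variable (ℳ) in
theorem ext_proj {x y : M} (h : ∀ g, proj ℳ g x = proj ℳ g y) : x = y :=
  (decompose ℳ).injective (DFinsupp.ext fun g => Subtype.ext (h g))

variable (ℳ) in
theorem exists_sum_proj (x : M) : ∃ s : Finset ι, (∑ g ∈ s, proj ℳ g x) = x ∧ ∀ g ∉ s, proj ℳ g x = 0 := by
  classical
  refine ⟨(decompose ℳ x).support, DirectSum.sum_support_decompose ℳ x, fun g hg => ?_⟩
  have : decompose ℳ x g = 0 := by simpa using hg
  show ((decompose ℳ x g : ℳ g) : M) = 0
  rw [this]; rfl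

variable [SetLike.GradedSMul 𝒜 ℳ]

variable (𝒜) in
theorem smul_mem {i g : ι} {r : R} {x : M} (hr : r ∈ 𝒜 i) (hx : x ∈ ℳ g) : r • x ∈ ℳ (i + g) := by
  have h := SetLike.GradedSMul.smul_mem (A := 𝒜) (B := ℳ) hr hx
  rwa [vadd_eq_add] at h

theorem proj_smul {i : ι} {r : R} (hr : r ∈ 𝒜 i) (g : ι) (x : M) :
    proj ℳ g (r • x) = r • proj ℳ (g - i) x := by
  induction x using induction ℳ with
  | zero => simp
  | hom j x hx =>
    rw [proj_of_mem (smul_mem 𝒜 hr hx), proj_of_mem hx]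
    by_cases e : i + j = g
    · subst e; simp
    · rw [if_neg e, if_neg (fun e' => e (by rw [e']; abel)), smul_zero]
  | add x y hx hy => simp only [smul_add, map_add, hx, hy]

theorem mem_of_smul_one {x : M} {g : ι} (hx : x ∈ ℳ g) {i : ι} {r : R} (hr : r ∈ 𝒜 i) :
    r • x ∈ ℳ (g + i) := add_comm i g ▸ smul_mem 𝒜 hr hx

end Proj

section Maps

variable {N : Type u} [AddCommGroup N] [Module R N] (𝒩 : ι → AddSubgroup N) [Decomposition 𝒩]
variable {ℳ 𝒩}

theorem map_proj {f : M →ₗ[R] N} {d : ι} (hf : GrLC.IsGrHomDeg ℳ 𝒩 f d) (g : ι) (x : M) :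
    f (proj ℳ g x) = proj 𝒩 (g + d) (f x) := by
  induction x using induction ℳ with
  | zero => simp
  | hom j x hx =>
    rw [proj_of_mem hx, proj_of_mem (hf j x hx)]
    by_cases e : j = g
    · simp [e]
    · rw [if_neg e, if_neg (fun e' => e (add_right_cancel e')), map_zero]
  | add x y hx hy => simp only [map_add, hx, hy]

theorem isGrHomDeg_zero_iff {f : M →ₗ[R] N} : GrLC.IsGrHomDeg ℳ 𝒩 f 0 ↔ GrLC.IsGrHom ℳ 𝒩 f :=
  ⟨fun h g m hm => by simpa using h g m hm, fun h g m hm => by simpa using h g m hm⟩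

theorem map_proj₀ {f : M →ₗ[R] N} (hf : GrLC.IsGrHom ℳ 𝒩 f) (g : ι) (x : M) :
    f (proj ℳ g x) = proj 𝒩 g (f x) := by
  simpa using map_proj (isGrHomDeg_zero_iff.2 hf) g x

theorem exists_preimage_mem {f : M →ₗ[R] N} {d : ι} (hf : GrLC.IsGrHomDeg ℳ 𝒩 f d) {g : ι} {y : N}
    (hy : y ∈ 𝒩 (g + d)) (hr : y ∈ LinearMap.range f) : ∃ x ∈ ℳ g, f x = y := by
  obtain ⟨x, rfl⟩ := hr
  exact ⟨proj ℳ g x, proj_mem ℳ g x, by rw [map_proj hf, proj_same hy]⟩

variable {L : Type u} [AddCommGroup L] [Module R L] {𝓛 : ι → AddSubgroup L}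

theorem isGrHom_comp {f : M →ₗ[R] N} {g : N →ₗ[R] L} (hg : GrLC.IsGrHom 𝒩 𝓛 g)
    (hf : GrLC.IsGrHom ℳ 𝒩 f) : GrLC.IsGrHom ℳ 𝓛 (g ∘ₗ f) := fun i m hm => hg i _ (hf i m hm)

theorem isGrHomDeg_comp {f : M →ₗ[R] N} {g : N →ₗ[R] L} {d e : ι} (hg : GrLC.IsGrHomDeg 𝒩 𝓛 g e)
    (hf : GrLC.IsGrHomDeg ℳ 𝒩 f d) : GrLC.IsGrHomDeg ℳ 𝓛 (g ∘ₗ f) (d + e) :=
  fun i m hm => add_assoc i d e ▸ hg _ _ (hf i m hm)

theorem isGrHom_id : GrLC.IsGrHom ℳ ℳ (LinearMap.id : M →ₗ[R] M) := fun _ _ hm => hm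

theorem isGrHom_symm {e : M ≃ₗ[R] N} (he : GrLC.IsGrHom ℳ 𝒩 e.toLinearMap) :
    GrLC.IsGrHom 𝒩 ℳ e.symm.toLinearMap := fun g y hy => by
  obtain ⟨x, hx, hxy⟩ := exists_preimage_mem (isGrHomDeg_zero_iff.2 he) (g := g) (y := y)
    (by simpa using hy) ⟨e.symm y, e.apply_symm_apply y⟩
  have : e.symm y = x := by rw [← hxy]; exact e.symm_apply_apply x
  show e.symm y ∈ ℳ g
  rw [this]; exact hx

end Maps

section Hom

variable [SetLike.GradedSMul 𝒜 ℳ]
variable {ℳ} {N : Type u} [AddCommGroup N] [Module R N] {𝒩 : ι → AddSubgroup N} [Decomposition 𝒩]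

theorem isHomogeneous_iff {p : Submodule R M} :
    p.IsHomogeneous ℳ ↔ ∀ g, ∀ x ∈ p, proj ℳ g x ∈ p :=
  ⟨fun h g _ hx => h g hx, fun h g _ hx => h g _ hx⟩

theorem isHomogeneous_bot : (⊥ : Submodule R M).IsHomogeneous ℳ :=
  isHomogeneous_iff.2 fun g x hx => by simp [(Submodule.mem_bot R).1 hx]

theorem isHomogeneous_top : (⊤ : Submodule R M).IsHomogeneous ℳ :=
  isHomogeneous_iff.2 fun _ _ _ => trivial

theorem isHomogeneous_inf {p q : Submodule R M} (hp : p.IsHomogeneous ℳ) (hq : q.IsHomogeneous ℳ) :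
    (p ⊓ q).IsHomogeneous ℳ :=
  isHomogeneous_iff.2 fun g _ hx => ⟨hp g hx.1, hq g hx.2⟩

theorem isHomogeneous_iSup {κ : Sort*} {p : κ → Submodule R M} (hp : ∀ k, (p k).IsHomogeneous ℳ) :
    (⨆ k, p k).IsHomogeneous ℳ :=
  isHomogeneous_iff.2 fun g x hx => by
    induction hx using Submodule.iSup_induction' with
    | mem k x hx => exact Submodule.mem_iSup_of_mem k (hp k g hx)
    | zero => simp
    | add x y _ _ ihx ihy => rw [map_add]; exact add_mem ihx ihy

theorem isHomogeneous_sup {p q : Submodule R M} (hp : p.IsHomogeneous ℳ) (hq : q.IsHomogeneous ℳ) :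
    (p ⊔ q).IsHomogeneous ℳ :=
  isHomogeneous_iff.2 fun g x hx => by
    obtain ⟨a, ha, b, hb, rfl⟩ := Submodule.mem_sup.1 hx
    rw [map_add]; exact Submodule.add_mem_sup (hp g ha) (hq g hb)

theorem isHomogeneous_ker {f : M →ₗ[R] N} {d : ι} (hf : GrLC.IsGrHomDeg ℳ 𝒩 f d) :
    (LinearMap.ker f).IsHomogeneous ℳ :=
  isHomogeneous_iff.2 fun g x hx => by
    rw [LinearMap.mem_ker] at hx ⊢
    rw [map_proj hf, hx, map_zero]

theorem isHomogeneous_map {f : M →ₗ[R] N} {d : ι} (hf : GrLC.IsGrHomDeg ℳ 𝒩 f d) {p : Submodule R M}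
    (hp : p.IsHomogeneous ℳ) : (p.map f).IsHomogeneous 𝒩 :=
  fun g y hy => by
    obtain ⟨x, hx, rfl⟩ := hy
    refine ⟨proj ℳ (g - d) x, hp _ hx, ?_⟩
    rw [map_proj hf, sub_add_cancel]; rfl

theorem isHomogeneous_range {f : M →ₗ[R] N} {d : ι} (hf : GrLC.IsGrHomDeg ℳ 𝒩 f d) :
    (LinearMap.range f).IsHomogeneous 𝒩 := by
  rw [LinearMap.range_eq_map]; exact isHomogeneous_map hf isHomogeneous_top

theorem isHomogeneous_comap {f : M →ₗ[R] N} {d : ι} (hf : GrLC.IsGrHomDeg ℳ 𝒩 f d) {p : Submodule R N}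
    (hp : p.IsHomogeneous 𝒩) : (p.comap f).IsHomogeneous ℳ :=
  isHomogeneous_iff.2 fun g x hx => by
    rw [Submodule.mem_comap, map_proj hf]; exact hp _ hx

variable (𝒜) in
include 𝒜 in
theorem isHomogeneous_span {s : Set M} (hs : ∀ x ∈ s, ∃ g, x ∈ ℳ g) :
    (Submodule.span R s).IsHomogeneous ℳ :=
  isHomogeneous_iff.2 fun g x hx => by
    induction hx using Submodule.span_induction generalizing g with
    | mem x hx =>
      obtain ⟨j, hj⟩ := hs x hx
      rw [proj_of_mem hj]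
      split_ifs
      · exact Submodule.subset_span hx
      · exact zero_mem _
    | zero => simp
    | add x y _ _ ihx ihy => rw [map_add]; exact add_mem (ihx g) (ihy g)
    | smul r x _ ih =>
      induction r using induction 𝒜 with
      | zero => simp
      | hom i r hr => rw [proj_smul hr]; exact Submodule.smul_mem _ r (ih _)
      | add a b ha hb => rw [add_smul, map_add]; exact add_mem ha hb

theorem exists_homogeneous_ne_zero {p : Submodule R M} (hp : p.IsHomogeneous ℳ) (hne : p ≠ ⊥) :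
    ∃ g, ∃ x ∈ ℳ g, x ∈ p ∧ x ≠ 0 := by
  obtain ⟨x, hx, hx0⟩ := Submodule.exists_mem_ne_zero_of_ne_bot hne
  by_contra h
  push Not at h
  refine hx0 (ext_proj ℳ fun g => ?_)
  rw [map_zero]
  exact h g _ (proj_mem ℳ g x) (hp g hx)

end Hom

section Constructions

omit [Module R M] [Decomposition ℳ] in
theorem isInternal_of (π : ι → M →+ M) (_hmem : ∀ g x, π g x ∈ ℳ g)
    (hsame : ∀ g, ∀ x ∈ ℳ g, ∀ h, π h x = if g = h then x else 0)
    (hspan : ∀ x, x ∈ ⨆ g, ℳ g) : DirectSum.IsInternal ℳ := by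
  refine ⟨fun a b hab => ?_, fun x => ?_⟩
  · have key : ∀ (c : ⨁ g, ℳ g) (h : ι),
        π h (DirectSum.coeAddMonoidHom ℳ c) = (c h : M) := by
      intro c h
      induction c using DirectSum.induction_on with
      | zero => simp
      | of i x =>
        rw [DirectSum.coeAddMonoidHom_of, hsame i x x.2, DirectSum.coe_of_apply]
        split_ifs <;> simp
      | add a b ha hb => rw [map_add, map_add, ha, hb, DirectSum.add_apply]; rfl
    exact DFinsupp.ext fun h => Subtype.ext (by rw [← key a h, ← key b h, hab])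
  · induction hspan x using AddSubgroup.iSup_induction' with
    | hp g x hx => exact ⟨DirectSum.of (fun g => ℳ g) g ⟨x, hx⟩, DirectSum.coeAddMonoidHom_of _ _ _⟩
    | h1 => exact ⟨0, map_zero _⟩
    | hadd x y _ _ hx hy =>
      obtain ⟨a, ha⟩ := hx
      obtain ⟨b, hb⟩ := hy
      exact ⟨a + b, by rw [map_add, ha, hb]⟩

variable [SetLike.GradedSMul 𝒜 ℳ]

/-- The pieces of a homogeneous submodule. -/
def subGr (p : Submodule R M) (g : ι) : AddSubgroup p := (ℳ g).comap p.toAddSubgroup.subtype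

variable {ℳ}

theorem mem_subGr {p : Submodule R M} {g : ι} {x : p} : x ∈ subGr ℳ p g ↔ (x : M) ∈ ℳ g := Iff.rfl

theorem isInternal_subGr {p : Submodule R M} (hp : p.IsHomogeneous ℳ) :
    DirectSum.IsInternal (subGr ℳ p) := by
  refine isInternal_of _ (fun g => AddMonoidHom.mk' (fun x : p => (⟨proj ℳ g x, hp g x.2⟩ : p))
    fun x y => Subtype.ext (map_add (proj ℳ g) (x : M) y)) (fun g x => proj_mem ℳ g x)
    (fun g x hx h => ?_) fun x => ?_
  · refine Subtype.ext ?_
    show proj ℳ h x = _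
    rw [proj_of_mem (mem_subGr.1 hx)]
    split_ifs <;> rfl
  · obtain ⟨s, hs, -⟩ := exists_sum_proj ℳ (x : M)
    have : x = ∑ g ∈ s, (⟨proj ℳ g x, hp g x.2⟩ : p) := Subtype.ext (by
      rw [Submodule.coe_sum]; exact hs.symm)
    rw [this]
    exact sum_mem fun g _ => AddSubgroup.mem_iSup_of_mem g (proj_mem ℳ g _)

theorem gradedSMul_subGr (p : Submodule R M) : SetLike.GradedSMul 𝒜 (subGr ℳ p) :=
  ⟨fun {_ _ _ _} ha hx => mem_subGr.2 (SetLike.GradedSMul.smul_mem (B := ℳ) ha (mem_subGr.1 hx))⟩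

variable (𝒜) in
/-- A homogeneous submodule as a graded module. -/
@[implicit_reducible]
noncomputable def subMod (p : Submodule R M) (hp : p.IsHomogeneous ℳ) : GrLC.GMod.{u} 𝒜 :=
  { carrier := p
    gr := subGr ℳ p
    dec := (isInternal_subGr hp).chooseDecomposition
    gsmul := gradedSMul_subGr p }

variable (ℳ) in
/-- The pieces of a quotient. -/
def quotPieces (p : Submodule R M) (g : ι) : AddSubgroup (M ⧸ p) := (ℳ g).map p.mkQ.toAddMonoidHom

theorem mk_mem_quotPieces {p : Submodule R M} {g : ι} {x : M} (hx : x ∈ ℳ g) :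
    (Submodule.Quotient.mk x : M ⧸ p) ∈ quotPieces ℳ p g := ⟨x, hx, rfl⟩

theorem isInternal_quotPieces {p : Submodule R M} (hp : p.IsHomogeneous ℳ) :
    DirectSum.IsInternal (quotPieces ℳ p) := by
  refine isInternal_of _ (fun g => QuotientAddGroup.map p.toAddSubgroup p.toAddSubgroup (proj ℳ g)
    fun x hx => hp g hx) (fun g x => ?_) (fun g x hx h => ?_) fun x => ?_
  · induction x using Submodule.Quotient.induction_on with
    | _ x => exact mk_mem_quotPieces (proj_mem ℳ g x)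
  · obtain ⟨x, hx, rfl⟩ := hx
    show (Submodule.Quotient.mk (proj ℳ h x) : M ⧸ p) = _
    rw [proj_of_mem hx]
    split_ifs <;> rfl
  · induction x using Submodule.Quotient.induction_on with
    | _ x =>
      induction x using induction ℳ with
      | zero => exact zero_mem _
      | hom g x hx => exact AddSubgroup.mem_iSup_of_mem g (mk_mem_quotPieces hx)
      | add x y hx hy => exact add_mem hx hy

theorem gradedSMul_quotPieces (p : Submodule R M) : SetLike.GradedSMul 𝒜 (quotPieces ℳ p) :=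
  ⟨fun {i j a x} ha hx => by
    obtain ⟨x, hx, rfl⟩ := hx
    exact ⟨a • x, SetLike.GradedSMul.smul_mem (B := ℳ) ha hx, map_smul p.mkQ a x⟩⟩

variable (𝒜) in
/-- A quotient by a homogeneous submodule as a graded module. -/
@[implicit_reducible]
noncomputable def quotMod (p : Submodule R M) (hp : p.IsHomogeneous ℳ) : GrLC.GMod.{u} 𝒜 :=
  { carrier := M ⧸ p
    gr := quotPieces ℳ p
    dec := (isInternal_quotPieces hp).chooseDecomposition
    gsmul := gradedSMul_quotPieces p }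

theorem isGrHom_subtype (p : Submodule R M) : GrLC.IsGrHom (subGr ℳ p) ℳ p.subtype := fun _ _ h => h

theorem isGrHom_mkQ (p : Submodule R M) : GrLC.IsGrHom ℳ (quotPieces ℳ p) p.mkQ :=
  fun _ _ h => mk_mem_quotPieces h

variable (𝒜) in
/-- The inclusion of a homogeneous submodule. -/
def subIncl (p : Submodule R M) (hp : p.IsHomogeneous ℳ) : (subMod 𝒜 p hp).carrier →ₗ[R] M :=
  p.subtype

theorem isGrHom_subIncl (p : Submodule R M) (hp : p.IsHomogeneous ℳ) :
    GrLC.IsGrHom (subMod 𝒜 p hp).gr ℳ (subIncl 𝒜 p hp) := fun _ _ h => h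

variable (𝒜) in
/-- The projection onto a quotient by a homogeneous submodule. -/
def quotProj (p : Submodule R M) (hp : p.IsHomogeneous ℳ) : M →ₗ[R] (quotMod 𝒜 p hp).carrier :=
  p.mkQ

theorem isGrHom_quotProj (p : Submodule R M) (hp : p.IsHomogeneous ℳ) :
    GrLC.IsGrHom ℳ (quotMod 𝒜 p hp).gr (quotProj 𝒜 p hp) := isGrHom_mkQ p

variable (ℳ) in
/-- The pieces of the shift `M(d)`. -/
def shiftPieces (d : ι) (g : ι) : AddSubgroup M := ℳ (g + d)

theorem isInternal_shiftPieces (d : ι) : DirectSum.IsInternal (shiftPieces ℳ d) :=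
  isInternal_of _ (fun g => proj ℳ (g + d)) (fun g x => proj_mem ℳ (g + d) x)
    (fun g x hx h => by rw [proj_of_mem (show x ∈ ℳ (g + d) from hx)]; simp) fun x => by
    induction x using induction ℳ with
    | zero => exact zero_mem _
    | hom g x hx =>
      exact AddSubgroup.mem_iSup_of_mem (g - d) (show x ∈ ℳ (g - d + d) by rwa [sub_add_cancel])
    | add x y hx hy => exact add_mem hx hy

theorem gradedSMul_shiftPieces (d : ι) : SetLike.GradedSMul 𝒜 (shiftPieces ℳ d) :=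
  ⟨fun {i j a x} ha hx => by
    show a • x ∈ ℳ ((i +ᵥ j) + d)
    rw [vadd_eq_add, add_assoc]; exact smul_mem 𝒜 ha (show x ∈ ℳ (j + d) from hx)⟩

variable (𝒜 ℳ) in
/-- The shift `M(d)` as a graded module. -/
@[implicit_reducible]
noncomputable def shiftMod (d : ι) : GrLC.GMod.{u} 𝒜 :=
  { carrier := M
    gr := shiftPieces ℳ d
    dec := (isInternal_shiftPieces d).chooseDecomposition
    gsmul := gradedSMul_shiftPieces d }

end Constructions

instance instGradedSMulSelf : SetLike.GradedSMul 𝒜 𝒜 :=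
  ⟨fun {_ _ _ _} ha hb => by rw [vadd_eq_add]; exact SetLike.mul_mem_graded ha hb⟩

end Groth.Agent.H4Gr
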