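import Groth.Agent.H4Gr.KoszulReg
import Groth.Agent.H4LC.Artinian

/-!
# Regularity and generators
-/

set_option autoImplicit false
set_option linter.unusedSectionVars false

universe u

open DirectSum

namespace Groth.Agent.H4Gr

variable {R : Type u} [CommRing R] [IsNoetherianRing R] {𝒜 : ℤ → AddSubgroup R} [GradedRing 𝒜]
variable {M : Type u} [AddCommGroup M] [Module R M] {ℳ : ℤ → AddSubgroup M} [Decomposition ℳ]
  [SetLike.GradedSMul 𝒜 ℳ]
variable (hpos : ∀ n : ℤ, n < 0 → 𝒜 n = ⊥)

include hpos in
theorem exists_lower_bound [Module.Finite R M] : ∃ g₀ : ℤ, ∀ g : ℤ, g < g₀ → ∀ x ∈ ℳ g, x = 0 := by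
  obtain ⟨k, v, deg, hdeg, hspan⟩ := exists_homogeneous_generators 𝒜 ℳ
  refine ⟨-∑ i, ((deg i).natAbs : ℤ), fun g hg x hx => ?_⟩
  have key : ∀ y : M, proj ℳ g y = 0 := fun y => by
    have hy : y ∈ Submodule.span R (Set.range v) := hspan ▸ Submodule.mem_top
    induction hy using Submodule.span_induction with
    | mem z hz =>
      obtain ⟨i, rfl⟩ := hz
      refine proj_ne (hdeg i) fun e => ?_
      have := Finset.single_le_sum (f := fun i => ((deg i).natAbs : ℤ)) (fun j _ => by positivity) (Finset.mem_univ i)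
      omega
    | zero => exact map_zero _
    | add a b _ _ ha hb => rw [map_add, ha, hb, add_zero]
    | smul r z hz' hz =>
      clear hz
      induction hz' using Submodule.span_induction generalizing r with
      | mem z hz =>
        obtain ⟨i, rfl⟩ := hz
        induction r using induction 𝒜 with
        | zero => rw [zero_smul, map_zero]
        | hom j r hr =>
          rcases lt_or_ge j 0 with hj | hj
          · rw [show r = 0 by simpa [hpos j hj] using hr, zero_smul, map_zero]
          · refine proj_ne (smul_mem 𝒜 hr (hdeg i)) fun e => ?_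
            have := Finset.single_le_sum (f := fun i => ((deg i).natAbs : ℤ)) (fun j _ => by positivity) (Finset.mem_univ i)
            omega
        | add a b ha hb => rw [add_smul, map_add, ha, hb, add_zero]
      | zero => rw [smul_zero, map_zero]
      | add a b _ _ ha hb => rw [smul_add, map_add, ha r, hb r, add_zero]
      | smul s z _ hz => rw [smul_smul]; exact hz (r * s)
  rw [← proj_same hx]
  exact key x

variable {a : HomogeneousIdeal 𝒜} (ha : a.toIdeal = Ideal.span ((𝒜 1 : AddSubgroup R) : Set R))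

include ha in
/-- The degree `g` component of an element of `a M` lies in the span of the previous piece. -/
theorem proj_smul_top_mem {g : ℤ} {P : Submodule R M} (hP : ∀ z ∈ ℳ (g - 1), z ∈ P) {x : M}
    (hx : x ∈ a.toIdeal • (⊤ : Submodule R M)) : proj ℳ g x ∈ P := by
  have key : ∀ r ∈ a.toIdeal, ∀ m : M, proj ℳ g (r • m) ∈ P := fun r hr => by
    rw [ha] at hr
    induction hr using Submodule.span_induction with
    | mem y hy => intro m; rw [proj_smul hy]; exact P.smul_mem _ (hP _ (proj_mem ℳ _ m))
    | zero => intro m; rw [zero_smul, map_zero]; exact P.zero_mem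
    | add y z _ _ hy hz => intro m; rw [add_smul, map_add]; exact P.add_mem (hy m) (hz m)
    | smul c y _ hy => intro m; rw [smul_eq_mul, mul_comm, mul_smul]; exact hy (c • m)
  exact Submodule.smul_induction_on hx (fun r hr m _ => key r hr m)
    fun y z hy hz => by rw [map_add]; exact P.add_mem hy hz

include hpos ha in
/-- Generators of degree at most `r` when the local cohomology vanishes beyond `r`. -/
theorem span_eq_top_of_vanish [Module.Finite R M] (E : GrLC.StarInjRes 𝒜 ℳ) (Q : ℤ → Prop)
    (hQ : ∀ g, ¬ Q g → ∀ i : ℕ, E.Hcomp a i (g - i) = ⊥) :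
    Submodule.span R (⋃ (g : ℤ) (_ : Q g), (ℳ g : Set M)) = ⊤ := by
  set P := Submodule.span R (⋃ (g : ℤ) (_ : Q g), (ℳ g : Set M))
  obtain ⟨g₀, hg₀⟩ := exists_lower_bound (ℳ := ℳ) hpos
  have key : ∀ (k : ℕ) (g : ℤ), g < g₀ + k → ∀ x ∈ ℳ g, x ∈ P := by
    intro k
    induction k with
    | zero =>
      intro g hg x hx
      rw [hg₀ g (by omega) x hx]
      exact P.zero_mem
    | succ k ih =>
      intro g hg x hx
      by_cases hq : Q g
      · exact Submodule.subset_span (Set.mem_iUnion₂.2 ⟨g, hq, hx⟩)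
      rw [← proj_same hx]
      refine proj_smul_top_mem ha (fun z hz => ih (g - 1) (by omega) z hz) ?_
      refine mem_smul_top_of_diag E ha (by simpa using hQ g hq 0) (fun n => ?_) hx
      rw [show g - ((n + 1 : ℕ) : ℤ) = g - ((1 + n : ℕ) : ℤ) by push_cast; ring]
      exact hQ g hq (1 + n)
  refine eq_top_iff.2 fun x _ => ?_
  obtain ⟨s, hs, -⟩ := exists_sum_proj ℳ x
  rw [← hs]
  exact sum_mem fun g _ => key (g - g₀ + 1).toNat g (by omega) _ (proj_mem ℳ g x)

include hpos in
theorem mem_pow_of_mem_piece (ha' : ∀ n : ℤ, 0 < n → ∀ r ∈ 𝒜 n, r ∈ a.toIdeal)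
    (hspan : a.toIdeal = Ideal.span ((𝒜 1 : AddSubgroup R) : Set R)) :
    ∀ (k : ℕ) (r : R), r ∈ 𝒜 (k : ℤ) → r ∈ a.toIdeal ^ k
  | 0, r, _ => by simp
  | k + 1, r, hr => by
    have h : proj 𝒜 ((k + 1 : ℕ) : ℤ) r ∈ a.toIdeal ^ (k + 1) := by
      have hra : r ∈ a.toIdeal := ha' _ (by omega) r hr
      have key : ∀ y ∈ a.toIdeal, ∀ c : R, proj 𝒜 ((k + 1 : ℕ) : ℤ) (y * c) ∈ a.toIdeal ^ (k + 1) := by
        intro y₀ hy₀
        rw [hspan] at hy₀
        induction hy₀ using Submodule.span_induction with
        | mem y hy =>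
          intro c
          rw [← smul_eq_mul, proj_smul (ℳ := 𝒜) hy, pow_succ', smul_eq_mul]
          refine Ideal.mul_mem_mul (hspan ▸ Ideal.subset_span hy) ?_
          have := proj_mem 𝒜 (((k + 1 : ℕ) : ℤ) - 1) c
          rw [show ((k + 1 : ℕ) : ℤ) - 1 = (k : ℤ) by push_cast; ring] at this ⊢
          exact mem_pow_of_mem_piece ha' hspan k _ this
        | zero => intro c; rw [zero_mul, map_zero]; exact zero_mem _
        | add y z _ _ hy hz => intro c; rw [add_mul, map_add]; exact add_mem (hy c) (hz c)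
        | smul s y _ hy => intro c; rw [smul_eq_mul, mul_assoc, mul_left_comm]; exact hy (s * c)
      simpa using key r hra 1
    rwa [proj_same hr] at h

end Groth.Agent.H4Gr
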