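import Groth.Agent.H4Gr.StarLocal

/-!
# The top local cohomology of a Gorenstein *local ring is the *injective envelope of the residue field
-/

set_option autoImplicit false
set_option linter.unusedSectionVars false

universe u

open DirectSum CategoryTheory IsLocalRing

namespace Groth.Agent.H4Gr

variable {ι : Type} [AddCommGroup ι] [DecidableEq ι]
variable {R : Type u} [CommRing R] {𝒜 : ι → AddSubgroup R} [GradedRing 𝒜]
variable {M : Type u} [AddCommGroup M] [Module R M] {ℳ : ι → AddSubgroup M} [Decomposition ℳ]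
  [SetLike.GradedSMul 𝒜 ℳ]

theorem gradedSMul_Hgr (a : HomogeneousIdeal 𝒜) (E : GrLC.StarInjRes 𝒜 ℳ) (i : ℕ) :
    SetLike.GradedSMul 𝒜 (E.Hgr a i) :=
  ⟨fun {j g r x} hr hx => by
    obtain ⟨z, hz, rfl⟩ := hx
    exact ⟨r • z, SetLike.GradedSMul.smul_mem (B := (E.X i).gr) hr hz, map_smul (E.toH a i) r z⟩⟩

variable [IsNoetherianRing R]

theorem gam_H_eq_top (a : HomogeneousIdeal 𝒜) (E : GrLC.StarInjRes 𝒜 ℳ) (i : ℕ) :
    GrLC.gam a.toIdeal (E.H a i) = ⊤ := by
  refine eq_top_iff.2 fun x _ => ?_
  obtain ⟨z, rfl⟩ := Submodule.mkQ_surjective _ x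
  obtain ⟨N, hN⟩ := z.2.1
  refine ⟨N, fun r hr => ?_⟩
  rw [← map_smul, show r • z = 0 from Subtype.ext (hN r hr), map_zero]

/-- Localising the top local cohomology of a Gorenstein ring at a prime. -/
theorem exists_hull_localized_H (q : Ideal R) [q.IsPrime] [LocCoh.IsGorensteinRing R] (n : ℕ)
    (hn : q.height = n) :
    ∃ g : ResidueField (Localization.AtPrime q) →ₗ[Localization.AtPrime q]
      LocalizedModule q.primeCompl (LocCoh.H q n R), InjHull.IsInjectiveHull g := by
  let A := Localization.AtPrime q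
  haveI : LocCoh.IsGorensteinLocalRing A := LocCoh.IsGorensteinRing.isGorensteinLocalRing_localization q
  have hd : ringKrullDim A = n := by
    rw [IsLocalization.AtPrime.ringKrullDim_eq_height q A, hn]; rfl
  obtain ⟨g, hg⟩ := H4Goren.exists_isInjectiveHull_H_top A n hd
  obtain ⟨e⟩ := H4LC.nonempty_localization_H q R q.primeCompl n
  let e₀ : LocalizedModule q.primeCompl R ≃ₗ[A] A :=
    (LocalizedModule.equivTensorProduct q.primeCompl R).trans (TensorProduct.AlgebraTensorModule.rid R A A)
  let e₁ := ((localCohomology (q.map (algebraMap R A)) n).mapIso e₀.toModuleIso).toLinearEquiv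
  have hm : q.map (algebraMap R A) = maximalIdeal A := Localization.AtPrime.map_eq_maximalIdeal
  have key : ∀ J : Ideal A, J = maximalIdeal A →
      ∀ e₂ : LocalizedModule q.primeCompl (LocCoh.H q n R) ≃ₗ[A] LocCoh.H J n A,
        ∃ g : ResidueField A →ₗ[A] LocalizedModule q.primeCompl (LocCoh.H q n R), InjHull.IsInjectiveHull g := by
    intro J hJ e₂
    subst hJ
    exact ⟨_, H4Inj.IsInjectiveHull.comp_equiv hg e₂.symm⟩
  exact key _ hm (e.trans e₁)

theorem bassNum_zero_eq_one_of_hull (q : Ideal R) [q.IsPrime] {H : Type u} [AddCommGroup H] [Module R H]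
    {g : ResidueField (Localization.AtPrime q) →ₗ[Localization.AtPrime q] LocalizedModule q.primeCompl H}
    (hg : InjHull.IsInjectiveHull g) : GrLC.bassNum q H 0 = 1 :=
  ((extZeroEquiv (maximalIdeal (Localization.AtPrime q)) (LocalizedModule q.primeCompl H)).length_eq).trans
    (length_hom_residueField_eq_one hg)

variable [Module.Free ℤ ι] [Module.Finite ℤ ι]

/-- The graded top local cohomology of a Gorenstein *local ring. -/
theorem exists_hull_H_top [LocCoh.IsGorensteinRing R] {m : HomogeneousIdeal 𝒜} (hm : GrLC.IsStarLocal 𝒜 m)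
    (n : ℕ) (hn : m.toIdeal.height = n) (I : GrLC.StarInjRes 𝒜 𝒜) :
    letI := (isInternal_Hgr m I n).chooseDecomposition
    haveI := gradedSMul_Hgr m I n
    ∃ (g : ι) (e : (R ⧸ m.toIdeal) →ₗ[R] I.H m n), GrLC.IsStarInjHull 𝒜 (qPieces m g) (I.Hgr m n) e := by
  letI := (isInternal_Hgr m I n).chooseDecomposition
  haveI := gradedSMul_Hgr m I n
  haveI := isPrime_of_isStarLocal hm
  obtain ⟨eH⟩ := nonempty_H_equiv m I n
  obtain ⟨g, hg⟩ := exists_hull_localized_H m.toIdeal n hn
  let S := m.toIdeal.primeCompl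
  let eloc : LocalizedModule S (I.H m n) ≃ₗ[Localization S] LocalizedModule S (LocCoh.H m.toIdeal n R) :=
    IsLocalizedModule.mapEquiv S (LocalizedModule.mkLinearMap S _) (LocalizedModule.mkLinearMap S _)
      (Localization S) eH
  have hg' := H4Inj.IsInjectiveHull.comp_equiv hg eloc.symm
  exact exists_hull_of_simple_socle hm (gam_H_eq_top m I n) (bassNum_zero_eq_one_of_hull m.toIdeal hg')
    hg'.isInjective

end Groth.Agent.H4Gr
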