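import Groth.Agent.H4Gr.Lift
import Groth.Agent.H4Gr.StarGorenstein

/-!
# Functoriality and long exact sequences of graded local cohomology
-/

set_option autoImplicit false
set_option linter.unusedSectionVars false

universe u

open DirectSum

namespace Groth.Agent.H4Gr

variable {ι : Type} [AddCommGroup ι] [DecidableEq ι]
variable {R : Type u} [CommRing R] {𝒜 : ι → AddSubgroup R} [GradedRing 𝒜]
variable {M : Type u} [AddCommGroup M] [Module R M] {ℳ : ι → AddSubgroup M} [Decomposition ℳ]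
  [SetLike.GradedSMul 𝒜 ℳ]
variable {N : Type u} [AddCommGroup N] [Module R N] {𝒩 : ι → AddSubgroup N} [Decomposition 𝒩]
  [SetLike.GradedSMul 𝒜 𝒩]
variable {L : Type u} [AddCommGroup L] [Module R L] {𝓛 : ι → AddSubgroup L} [Decomposition 𝓛]
  [SetLike.GradedSMul 𝒜 𝓛]

theorem map_mem_gam {I : Ideal R} {X Y : Type u} [AddCommGroup X] [Module R X] [AddCommGroup Y] [Module R Y]
    (f : X →ₗ[R] Y) {x : X} (hx : x ∈ GrLC.gam I X) : f x ∈ GrLC.gam I Y := by
  obtain ⟨n, hn⟩ := hx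
  exact ⟨n, fun r hr => by rw [← map_smul, hn r hr, map_zero]⟩

theorem prod_mem_gam {I : Ideal R} {X Y : Type u} [AddCommGroup X] [Module R X] [AddCommGroup Y] [Module R Y]
    {x : X} {y : Y} (hx : x ∈ GrLC.gam I X) (hy : y ∈ GrLC.gam I Y) : (x, y) ∈ GrLC.gam I (X × Y) := by
  rw [show (x, y) = LinearMap.inl R X Y x + LinearMap.inr R X Y y by simp]
  exact add_mem (map_mem_gam _ hx) (map_mem_gam _ hy)

section Functor

variable (a : HomogeneousIdeal 𝒜) {E : GrLC.StarInjRes 𝒜 ℳ} {E' : GrLC.StarInjRes 𝒜 𝒩}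
  {φ ψ : ∀ n, (E.X n).carrier →ₗ[R] (E'.X n).carrier}

/-- The map on graded local cohomology induced by a chain map. -/
noncomputable def Hmap (hc : ∀ n x, φ (n + 1) (E.d n x) = E'.d n (φ n x)) (i : ℕ) :
    E.H a i →ₗ[R] E'.H a i :=
  Submodule.mapQ _ _ ((φ i).restrict (p := E.cocyc a i) (q := E'.cocyc a i) fun x hx =>
      ⟨map_mem_gam _ hx.1, LinearMap.mem_ker.2 (by rw [← hc, LinearMap.mem_ker.1 hx.2, map_zero])⟩)
    (fun x hx => by
      cases i with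
      | zero =>
        show φ 0 (x : (E.X 0).carrier) ∈ E'.cobdy a 0
        rw [show (x : (E.X 0).carrier) = 0 from (Submodule.mem_bot R).1 hx, map_zero]
        exact zero_mem _
      | succ k =>
        obtain ⟨w, hw, hwx⟩ := Submodule.mem_map.1 hx
        exact ⟨φ k w, map_mem_gam _ hw, by rw [← hc, hwx]; rfl⟩)

theorem Hmap_toH (hc : ∀ n x, φ (n + 1) (E.d n x) = E'.d n (φ n x)) (i : ℕ) (z : E.cocyc a i)
    (h : φ i z ∈ E'.cocyc a i) : Hmap a hc i (E.toH a i z) = E'.toH a i ⟨φ i z, h⟩ := rfl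

theorem isGrHomDeg_Hmap {e : ι} (hd : ∀ n, GrLC.IsGrHomDeg (E.X n).gr (E'.X n).gr (φ n) e)
    (hc : ∀ n x, φ (n + 1) (E.d n x) = E'.d n (φ n x)) (i : ℕ) :
    GrLC.IsGrHomDeg (E.Hgr a i) (E'.Hgr a i) (Hmap a hc i) e := by
  rintro g _ ⟨z, hz, rfl⟩
  exact ⟨⟨φ i z, ⟨map_mem_gam _ z.2.1, LinearMap.mem_ker.2 (by rw [← hc, LinearMap.mem_ker.1 z.2.2, map_zero])⟩⟩,
    hd i g _ hz, rfl⟩

theorem toH_eq_iff (i : ℕ) (z w : E.cocyc a i) :
    E.toH a i z = E.toH a i w ↔ (z : (E.X i).carrier) - w ∈ E.cobdy a i :=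
  Submodule.Quotient.eq _

theorem toH_eq_zero_iff (i : ℕ) (z : E.cocyc a i) :
    E.toH a i z = 0 ↔ (z : (E.X i).carrier) ∈ E.cobdy a i :=
  Submodule.Quotient.mk_eq_zero _

theorem toH_surjective (i : ℕ) : Function.Surjective (E.toH a i) := Submodule.mkQ_surjective _

theorem Hmap_eq_of_homotopy (hc : ∀ n x, φ (n + 1) (E.d n x) = E'.d n (φ n x))
    (hc' : ∀ n x, ψ (n + 1) (E.d n x) = E'.d n (ψ n x))
    (s : ∀ n, (E.X (n + 1)).carrier →ₗ[R] (E'.X n).carrier) (h₀ : ∀ x, φ 0 x - ψ 0 x = s 0 (E.d 0 x))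
    (h₁ : ∀ n x, φ (n + 1) x - ψ (n + 1) x = s (n + 1) (E.d (n + 1) x) + E'.d n (s n x)) (i : ℕ) :
    Hmap a hc i = Hmap a hc' i := by
  refine LinearMap.ext fun y => ?_
  obtain ⟨z, rfl⟩ := toH_surjective a i y
  refine (toH_eq_iff a i _ _).2 ?_
  show φ i (z : (E.X i).carrier) - ψ i (z : (E.X i).carrier) ∈ E'.cobdy a i
  cases i with
  | zero => rw [h₀, LinearMap.mem_ker.1 z.2.2, map_zero]; exact zero_mem _
  | succ k =>
    rw [h₁, LinearMap.mem_ker.1 z.2.2, map_zero, zero_add]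
    exact ⟨s k z, map_mem_gam _ z.2.1, rfl⟩

end Functor

section HMapOf

variable (a : HomogeneousIdeal 𝒜) (E : GrLC.StarInjRes 𝒜 ℳ) (E' : GrLC.StarInjRes 𝒜 𝒩)

/-- A chosen chain map over a homogeneous map. -/
noncomputable def lift (f : M →ₗ[R] N) {e : ι} (hf : GrLC.IsGrHomDeg ℳ 𝒩 f e) :
    ∀ n, (E.X n).carrier →ₗ[R] (E'.X n).carrier :=
  (exists_lift (Res.ofStar E) (Res.ofStar E') E'.starInj f hf).choose

theorem isLift_lift (f : M →ₗ[R] N) {e : ι} (hf : GrLC.IsGrHomDeg ℳ 𝒩 f e) :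
    IsLift (Res.ofStar E) (Res.ofStar E') f e (lift E E' f hf) :=
  (exists_lift (Res.ofStar E) (Res.ofStar E') E'.starInj f hf).choose_spec

/-- The map on graded local cohomology induced by a homogeneous map. -/
noncomputable def hmap (f : M →ₗ[R] N) {e : ι} (hf : GrLC.IsGrHomDeg ℳ 𝒩 f e) (i : ℕ) :
    E.H a i →ₗ[R] E'.H a i :=
  Hmap a (isLift_lift E E' f hf).comm i

theorem isGrHomDeg_hmap (f : M →ₗ[R] N) {e : ι} (hf : GrLC.IsGrHomDeg ℳ 𝒩 f e) (i : ℕ) :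
    GrLC.IsGrHomDeg (E.Hgr a i) (E'.Hgr a i) (hmap a E E' f hf i) e :=
  isGrHomDeg_Hmap a (isLift_lift E E' f hf).deg (isLift_lift E E' f hf).comm i

variable {E E'}

theorem hmap_eq {f : M →ₗ[R] N} {e : ι} (hf : GrLC.IsGrHomDeg ℳ 𝒩 f e)
    {φ : ∀ n, (E.X n).carrier →ₗ[R] (E'.X n).carrier}
    (hφ : IsLift (Res.ofStar E) (Res.ofStar E') f e φ) (i : ℕ) :
    hmap a E E' f hf i = Hmap a hφ.comm i := by
  obtain ⟨s, h₀, h₁⟩ := exists_homotopy (Res.ofStar E) (Res.ofStar E') E'.starInj (isLift_lift E E' f hf) hφ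
  exact Hmap_eq_of_homotopy a _ _ s h₀ h₁ i

variable (E)

theorem hmap_smul_id {r : R} {t : ι} (hr : r ∈ 𝒜 t)
    (hf : GrLC.IsGrHomDeg ℳ ℳ (r • (LinearMap.id : M →ₗ[R] M)) t) (i : ℕ) :
    hmap a E E (r • LinearMap.id) hf i = r • LinearMap.id := by
  have hφ : IsLift (Res.ofStar E) (Res.ofStar E) (r • (LinearMap.id : M →ₗ[R] M)) t
      (fun n => r • (LinearMap.id : (E.X n).carrier →ₗ[R] (E.X n).carrier)) :=
    ⟨fun n g m hm => mem_of_smul_one hm hr, fun x => (E.ε.map_smul r x).symm,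
      fun n x => ((E.d n).map_smul r x).symm⟩
  rw [hmap_eq a hf hφ]
  refine LinearMap.ext fun y => ?_
  obtain ⟨z, rfl⟩ := toH_surjective a i y
  exact map_smul (E.toH a i) r z

theorem isGrHomDeg_id : GrLC.IsGrHomDeg ℳ ℳ (LinearMap.id : M →ₗ[R] M) 0 :=
  isGrHomDeg_zero_iff.2 isGrHom_id

theorem isGrHomDeg_smul_id {r : R} {t : ι} (hr : r ∈ 𝒜 t) :
    GrLC.IsGrHomDeg ℳ ℳ (r • (LinearMap.id : M →ₗ[R] M)) t := fun _ _ hm => mem_of_smul_one hm hr

theorem hmap_id (i : ℕ) : hmap a E E LinearMap.id (isGrHomDeg_id (ℳ := ℳ)) i = LinearMap.id := by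
  have hφ : IsLift (Res.ofStar E) (Res.ofStar E) (LinearMap.id : M →ₗ[R] M) 0 (fun _ => LinearMap.id) :=
    ⟨fun n => isGrHomDeg_id, fun x => rfl, fun n x => rfl⟩
  rw [hmap_eq a _ hφ]
  refine LinearMap.ext fun y => ?_
  obtain ⟨z, rfl⟩ := toH_surjective a i y
  rfl

theorem hmap_comp {E} {E'' : GrLC.StarInjRes 𝒜 𝓛} {f : M →ₗ[R] N} {g : N →ₗ[R] L} {e e' : ι}
    (hf : GrLC.IsGrHomDeg ℳ 𝒩 f e) (hg : GrLC.IsGrHomDeg 𝒩 𝓛 g e') (i : ℕ) :
    hmap a E E'' (g ∘ₗ f) (isGrHomDeg_comp hg hf) i = hmap a E' E'' g hg i ∘ₗ hmap a E E' f hf i := by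
  have hF := isLift_lift E E' f hf
  have hG := isLift_lift E' E'' g hg
  have hφ : IsLift (Res.ofStar E) (Res.ofStar E'') (g ∘ₗ f) (e + e')
      (fun n => lift E' E'' g hg n ∘ₗ lift E E' f hf n) :=
    ⟨fun n => isGrHomDeg_comp (hG.deg n) (hF.deg n),
      fun x => (congrArg (lift E' E'' g hg 0) (hF.comm₀ x)).trans (hG.comm₀ _),
      fun n x => (congrArg (lift E' E'' g hg (n + 1)) (hF.comm n x)).trans (hG.comm n _)⟩
  rw [hmap_eq a _ hφ]
  refine LinearMap.ext fun y => ?_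
  obtain ⟨z, rfl⟩ := toH_surjective a i y
  rfl

theorem hmap_congr {E} {f f' : M →ₗ[R] N} {e e' : ι} (hf : GrLC.IsGrHomDeg ℳ 𝒩 f e)
    (hf' : GrLC.IsGrHomDeg ℳ 𝒩 f' e') (h : f = f') (h' : e = e') (i : ℕ) :
    hmap a E E' f hf i = hmap a E E' f' hf' i := by subst h h'; rfl

/-- Any two resolutions give homogeneously isomorphic graded local cohomology. -/
noncomputable def hIso (E₁ E₂ : GrLC.StarInjRes 𝒜 ℳ) (i : ℕ) : E₁.H a i ≃ₗ[R] E₂.H a i :=
  LinearEquiv.ofLinearMap (hmap a E₁ E₂ LinearMap.id isGrHomDeg_id i) (hmap a E₂ E₁ LinearMap.id isGrHomDeg_id i)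
    (by rw [← hmap_comp, hmap_congr a _ isGrHomDeg_id (LinearMap.id_comp _) (add_zero 0), hmap_id])
    (by rw [← hmap_comp, hmap_congr a _ isGrHomDeg_id (LinearMap.id_comp _) (add_zero 0), hmap_id])

end HMapOf

section LES

variable {f : L →ₗ[R] M} {π : M →ₗ[R] N} {e : ι}

variable (EL : GrLC.StarInjRes 𝒜 𝓛) (EN : GrLC.StarInjRes 𝒜 𝒩)

/-- The terms of the horseshoe resolution. -/
@[reducible]
noncomputable def hsX (e : ι) (n : ℕ) : GrLC.GMod.{u} 𝒜 := prodMod (shiftMod 𝒜 (EL.X n).gr (-e)) (EN.X n)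

variable (hf : GrLC.IsGrHomDeg 𝓛 ℳ f e) (hfi : Function.Injective f)
  (hπ : GrLC.IsGrHom ℳ 𝒩 π) (hπs : Function.Surjective π) (hex : Function.Exact f π)

include hf hfi hπ hπs hex in
/-- The horseshoe data. -/
theorem exists_horseshoe : ∃ (h : M →ₗ[R] (EL.X 0).carrier)
    (θ : ∀ n, (EN.X n).carrier →ₗ[R] (EL.X (n + 1)).carrier),
    GrLC.IsGrHomDeg ℳ (EL.X 0).gr h (-e) ∧ (∀ x, h (f x) = EL.ε x) ∧
      (∀ n, GrLC.IsGrHomDeg (EN.X n).gr (EL.X (n + 1)).gr (θ n) (-e)) ∧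
      (∀ x, EL.d 0 (h x) + θ 0 (EN.ε (π x)) = 0) ∧
        ∀ n x, EL.d (n + 1) (θ n x) + θ (n + 1) (EN.d n x) = 0 := by
  obtain ⟨h, hh, hhf⟩ := extend_deg (𝒜 := 𝒜) (EL.starInj 0) hf hfi (g := EL.ε) (d := 0)
    (isGrHomDeg_zero_iff.2 EL.ε_grHom)
  rw [zero_sub] at hh
  have hg0 : GrLC.IsGrHomDeg ℳ (EL.X 1).gr (-(EL.d 0 ∘ₗ h)) (-e) := fun j m hm =>
    neg_mem (EL.d_grHom 0 _ _ (hh j m hm))
  obtain ⟨θ₀, hθ₀, hθ₀e⟩ := exists_step (A := GrLC.GMod.of 𝒜 M ℳ) (B := EN.X 0) (EL.starInj 1) (EN.ε ∘ₗ π)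
    (fun j m hm => EN.ε_grHom j _ (hπ j m hm)) (-(EL.d 0 ∘ₗ h)) hg0 (fun x hx => by
      have h1 : EN.ε (π x) = EN.ε 0 := (LinearMap.mem_ker.1 hx).trans (map_zero _).symm
      obtain ⟨y, rfl⟩ := (hex x).1 (EN.ε_injective h1)
      show -(EL.d 0 (h (f y))) = 0
      rw [show h (f y) = EL.ε y from LinearMap.congr_fun hhf y, (Res.ofStar EL).d_ε, neg_zero])
  have step : ∀ (n : ℕ) (g : (EN.X n).carrier →ₗ[R] (EL.X (n + 1)).carrier),
      ∃ k : (EN.X (n + 1)).carrier →ₗ[R] (EL.X (n + 2)).carrier,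
        GrLC.IsGrHomDeg (EN.X n).gr (EL.X (n + 1)).gr g (-e) →
        LinearMap.ker (EN.d n) ≤ LinearMap.ker (EL.d (n + 1) ∘ₗ g) →
          GrLC.IsGrHomDeg (EN.X (n + 1)).gr (EL.X (n + 2)).gr k (-e) ∧
            k ∘ₗ EN.d n = -(EL.d (n + 1) ∘ₗ g) := fun n g => by
    by_cases hg : GrLC.IsGrHomDeg (EN.X n).gr (EL.X (n + 1)).gr g (-e) ∧
        LinearMap.ker (EN.d n) ≤ LinearMap.ker (EL.d (n + 1) ∘ₗ g)
    · obtain ⟨k, hk⟩ := exists_step (EL.starInj (n + 2)) (EN.d n) (EN.d_grHom n) (-(EL.d (n + 1) ∘ₗ g))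
        (e := -e) (fun j m hm => neg_mem (EL.d_grHom (n + 1) _ _ (hg.1 j m hm)))
        (fun x hx => by
          show -(EL.d (n + 1) (g x)) = 0
          rw [show EL.d (n + 1) (g x) = 0 from hg.2 hx, neg_zero])
      exact ⟨k, fun _ _ => hk⟩
    · exact ⟨0, fun h₁ h₂ => absurd ⟨h₁, h₂⟩ hg⟩
  choose next hnext using step
  let θ : ∀ n, (EN.X n).carrier →ₗ[R] (EL.X (n + 1)).carrier := fun n => n.rec θ₀ next
  have key : ∀ n, GrLC.IsGrHomDeg (EN.X n).gr (EL.X (n + 1)).gr (θ n) (-e) ∧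
      LinearMap.ker (EN.d n) ≤ LinearMap.ker (EL.d (n + 1) ∘ₗ θ n) := fun n => by
    induction n with
    | zero =>
      refine ⟨hθ₀, ?_⟩
      rw [EN.exact_zero]
      rintro _ ⟨y, rfl⟩
      obtain ⟨x, rfl⟩ := hπs y
      show EL.d 1 (θ 0 (EN.ε (π x))) = 0
      rw [show θ 0 (EN.ε (π x)) = -(EL.d 0 (h x)) from LinearMap.congr_fun hθ₀e x, map_neg,
        (Res.ofStar EL).d_d, neg_zero]
    | succ n ih =>
      refine ⟨(hnext n _ ih.1 ih.2).1, ?_⟩
      rw [EN.exact_succ n]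
      rintro _ ⟨x, rfl⟩
      show EL.d (n + 2) (θ (n + 1) (EN.d n x)) = 0
      rw [show θ (n + 1) (EN.d n x) = -(EL.d (n + 1) (θ n x)) from
        LinearMap.congr_fun (hnext n _ ih.1 ih.2).2 x, map_neg, (Res.ofStar EL).d_d, neg_zero]
  refine ⟨h, θ, hh, LinearMap.congr_fun hhf, fun n => (key n).1, fun x => ?_, fun n x => ?_⟩
  · rw [show θ 0 (EN.ε (π x)) = -(EL.d 0 (h x)) from LinearMap.congr_fun hθ₀e x, add_neg_cancel]
  · rw [show θ (n + 1) (EN.d n x) = -(EL.d (n + 1) (θ n x)) from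
      LinearMap.congr_fun (hnext n _ (key n).1 (key n).2).2 x, add_neg_cancel]

variable (a : HomogeneousIdeal 𝒜) (EM : GrLC.StarInjRes 𝒜 ℳ)

include hfi hπs hex in
/-- The long exact sequence of graded local cohomology. -/
theorem exists_les : ∃ δ : ∀ i, EN.H a i →ₗ[R] EL.H a (i + 1),
    (∀ i, GrLC.IsGrHomDeg (EN.Hgr a i) (EL.Hgr a (i + 1)) (δ i) (-e)) ∧
      Function.Injective (hmap a EL EM f hf 0) ∧
      (∀ i, Function.Exact (hmap a EL EM f hf i) (hmap a EM EN π (isGrHomDeg_zero_iff.2 hπ) i)) ∧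
      (∀ i, Function.Exact (hmap a EM EN π (isGrHomDeg_zero_iff.2 hπ) i) (δ i)) ∧
      ∀ i, Function.Exact (δ i) (hmap a EL EM f hf (i + 1)) := by
  obtain ⟨h, θ, hh, hhf, hθ, hθ₀, hθs⟩ := exists_horseshoe EL EN hf hfi hπ hπs hex
  let X := hsX EL EN e
  let d : ∀ n, (X n).carrier →ₗ[R] (X (n + 1)).carrier := fun n =>
    (EL.d n ∘ₗ LinearMap.fst R _ _ + θ n ∘ₗ LinearMap.snd R _ _).prod (EN.d n ∘ₗ LinearMap.snd R _ _)
  have hd : ∀ n (u : (EL.X n).carrier) (v : (EN.X n).carrier), d n (u, v) = (EL.d n u + θ n v, EN.d n v) :=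
    fun n u v => rfl
  let EH : GrLC.StarInjRes 𝒜 ℳ :=
    { X := X
      d := d
      ε := h.prod (EN.ε ∘ₗ π)
      d_grHom := fun n j m hm => ⟨add_mem (EL.d_grHom n _ _ hm.1) (hθ n j _ hm.2), EN.d_grHom n j _ hm.2⟩
      ε_grHom := fun j m hm => ⟨hh j m hm, EN.ε_grHom j _ (hπ j m hm)⟩
      ε_injective := by
        rw [injective_iff_map_eq_zero]
        intro x hx
        have h2 : EN.ε (π x) = EN.ε 0 := (congrArg Prod.snd hx).trans (map_zero EN.ε).symm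
        obtain ⟨y, rfl⟩ := (hex x).1 (EN.ε_injective h2)
        have h1 : EL.ε y = EL.ε 0 := ((hhf y).symm.trans (congrArg Prod.fst hx)).trans (map_zero EL.ε).symm
        rw [EL.ε_injective h1, map_zero]
      exact_zero := by
        refine le_antisymm (fun x hx => ?_) ?_
        · obtain ⟨(u : (EL.X 0).carrier), (v : (EN.X 0).carrier)⟩ := x
          rw [LinearMap.mem_ker, hd, Prod.mk_eq_zero] at hx
          obtain ⟨y, rfl⟩ := EN.exact_zero.le hx.2
          obtain ⟨m, rfl⟩ := hπs y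
          have : EL.d 0 (u - h m) = 0 := by
            rw [map_sub, eq_neg_of_add_eq_zero_left (hθ₀ m)]
            linear_combination (norm := module) hx.1
          obtain ⟨l, hl⟩ := EL.exact_zero.le (LinearMap.mem_ker.2 this)
          refine ⟨m + f l, Prod.ext ?_ ?_⟩
          · show h (m + f l) = u
            rw [map_add, hhf, hl]; abel
          · show EN.ε (π (m + f l)) = EN.ε (π m)
            rw [map_add, hex.apply_apply_eq_zero, add_zero]
        · rintro _ ⟨m, rfl⟩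
          exact Prod.ext (hθ₀ m) ((Res.ofStar EN).d_ε _)
      exact_succ := fun n => by
        refine le_antisymm (fun x hx => ?_) ?_
        · obtain ⟨(u : (EL.X (n + 1)).carrier), (v : (EN.X (n + 1)).carrier)⟩ := x
          rw [LinearMap.mem_ker, hd, Prod.mk_eq_zero] at hx
          obtain ⟨y, rfl⟩ := (EN.exact_succ n).le hx.2
          have : EL.d (n + 1) (u - θ n y) = 0 := by
            rw [map_sub, eq_neg_of_add_eq_zero_left (hθs n y)]
            linear_combination (norm := module) hx.1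
          obtain ⟨l, hl⟩ := (EL.exact_succ n).le (LinearMap.mem_ker.2 this)
          refine ⟨(l, y), (hd n l y).trans (Prod.ext ?_ rfl)⟩
          show EL.d n l + θ n y = u
          rw [hl, sub_add_cancel]
        · rintro _ ⟨⟨u, v⟩, rfl⟩
          rw [LinearMap.mem_ker, hd, hd, map_add, (Res.ofStar EL).d_d, (Res.ofStar EN).d_d, zero_add, hθs]
          rfl
      starInj := fun n => isStarInj_prodMod _ _ (isStarInj_shiftMod _ (EL.starInj n) (-e)) (EN.starInj n) }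
  let inc : ∀ n, (EL.X n).carrier →ₗ[R] (EH.X n).carrier := fun n => LinearMap.inl R _ _
  have hinc : IsLift (Res.ofStar EL) (Res.ofStar EH) f e inc :=
    ⟨fun n j m hm => ⟨by show m ∈ (EL.X n).gr (j + e + -e); rwa [add_neg_cancel_right], zero_mem _⟩,
      fun x => Prod.ext (hhf x).symm (by
        show (0 : (EN.X 0).carrier) = EN.ε (π (f x))
        rw [hex.apply_apply_eq_zero, map_zero]),
      fun n x => ((hd n x 0).trans (Prod.ext (by
        show EL.d n x + θ n 0 = EL.d n x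
        rw [map_zero, add_zero]) (map_zero _))).symm⟩
  let pr : ∀ n, (EH.X n).carrier →ₗ[R] (EN.X n).carrier := fun n => LinearMap.snd R _ _
  have hpr : IsLift (Res.ofStar EH) (Res.ofStar EN) π 0 pr :=
    ⟨fun n j m hm => by rw [add_zero]; exact hm.2, fun x => rfl, fun n x => rfl⟩
  let δ : ∀ i, EN.H a i →ₗ[R] EL.H a (i + 1) := fun i =>
    Submodule.mapQ _ _ ((θ i).restrict (p := EN.cocyc a i) (q := EL.cocyc a (i + 1)) fun x hx =>
        ⟨map_mem_gam _ hx.1, LinearMap.mem_ker.2 (by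
          rw [eq_neg_of_add_eq_zero_left (hθs i x), LinearMap.mem_ker.1 hx.2, map_zero, neg_zero])⟩)
      (fun x hx => by
        cases i with
        | zero =>
          show θ 0 (x : (EN.X 0).carrier) ∈ EL.cobdy a 1
          rw [show (x : (EN.X 0).carrier) = 0 from (Submodule.mem_bot R).1 hx, map_zero]
          exact zero_mem _
        | succ k =>
          obtain ⟨w, hw, hwx⟩ := Submodule.mem_map.1 hx
          refine ⟨-(θ k w), neg_mem (map_mem_gam _ hw), ?_⟩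
          show EL.d (k + 1) (-(θ k w)) = θ (k + 1) (x : (EN.X (k + 1)).carrier)
          rw [map_neg, eq_neg_of_add_eq_zero_left (hθs k w), neg_neg, hwx]; rfl)
  have mk : ∀ i (u : (EL.X i).carrier) (v : (EN.X i).carrier), u ∈ GrLC.gam a.toIdeal _ →
      v ∈ GrLC.gam a.toIdeal _ → EL.d i u + θ i v = 0 → EN.d i v = 0 →
      ((u, v) : (EH.X i).carrier) ∈ EH.cocyc a i := fun i u v hu hv h1 h2 =>
    ⟨prod_mem_gam hu hv, LinearMap.mem_ker.2 ((hd i u v).trans (Prod.ext h1 h2))⟩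
  have e₁ : ∀ i, hmap a EL EM f hf i = (hIso a EH EM i).toLinearMap ∘ₗ Hmap a (E := EL) (E' := EH) (φ := inc) hinc.comm i := fun i => by
    rw [← hmap_eq a hf hinc i]
    refine Eq.trans ?_ (hmap_comp a (E' := EH) hf isGrHomDeg_id i)
    exact hmap_congr a _ _ rfl (add_zero e).symm i
  have e₂ : ∀ i, hmap a EM EN π (isGrHomDeg_zero_iff.2 hπ) i =
      Hmap a (E := EH) (E' := EN) (φ := pr) hpr.comm i ∘ₗ (hIso a EH EM i).symm.toLinearMap := fun i => by
    rw [← hmap_eq a (isGrHomDeg_zero_iff.2 hπ) hpr i]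
    refine Eq.trans ?_ (hmap_comp a (E' := EH) isGrHomDeg_id (isGrHomDeg_zero_iff.2 hπ) i)
    exact hmap_congr a _ _ rfl (add_zero 0).symm i
  have x₁ : ∀ i, Function.Exact (Hmap a (E := EL) (E' := EH) (φ := inc) hinc.comm i) (Hmap a (E := EH) (E' := EN) (φ := pr) hpr.comm i) := fun i y => by
    constructor
    · obtain ⟨⟨⟨(u : (EL.X i).carrier), (v : (EN.X i).carrier)⟩, hz⟩, rfl⟩ := toH_surjective a i y
      intro hy
      have hv : v ∈ EN.cobdy a i := (toH_eq_zero_iff a i _).1 hy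
      have hu : u ∈ GrLC.gam a.toIdeal _ := map_mem_gam (LinearMap.fst R _ _) hz.1
      have hk := (Prod.mk_eq_zero.1 ((hd i u v).symm.trans (LinearMap.mem_ker.1 hz.2)))
      cases i with
      | zero =>
        obtain rfl : v = 0 := (Submodule.mem_bot R).1 hv
        refine ⟨EL.toH a 0 ⟨u, hu, LinearMap.mem_ker.2 (by simpa using hk.1)⟩, ?_⟩
        exact (toH_eq_iff a 0 _ _).2 (by
          show ((u, 0) : (EL.X 0).carrier × (EN.X 0).carrier) - (u, 0) ∈ EH.cobdy a 0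
          rw [sub_self]; exact zero_mem _)
      | succ k =>
        obtain ⟨w, hw, rfl⟩ := hv
        refine ⟨EL.toH a (k + 1) ⟨u - θ k w, sub_mem hu (map_mem_gam _ hw), LinearMap.mem_ker.2 (by
          rw [map_sub, eq_neg_of_add_eq_zero_left (hθs k w)]
          linear_combination (norm := module) hk.1)⟩, ?_⟩
        refine (toH_eq_iff a (k + 1) _ _).2 ⟨(0, -w), prod_mem_gam (zero_mem _) (neg_mem hw), ?_⟩
        refine (hd k 0 (-w)).trans (Prod.ext ?_ ?_)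
        · show EL.d k 0 + θ k (-w) = (u - θ k w) - u
          rw [map_zero, map_neg]; abel
        · show EN.d k (-w) = 0 - EN.d k w
          rw [map_neg]; abel
    · rintro ⟨z, rfl⟩
      obtain ⟨z, rfl⟩ := toH_surjective a i z
      exact (toH_eq_zero_iff a i _).2 (zero_mem _)
  have x₂ : ∀ i, Function.Exact (Hmap a (E := EH) (E' := EN) (φ := pr) hpr.comm i) (δ i) := fun i y => by
    constructor
    · obtain ⟨⟨v, hv⟩, rfl⟩ := toH_surjective a i y
      intro hy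
      obtain ⟨u, hu, hu'⟩ := (toH_eq_zero_iff a (i + 1) _).1 hy
      refine ⟨EH.toH a i ⟨(-u, v), mk i _ _ (neg_mem hu) hv.1 ?_ (LinearMap.mem_ker.1 hv.2)⟩, rfl⟩
      rw [map_neg, hu']
      exact neg_add_cancel _
    · rintro ⟨z, rfl⟩
      obtain ⟨⟨⟨(u : (EL.X i).carrier), (v : (EN.X i).carrier)⟩, hz⟩, rfl⟩ := toH_surjective a i z
      refine (toH_eq_zero_iff a (i + 1) _).2 ⟨-u, neg_mem (map_mem_gam (LinearMap.fst R _ _) hz.1), ?_⟩
      have hk := (Prod.mk_eq_zero.1 ((hd i u v).symm.trans (LinearMap.mem_ker.1 hz.2))).1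
      show EL.d i (-u) = θ i v
      rw [map_neg]
      linear_combination (norm := module) -hk
  have x₃ : ∀ i, Function.Exact (δ i) (Hmap a (E := EL) (E' := EH) (φ := inc) hinc.comm (i + 1)) := fun i y => by
    constructor
    · obtain ⟨⟨x, hx⟩, rfl⟩ := toH_surjective a (i + 1) y
      intro hy
      obtain ⟨⟨u, w⟩, huw, hd'⟩ := (toH_eq_zero_iff a (i + 1) _).1 hy
      have hk := Prod.ext_iff.1 ((hd i u w).symm.trans hd')
      refine ⟨EN.toH a i ⟨w, map_mem_gam (LinearMap.snd R _ _) huw, LinearMap.mem_ker.2 hk.2⟩, ?_⟩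
      refine (toH_eq_iff a (i + 1) _ _).2 ⟨-u, neg_mem (map_mem_gam (LinearMap.fst R _ _) huw), ?_⟩
      show EL.d i (-u) = θ i w - x
      rw [map_neg, show x = EL.d i u + θ i w from hk.1.symm]; abel
    · rintro ⟨z, rfl⟩
      obtain ⟨⟨v, hv⟩, rfl⟩ := toH_surjective a i z
      refine (toH_eq_zero_iff a (i + 1) _).2 ⟨(0, v), prod_mem_gam (zero_mem _) hv.1, ?_⟩
      refine (hd i 0 v).trans (Prod.ext ?_ (LinearMap.mem_ker.1 hv.2))
      show EL.d i 0 + θ i v = θ i v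
      rw [map_zero, zero_add]
  refine ⟨δ, fun i => ?_, ?_, fun i => ?_, fun i => ?_, fun i => ?_⟩
  · rintro g _ ⟨z, hz, rfl⟩
    exact ⟨_, hθ i g _ hz, rfl⟩
  · rw [e₁ 0, LinearMap.coe_comp]
    refine (hIso a EH EM 0).injective.comp ((injective_iff_map_eq_zero _).2 fun y hy => ?_)
    obtain ⟨⟨x, hx⟩, rfl⟩ := toH_surjective a 0 y
    exact (toH_eq_zero_iff a 0 _).2 ((Submodule.mem_bot R).2
      (congrArg Prod.fst ((Submodule.mem_bot R).1 ((toH_eq_zero_iff a 0 _).1 hy)) : x = 0))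
  · rw [e₁ i, e₂ i]
    exact (Function.Exact.iff_of_ladder_linearEquiv (e₁ := LinearEquiv.refl R _) (e₂ := hIso a EH EM i)
      (e₃ := LinearEquiv.refl R _) (by ext; simp) (by ext; simp)).2 (x₁ i)
  · rw [e₂ i]
    intro y
    rw [(x₂ i) y]
    constructor
    · rintro ⟨z, rfl⟩; exact ⟨hIso a EH EM i z, by simp⟩
    · rintro ⟨z, rfl⟩; exact ⟨_, rfl⟩
  · rw [e₁ (i + 1)]
    intro y
    rw [← (x₃ i) y, LinearMap.comp_apply, LinearEquiv.coe_coe, LinearEquiv.map_eq_zero_iff]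

end LES

end Groth.Agent.H4Gr
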