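import Groth.Agent.H4Gr.StarLocal
import Groth.Agent.H05EGA4.Dim

/-!
# Injective dimension of *injective modules
-/

set_option autoImplicit false
set_option linter.unusedSectionVars false

universe u

open CategoryTheory DirectSum

namespace Groth.Agent.H4Gr

variable {R : Type u} [CommRing R] [IsNoetherianRing R]

/-- A Bass number vanishes iff the corresponding `Ext` dies locally. -/
theorem bassNum_eq_zero_iff (p : Ideal R) [p.IsPrime] (M : Type u) [AddCommGroup M] [Module R M] (i : ℕ) :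
    GrLC.bassNum p M i = 0 ↔
      ∀ e : Abelian.Ext.{u} (ModuleCat.of R (R ⧸ p)) (ModuleCat.of R M) i, ∃ s, s ∉ p ∧ s • e = 0 := by
  let L := Localization.AtPrime p
  obtain ⟨e₁⟩ := nonempty_quot_iso p p le_rfl
  let e₂ : (ModuleCat.localizedModuleFunctor.{u} p.primeCompl).obj (ModuleCat.of R M) ≅
      ModuleCat.of L (LocalizedModule p.primeCompl M) :=
    (Shrink.linearEquiv.{u} (Localization p.primeCompl) (LocalizedModule p.primeCompl M)).toModuleIso
  let ek : (L ⧸ p.map (algebraMap R L)) ≃ₗ[L] IsLocalRing.ResidueField L :=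
    Submodule.quotEquivOfEq _ _ Localization.AtPrime.map_eq_maximalIdeal
  let E := ((extLeft e₁ _ i).trans (extRight _ e₂ i)).trans (extLeft ek.toModuleIso _ i)
  haveI : Module.Finite R (ModuleCat.of R (R ⧸ p)) := inferInstanceAs (Module.Finite R (R ⧸ p))
  have hm := isLocMap_ext p (ModuleCat.of R (R ⧸ p)) (ModuleCat.of R M) i
  show Module.length _ _ = 0 ↔ _
  rw [Module.length_eq_zero_iff, ← E.toEquiv.subsingleton_congr]
  constructor
  · intro h e
    obtain ⟨s, hs⟩ := hm.ker e (@Subsingleton.elim _ h _ _)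
    exact ⟨s.1, s.2, hs⟩
  · intro h
    refine subsingleton_of_forall_eq 0 fun z => ?_
    obtain ⟨e, s, hs⟩ := hm.surj z
    obtain ⟨t, ht, hte⟩ := h e
    have h0 := congrArg (algebraMap R L t • ·) hs
    rw [← hm.map_smul, hte, map_zero, ← mul_smul, ← map_mul] at h0
    exact (IsLocalization.map_units L (⟨t * s.1, p.primeCompl.mul_mem ht s.2⟩ : p.primeCompl)).smul_eq_zero.1 h0

/-- Vanishing of Bass numbers at all primes kills `Ext`. -/
theorem subsingleton_ext_of_bassNum (M : Type u) [AddCommGroup M] [Module R M] (i : ℕ)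
    (h : ∀ (p : Ideal R) [p.IsPrime], GrLC.bassNum p M i = 0) (I : Ideal R) :
    Subsingleton (Abelian.Ext.{u} (ModuleCat.of R (R ⧸ I)) (ModuleCat.of R M) i) := by
  induction I using WellFoundedGT.induction with
  | _ I ih =>
  by_cases hI : I = ⊤
  · exact Groth.Agent.H4Depth.subsingleton_ext_of_annihilator_sup_eq_top (by
      rw [Ideal.annihilator_quotient, hI, top_sup_eq]) i
  -- multiplication by `x ∉ I` on `R ⧸ (I : x) → R ⧸ I`
  have seq : ∀ x, x ∉ I → ∀ J : Ideal R, (∀ a, a ∈ J ↔ a * x ∈ I) →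
      ∀ e : Abelian.Ext.{u} (ModuleCat.of R (R ⧸ I)) (ModuleCat.of R M) i,
        ∀ (f : (R ⧸ J) →ₗ[R] (R ⧸ I)), (∀ a, f (Ideal.Quotient.mk J a) = Ideal.Quotient.mk I (a * x)) →
          (Abelian.Ext.mk₀ (ModuleCat.ofHom f)).comp e (zero_add i) = 0 → e = 0 := by
    intro x hx J hJ e f hf he
    have hfi : Function.Injective f := (injective_iff_map_eq_zero _).2 fun y hy => by
      obtain ⟨a, rfl⟩ := Ideal.Quotient.mk_surjective y
      rw [hf, Ideal.Quotient.eq_zero_iff_mem] at hy
      exact Ideal.Quotient.eq_zero_iff_mem.2 ((hJ a).2 hy)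
    let g : (R ⧸ I) →ₗ[R] (R ⧸ (I ⊔ Ideal.span {x})) := Submodule.factor le_sup_left
    have hgs : Function.Surjective g := Submodule.factor_surjective _
    have hfg : Function.Exact f g := fun y => by
      obtain ⟨b, rfl⟩ := Ideal.Quotient.mk_surjective y
      constructor
      · intro hb
        have hb' : b ∈ I ⊔ Ideal.span {x} := Ideal.Quotient.eq_zero_iff_mem.1 hb
        obtain ⟨u, hu, v, hv, rfl⟩ := Submodule.mem_sup.1 hb'
        obtain ⟨a, rfl⟩ := Ideal.mem_span_singleton'.1 hv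
        exact ⟨Ideal.Quotient.mk J a, by rw [hf, map_add, Ideal.Quotient.eq_zero_iff_mem.2 hu, zero_add]⟩
      · rintro ⟨z, hz⟩
        obtain ⟨a, rfl⟩ := Ideal.Quotient.mk_surjective z
        rw [hf] at hz
        rw [← hz]
        exact Ideal.Quotient.eq_zero_iff_mem.2
          (Submodule.mem_sup_right (Ideal.mul_mem_left _ a (Ideal.mem_span_singleton_self x)))
    haveI := ih (I ⊔ Ideal.span {x}) (left_lt_sup.2 fun hle => hx (hle (Ideal.mem_span_singleton_self x)))
    obtain ⟨w, hw⟩ := Abelian.Ext.contravariant_sequence_exact₂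
      (Groth.Agent.H4Depth.shortComplexOf_shortExact f g hfi hgs hfg) _ e he
    rw [← hw, show w = 0 from @Subsingleton.elim _ this _ _]
    exact Abelian.Ext.comp_zero _ _ _ _ _
  by_cases hP : I.IsPrime
  · refine subsingleton_of_forall_eq 0 fun e => ?_
    obtain ⟨s, hs, hse⟩ := (bassNum_eq_zero_iff I M i).1 (h I) e
    refine seq s hs I (fun a => ⟨fun ha => I.mul_mem_right _ ha, fun ha => (hP.mem_or_mem ha).resolve_right hs⟩) e
      (s • LinearMap.id) (fun a => by
        show Ideal.Quotient.mk I (s * a) = _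
        rw [mul_comm]) ?_
    rw [show ModuleCat.ofHom (s • (LinearMap.id : (R ⧸ I) →ₗ[R] (R ⧸ I))) =
      s • 𝟙 (ModuleCat.of R (R ⧸ I)) from rfl, Abelian.Ext.mk₀_smul, Abelian.Ext.smul_comp,
      Abelian.Ext.mk₀_id_comp]
    exact hse
  · rw [Ideal.isPrime_iff] at hP
    push Not at hP
    obtain ⟨x, y, hxy, hx, hy⟩ := hP hI
    let J : Ideal R := Submodule.comap (LinearMap.toSpanSingleton R R y) I
    have hJ : ∀ a, a ∈ J ↔ a * y ∈ I := fun a => Iff.rfl
    have hlt : I < J := lt_of_le_of_ne (fun a ha => (hJ a).2 (I.mul_mem_right _ ha))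
      fun hIJ => hx (hIJ ▸ (hJ x).2 hxy)
    haveI := ih J hlt
    let f : (R ⧸ J) →ₗ[R] (R ⧸ I) := Submodule.mapQ J I (LinearMap.toSpanSingleton R R y) le_rfl
    refine subsingleton_of_forall_eq 0 fun e => seq y hy J hJ e f (fun a => rfl) ?_
    exact Subsingleton.elim _ _

theorem injective_of_bassNum_one (M : Type u) [AddCommGroup M] [Module R M]
    (h : ∀ (p : Ideal R) [p.IsPrime], GrLC.bassNum p M 1 = 0) : Module.Injective R M := by
  haveI := H05EGA4.hasInjectiveDimensionLT_of_ext_quotient 0 (ModuleCat.of R M) fun I =>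
    subsingleton_ext_of_bassNum M 1 h I
  haveI := injective_iff_hasInjectiveDimensionLT_one.2 this
  exact Module.injective_module_of_injective_object R M

theorem bassNum_eq_zero_of_injective (p : Ideal R) [p.IsPrime] (M : Type u) [AddCommGroup M] [Module R M]
    (hM : Module.Injective R M) (i : ℕ) : GrLC.bassNum p M (i + 1) = 0 := by
  haveI := Module.injective_object_of_injective_module R M
  exact (bassNum_eq_zero_iff p M (i + 1)).2 fun e =>
    ⟨1, fun h => Ideal.IsPrime.ne_top ‹_› ((Ideal.eq_top_iff_one p).2 h), by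
      rw [one_smul]; exact e.eq_zero_of_injective⟩

variable {ι : Type} [AddCommGroup ι] [DecidableEq ι] {𝒜 : ι → AddSubgroup R} [GradedRing 𝒜]
variable {M : Type u} [AddCommGroup M] [Module R M] {ℳ : ι → AddSubgroup M} [Decomposition ℳ]
  [SetLike.GradedSMul 𝒜 ℳ]

theorem bassNum_eq_zero_of_isStarInj (hM : GrLC.IsStarInj 𝒜 ℳ) {q : Ideal R} [q.IsPrime]
    (hq : q.IsHomogeneous 𝒜) (i : ℕ) : GrLC.bassNum q M (i + 1) = 0 :=
  (bassNum_eq_zero_iff q M (i + 1)).2 fun e => by
    have hs := subsingleton_ext_of_isStarInj hM (i + 1) (quotMod 𝒜 (ℳ := 𝒜) q hq)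
      (inferInstanceAs (Module.Finite R (R ⧸ q))) i.succ_pos
    exact ⟨1, fun h => Ideal.IsPrime.ne_top ‹_› ((Ideal.eq_top_iff_one q).2 h),
      by rw [one_smul]; exact @Subsingleton.elim _ hs e 0⟩

variable (𝒜 ℳ) in
include ℳ in
theorem bassNum_zero_ne_zero_iff {q : Ideal R} [hqp : q.IsPrime] (hq : q.IsHomogeneous 𝒜) :
    GrLC.bassNum q M 0 ≠ 0 ↔ q ∈ associatedPrimes R M := by
  obtain ⟨κ, b, hb⟩ := exists_torsion_family 𝒜 ℳ hq
  rw [bassNum_zero_eq_card q hb]
  constructor
  · intro h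
    obtain ⟨k⟩ : Nonempty κ := by
      by_contra hk
      rw [not_nonempty_iff] at hk
      exact h ((ENat.card_eq_zero_iff_empty κ).2 hk)
    refine isAssociatedPrime_iff.mpr ⟨hqp, (b k).1, Ideal.ext fun a => ?_⟩
    rw [Submodule.mem_colon_singleton, Submodule.mem_bot]
    refine ⟨fun ha => (Submodule.mem_torsionBySet_iff _ _).1 (b k).2 ⟨a, ha⟩, fun ha => ?_⟩
    have := hb.indep (Finsupp.single k a) (by rw [Finsupp.linearCombination_single]; exact Subtype.ext ha) k
    simpa using this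
  · intro h h0
    obtain ⟨-, v, hv⟩ := isAssociatedPrime_iff.mp h
    have hv' : ∀ a, a ∈ q ↔ a • v = 0 := fun a => by
      rw [hv, Submodule.mem_colon_singleton, Submodule.mem_bot]
    haveI : IsEmpty κ := (ENat.card_eq_zero_iff_empty κ).1 h0
    obtain ⟨s, hs, hsv⟩ := hb.span q (fun _ _ _ h => h)
      ⟨v, (Submodule.mem_torsionBySet_iff _ _).2 fun a => (hv' a).1 a.2⟩
    rw [Set.range_eq_empty, Submodule.span_empty, Submodule.mem_bot] at hsv
    exact hs ((hv' s).2 (congrArg Subtype.val hsv))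

end Groth.Agent.H4Gr
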