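import Groth.Agent.H4Gr.Acyclic

/-!
# `Ext` of a graded cyclic module into a graded module is graded
-/

set_option autoImplicit false
set_option linter.unusedSectionVars false

universe u

open DirectSum CategoryTheory

namespace Groth.Agent.H4Gr

variable {ι : Type} [AddCommGroup ι] [DecidableEq ι]
variable {R : Type u} [CommRing R] {𝒜 : ι → AddSubgroup R} [GradedRing 𝒜]
variable {M : Type u} [AddCommGroup M] [Module R M] {ℳ : ι → AddSubgroup M} [Decomposition ℳ]
  [SetLike.GradedSMul 𝒜 ℳ]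

theorem isHomogeneous_torsionBySet {q : Ideal R} (hq : q.IsHomogeneous 𝒜) :
    (Submodule.torsionBySet R M (q : Set R)).IsHomogeneous ℳ :=
  isHomogeneous_iff.2 fun g x hx => by
    rw [Submodule.mem_torsionBySet_iff] at hx ⊢
    rintro ⟨r, hr⟩
    show r • proj ℳ g x = 0
    obtain ⟨s, hs, -⟩ := exists_sum_proj 𝒜 r
    rw [← hs, Finset.sum_smul]
    refine Finset.sum_eq_zero fun i _ => ?_
    have h := congrArg (proj ℳ (g + i)) (hx ⟨_, hq i hr⟩)
    rw [map_zero, show ((⟨_, hq i hr⟩ : (q : Set R)) : R) = proj 𝒜 i r from rfl,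
      proj_smul (proj_mem 𝒜 i r), add_sub_cancel_right] at h
    exact h

/-- Maps out of `R ⧸ q` are the elements killed by `q`. -/
noncomputable def homQuotEquiv (q : Ideal R) (M : Type u) [AddCommGroup M] [Module R M] :
    ((R ⧸ q) →ₗ[R] M) ≃ₗ[R] Submodule.torsionBySet R M (q : Set R) where
  toFun f := ⟨f 1, (Submodule.mem_torsionBySet_iff _ _).2 fun r => by
    have : (r : R) • (1 : R ⧸ q) = 0 := by
      rw [Algebra.smul_def, mul_one]; exact Ideal.Quotient.eq_zero_iff_mem.2 r.2
    rw [← map_smul, this, map_zero]⟩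
  map_add' f g := rfl
  map_smul' r f := rfl
  invFun x := Submodule.liftQ q (LinearMap.toSpanSingleton R M x.1)
    fun r hr => (Submodule.mem_torsionBySet_iff _ _).1 x.2 ⟨r, hr⟩
  left_inv f := Submodule.linearMap_qext _ (LinearMap.ext_ring (by
    show (1 : R) • f 1 = f (Submodule.Quotient.mk 1)
    rw [one_smul]; rfl))
  right_inv x := Subtype.ext (by
    show (1 : R) • x.1 = x.1
    rw [one_smul])

/-- `Ext^0` out of `R ⧸ q`. -/
noncomputable def extZeroEquiv (q : Ideal R) (M : Type u) [AddCommGroup M] [Module R M] :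
    Abelian.Ext.{u} (ModuleCat.of R (R ⧸ q)) (ModuleCat.of R M) 0 ≃ₗ[R]
      Submodule.torsionBySet R M (q : Set R) :=
  (Abelian.Ext.linearEquiv₀ (R := R)).trans (ModuleCat.homLinearEquiv.trans (homQuotEquiv q M))

theorem extZeroEquiv_comp (q : Ideal R) {M N : Type u} [AddCommGroup M] [Module R M] [AddCommGroup N]
    [Module R N] (g : M →ₗ[R] N) (y : Abelian.Ext.{u} (ModuleCat.of R (R ⧸ q)) (ModuleCat.of R M) 0) :
    (extZeroEquiv q N (y.comp (Abelian.Ext.mk₀ (ModuleCat.ofHom g)) (add_zero 0)) : N) =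
      g (extZeroEquiv q M y : M) := by
  obtain ⟨φ, rfl⟩ := (Abelian.Ext.mk₀_bijective _ _).2 y
  rw [Abelian.Ext.mk₀_comp_mk₀]
  have key : ∀ {M' : Type u} [AddCommGroup M'] [Module R M'] (ψ : ModuleCat.of R (R ⧸ q) ⟶ ModuleCat.of R M'),
      (extZeroEquiv q M' (Abelian.Ext.mk₀ ψ) : M') = ψ.hom 1 := fun ψ => by
    have h : (Abelian.Ext.linearEquiv₀ (R := R)) (Abelian.Ext.mk₀ ψ) = ψ :=
      (Abelian.Ext.mk₀_bijective _ _).1 (Abelian.Ext.mk₀_linearEquiv₀_apply _)
    show ((Abelian.Ext.linearEquiv₀ (R := R)) (Abelian.Ext.mk₀ ψ)).hom 1 = _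
    rw [h]
  rw [key, key]
  rfl

variable [IsNoetherianRing R]

variable (𝒜) in
theorem exists_graded_ext {q : Ideal R} (hq : q.IsHomogeneous 𝒜) : ∀ (i : ℕ) (X : GrLC.GMod.{u} 𝒜),
    ∃ Y : GrLC.GMod.{u} 𝒜,
      Nonempty (Abelian.Ext.{u} (ModuleCat.of R (R ⧸ q)) (ModuleCat.of R X.carrier) i ≃ₗ[R] Y.carrier) := by
  intro i
  induction i with
  | zero => exact fun X => ⟨subMod 𝒜 _ (isHomogeneous_torsionBySet (ℳ := X.gr) hq), ⟨extZeroEquiv q X.carrier⟩⟩
  | succ i ih =>
    intro X
    obtain ⟨J, _, _, hJ, e, he⟩ := exists_injective_module (R := R) X.carrier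
    obtain ⟨I, f, hf, -⟩ := exists_isStarInjHull (𝒜 := 𝒜) (ℳ := X.gr) J e he
    have hrange := isHomogeneous_range (isGrHomDeg_zero_iff.2 hf.grHom)
    let C := quotMod 𝒜 (LinearMap.range f) hrange
    let g : I.carrier →ₗ[R] C.carrier := quotProj 𝒜 _ hrange
    have hgs : Function.Surjective g := Submodule.mkQ_surjective _
    have hfg : Function.Exact f g := LinearMap.exact_map_mkQ_range f
    have hS := Groth.Agent.H4Depth.shortComplexOf_shortExact f g hf.injective hgs hfg
    let N := ModuleCat.of R (R ⧸ q)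
    let δ := hS.extClass.postcompOfLinear R N (rfl : i + 1 = i + 1)
    have hacy : ∀ k, Subsingleton (Abelian.Ext.{u} N (ModuleCat.of R I.carrier) (k + 1)) := fun k =>
      subsingleton_ext_of_isStarInj hf.starInj (k + 1) (quotMod 𝒜 (ℳ := 𝒜) q hq)
        (inferInstanceAs (Module.Finite R (R ⧸ q))) k.succ_pos
    have hsurj : Function.Surjective δ := fun x => by
      obtain ⟨y, hy⟩ := Abelian.Ext.covariant_sequence_exact₁ N hS x (@Subsingleton.elim _ (hacy i) _ 0) rfl
      exact ⟨y, hy⟩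
    cases i with
    | zero =>
      let T := subMod 𝒜 (Submodule.torsionBySet R C.carrier (q : Set R))
        (isHomogeneous_torsionBySet (ℳ := C.gr) hq)
      let ε : Abelian.Ext.{u} N (ModuleCat.of R C.carrier) 0 ≃ₗ[R] T.carrier := extZeroEquiv q C.carrier
      let K : Submodule R T.carrier :=
        ((Submodule.torsionBySet R I.carrier (q : Set R)).map g).comap (subIncl 𝒜 _ _)
      have hK : K.IsHomogeneous T.gr :=
        isHomogeneous_comap (isGrHomDeg_zero_iff.2 (isGrHom_subIncl _ _))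
          (isHomogeneous_map (isGrHomDeg_zero_iff.2 (isGrHom_quotProj _ _))
            (isHomogeneous_torsionBySet (ℳ := I.gr) hq))
      have hker : LinearMap.ker (δ ∘ₗ ε.symm.toLinearMap) = K := by
        ext x
        obtain ⟨z, rfl⟩ := ε.surjective x
        rw [LinearMap.mem_ker]
        show δ (ε.symm (ε z)) = 0 ↔ _
        rw [LinearEquiv.symm_apply_apply]
        constructor
        · intro hz
          obtain ⟨y, hy⟩ := Abelian.Ext.covariant_sequence_exact₃ N hS z rfl hz
          refine ⟨_, (extZeroEquiv q I.carrier y).2, ?_⟩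
          rw [← extZeroEquiv_comp]
          exact congrArg (fun w => (extZeroEquiv q C.carrier w : C.carrier)) hy
        · rintro ⟨m, hm, hmz⟩
          obtain ⟨y, hy⟩ := (extZeroEquiv q I.carrier).surjective ⟨m, hm⟩
          have : z = y.comp (Abelian.Ext.mk₀ (ModuleCat.ofHom g)) (add_zero 0) := by
            refine ε.injective (Subtype.ext ?_)
            show _ = (extZeroEquiv q C.carrier _ : C.carrier)
            rw [extZeroEquiv_comp, hy]
            exact hmz.symm
          rw [this]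
          show Abelian.Ext.comp (y.comp (Abelian.Ext.mk₀ (ModuleCat.ofHom g)) (add_zero 0)) hS.extClass (zero_add 1) = 0
          rw [Abelian.Ext.comp_assoc_of_second_deg_zero]
          exact (congrArg (fun w => y.comp w (zero_add 1)) hS.comp_extClass).trans
            (Abelian.Ext.comp_zero _ _ _ _ _)
      exact ⟨quotMod 𝒜 K hK, ⟨((δ ∘ₗ ε.symm.toLinearMap).quotKerEquivOfSurjective
        (hsurj.comp ε.symm.surjective)).symm.trans (Submodule.quotEquivOfEq _ _ hker)⟩⟩
    | succ k =>
      have hinj : Function.Injective δ := by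
        rw [← LinearMap.ker_eq_bot, eq_bot_iff]
        intro z hz
        obtain ⟨y, rfl⟩ := Abelian.Ext.covariant_sequence_exact₃ N hS z rfl hz
        rw [show y = 0 from @Subsingleton.elim _ (hacy k) _ _]
        exact (Submodule.mem_bot R).2 (Abelian.Ext.zero_comp _ _ _ _ _)
      obtain ⟨Y, ⟨eY⟩⟩ := ih C
      exact ⟨Y, ⟨(LinearEquiv.ofBijective δ ⟨hinj, hsurj⟩).symm.trans eY⟩⟩

end Groth.Agent.H4Gr
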