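import Groth.Agent.H4Gr.CoreHeight

/-!
# A prime that is homogeneous for a coarsening of corank one is principal modulo its core
-/

set_option autoImplicit false
set_option linter.unusedSectionVars false

universe u

open DirectSum

namespace Groth.Agent.H4Gr

variable {ι κ : Type} [AddCommGroup ι] [DecidableEq ι] [AddCommGroup κ] [DecidableEq κ]
variable {R : Type u} [CommRing R] {𝒜 : ι → AddSubgroup R} [GradedRing 𝒜]
variable (φ : ι →+ κ) (w : ι →+ ℤ) (p q : Ideal R)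

/-- Modulo `q`, all components of `y` have weight in `[lo, lo + N]`. -/
def Bnd (w : ι →+ ℤ) (q : Ideal R) (y : R) (lo : ℤ) (N : ℕ) : Prop :=
  ∀ g, proj 𝒜 g y ∉ q → lo ≤ w g ∧ w g ≤ lo + N

theorem exists_bnd (y : R) : ∃ lo N, Bnd (𝒜 := 𝒜) w q y lo N := by
  obtain ⟨s, -, hs0⟩ := exists_sum_proj 𝒜 y
  refine ⟨-((∑ g ∈ s, (w g).natAbs : ℕ) : ℤ), 2 * ∑ g ∈ s, (w g).natAbs, fun g hg => ?_⟩
  have hmem : g ∈ s := by
    by_contra h
    exact hg (by rw [hs0 g h]; exact q.zero_mem)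
  have := Finset.single_le_sum (f := fun g => (w g).natAbs) (fun i _ => Nat.zero_le _) hmem
  omega

theorem mem_of_forall_proj_mem {y : R} (h : ∀ g, proj 𝒜 g y ∈ q) : y ∈ q := by
  obtain ⟨s, hs, -⟩ := exists_sum_proj 𝒜 y
  exact hs ▸ sum_mem fun g _ => h g

theorem proj_mul {i : ι} {r : R} (hr : r ∈ 𝒜 i) (g : ι) (x : R) :
    proj 𝒜 g (r * x) = r * proj 𝒜 (g - i) x := proj_smul (ℳ := 𝒜) hr g x

variable {φ w p q}

section Division

variable [hp : p.IsPrime] (hinj : ∀ g, φ g = 0 → w g = 0 → g = 0) (hqp : q ≤ p)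
  (hhom : q.IsHomogeneous 𝒜) (hq : ∀ g, ∀ x ∈ 𝒜 g, x ∈ p → x ∈ q)
variable {x : R} {hx : κ} (hxh : x ∈ coarse φ 𝒜 hx) (hxp : x ∈ p) {lox : ℤ} {W : ℕ} (hW : 0 < W)
  (hxB : Bnd (𝒜 := 𝒜) w q x lox W)
  (hmin : ∀ (y : R) (h : κ) (lo : ℤ) (N : ℕ), y ∈ coarse φ 𝒜 h → y ∈ p → N < W →
    Bnd (𝒜 := 𝒜) w q y lo N → y ∈ q)

include hinj hqp hhom hq hxh hxp hW hxB hmin in
theorem exists_mul_mem_of_bnd (hxq : x ∉ q) : ∀ (N : ℕ) (y : R) (h : κ) (lo : ℤ),
    y ∈ coarse φ 𝒜 h → y ∈ p → Bnd (𝒜 := 𝒜) w q y lo N →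
      ∃ s, s ∉ p ∧ s * y ∈ Ideal.span {x} ⊔ q := by
  have htop : ∃ gx, φ gx = hx ∧ w gx = lox + W ∧ proj 𝒜 gx x ∉ q := by
    by_contra hc
    push Not at hc
    refine hxq (hmin x hx lox (W - 1) hxh hxp (by omega) fun g hg => ?_)
    have hb := hxB g hg
    have hφ : φ g = hx := by
      by_contra e
      exact hg (by rw [proj_eq_zero_of_mem_coarse hxh e]; exact q.zero_mem)
    have : w g ≠ lox + W := fun e => hg (hc g hφ e)
    omega
  obtain ⟨gx, hgxφ, hgxw, hgx⟩ := htop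
  intro N
  induction N using Nat.strong_induction_on with
  | _ N ih =>
  intro y h lo hy hyp hB
  by_cases hNW : N < W
  · exact ⟨1, fun h1 => hp.ne_top ((Ideal.eq_top_iff_one p).2 h1),
      by rw [one_mul]; exact Submodule.mem_sup_right (hmin y h lo N hy hyp hNW hB)⟩
  by_cases htopy : ∃ gy, φ gy = h ∧ w gy = lo + N ∧ proj 𝒜 gy y ∉ q
  swap
  · push Not at htopy
    refine ih (N - 1) (by omega) y h lo hy hyp fun g hg => ?_
    have hb := hB g hg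
    have hφ : φ g = h := by
      by_contra e
      exact hg (by rw [proj_eq_zero_of_mem_coarse hy e]; exact q.zero_mem)
    have : w g ≠ lo + N := fun e => hg (htopy g hφ e)
    omega
  obtain ⟨gy, hgyφ, hgyw, hgy⟩ := htopy
  set y' := proj 𝒜 gx x * y - proj 𝒜 gy y * x with hy'def
  have hproj : ∀ g, proj 𝒜 g y' =
      proj 𝒜 gx x * proj 𝒜 (g - gx) y - proj 𝒜 gy y * proj 𝒜 (g - gy) x := fun g => by
    rw [hy'def, map_sub, proj_mul (proj_mem 𝒜 gx x), proj_mul (proj_mem 𝒜 gy y)]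
  have hy' : y' ∈ coarse φ 𝒜 (hx + h) := mem_coarse_iff.2 fun g hg => by
    have h1 : proj 𝒜 (g - gx) y = 0 :=
      proj_eq_zero_of_mem_coarse hy fun e => hg (by rw [map_sub, hgxφ] at e; rw [← e]; abel)
    have h2 : proj 𝒜 (g - gy) x = 0 :=
      proj_eq_zero_of_mem_coarse hxh fun e => hg (by rw [map_sub, hgyφ] at e; rw [← e]; abel)
    rw [hproj, h1, h2]
    simp
  have hy'p : y' ∈ p := p.sub_mem (p.mul_mem_left _ hyp) (p.mul_mem_left _ hxp)
  have hB' : Bnd (𝒜 := 𝒜) w q y' (lo + lox + W) (N - 1) := fun g hg => by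
    rw [hproj] at hg
    have hne : w g ≠ lox + W + (lo + N) := fun e => by
      by_cases hgφ : φ g = hx + h
      · have hgeq : g = gx + gy := by
          refine sub_eq_zero.1 (hinj _ ?_ ?_)
          · rw [map_sub, map_add, hgφ, hgxφ, hgyφ, sub_self]
          · rw [map_sub, map_add, e, hgxw, hgyw, sub_self]
        refine hg ?_
        rw [hgeq, add_sub_cancel_left, add_sub_cancel_right, mul_comm, sub_self]
        exact q.zero_mem
      · refine hg ?_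
        rw [← hproj, proj_eq_zero_of_mem_coarse hy' hgφ]
        exact q.zero_mem
    by_cases hy0 : proj 𝒜 (g - gx) y ∈ q
    · have hx0 : proj 𝒜 (g - gy) x ∉ q := fun e => hg (q.sub_mem (q.mul_mem_left _ hy0) (q.mul_mem_left _ e))
      have hb := hxB _ hx0
      rw [map_sub, hgyw] at hb
      omega
    · have hb := hB _ hy0
      rw [map_sub, hgxw] at hb
      omega
  obtain ⟨s, hs, hsy⟩ := ih (N - 1) (by omega) y' (hx + h) _ hy' hy'p hB'
  refine ⟨s * proj 𝒜 gx x, fun e => ?_, ?_⟩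
  · exact (hp.mem_or_mem e).elim hs fun e => hgx (hq gx _ (proj_mem 𝒜 gx x) e)
  · have : s * proj 𝒜 gx x * y = s * y' + (s * proj 𝒜 gy y) * x := by rw [hy'def]; ring
    rw [this]
    exact add_mem hsy (Submodule.mem_sup_left (Ideal.mul_mem_left _ _ (Ideal.mem_span_singleton_self x)))

end Division

variable [hp : p.IsPrime]

/-- A prime homogeneous for a coarsening of corank one is, locally, principal modulo its core. -/
theorem exists_uniformizer (hinj : ∀ g, φ g = 0 → w g = 0 → g = 0) (hqp : q < p)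
    (hhom : q.IsHomogeneous 𝒜) (hq : ∀ g, ∀ x ∈ 𝒜 g, x ∈ p → x ∈ q)
    (hcoarse : ∀ x ∈ p, ∀ h, cproj φ 𝒜 h x ∈ p) :
    ∃ x ∈ p, x ∉ q ∧ ∀ y ∈ p, ∃ s, s ∉ p ∧ s * y ∈ Ideal.span {x} ⊔ q := by
  classical
  have hsum : ∀ y : R, ∃ t : Finset κ, (∑ h ∈ t, cproj φ 𝒜 h y) = y := fun y => by
    letI := coarseDec φ 𝒜
    obtain ⟨t, ht, -⟩ := exists_sum_proj (coarse φ 𝒜) y
    exact ⟨t, by simpa only [proj_coarse] using ht⟩
  obtain ⟨x₀, hx₀, hx₀q⟩ := SetLike.exists_of_lt hqp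
  have hex : ∃ W : ℕ, ∃ x h lo, x ∈ coarse φ 𝒜 h ∧ x ∈ p ∧ x ∉ q ∧ Bnd (𝒜 := 𝒜) w q x lo W := by
    obtain ⟨t, ht⟩ := hsum x₀
    have : ∃ h, cproj φ 𝒜 h x₀ ∉ q := by
      by_contra hc
      push Not at hc
      exact hx₀q (ht ▸ sum_mem fun h _ => hc h)
    obtain ⟨h, hh⟩ := this
    obtain ⟨lo, N, hN⟩ := exists_bnd (𝒜 := 𝒜) w q (cproj φ 𝒜 h x₀)
    exact ⟨N, _, h, lo, cproj_mem φ h x₀, hcoarse x₀ hx₀ h, hh, hN⟩
  obtain ⟨x, hx, lox, hxh, hxp, hxq, hxB⟩ := Nat.find_spec hex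
  have hmin : ∀ (y : R) (h : κ) (lo : ℤ) (N : ℕ), y ∈ coarse φ 𝒜 h → y ∈ p → N < Nat.find hex →
      Bnd (𝒜 := 𝒜) w q y lo N → y ∈ q := fun y h lo N hy hyp hN hB => by
    by_contra hyq
    exact Nat.find_min hex hN ⟨y, h, lo, hy, hyp, hyq, hB⟩
  have hW : 0 < Nat.find hex := by
    by_contra hc
    have hW0 : Nat.find hex = 0 := by omega
    rw [hW0] at hxB
    obtain ⟨g₀, hg₀⟩ : ∃ g₀, proj 𝒜 g₀ x ∉ q := by
      by_contra hc'
      push Not at hc'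
      exact hxq (mem_of_forall_proj_mem q hc')
    have hφ : ∀ g, proj 𝒜 g x ∉ q → φ g = hx ∧ w g = lox := fun g hg => by
      refine ⟨?_, by have := hxB g hg; omega⟩
      by_contra e
      exact hg (by rw [proj_eq_zero_of_mem_coarse hxh e]; exact q.zero_mem)
    have h1 : x - proj 𝒜 g₀ x ∈ q := mem_of_forall_proj_mem q fun g => by
      rw [map_sub, proj_of_mem (proj_mem 𝒜 g₀ x)]
      split_ifs with e
      · rw [e, sub_self]; exact q.zero_mem
      · rw [sub_zero]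
        by_contra hg
        exact e (sub_eq_zero.1 (hinj _ (by rw [map_sub, (hφ _ hg₀).1, (hφ _ hg).1, sub_self])
          (by rw [map_sub, (hφ _ hg₀).2, (hφ _ hg).2, sub_self])))
    exact hg₀ (hq g₀ _ (proj_mem 𝒜 g₀ x) (by simpa using p.sub_mem hxp (hqp.le h1)))
  refine ⟨x, hxp, hxq, fun y hy => ?_⟩
  obtain ⟨t, ht⟩ := hsum y
  have hpiece : ∀ h, ∃ s, s ∉ p ∧ s * cproj φ 𝒜 h y ∈ Ideal.span {x} ⊔ q := fun h => by
    obtain ⟨lo, N, hN⟩ := exists_bnd (𝒜 := 𝒜) w q (cproj φ 𝒜 h y)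
    exact exists_mul_mem_of_bnd hinj hqp.le hhom hq hxh hxp hW hxB hmin hxq N _ h lo
      (cproj_mem φ h y) (hcoarse y hy h) hN
  choose s hs hsy using hpiece
  refine ⟨∏ h ∈ t, s h, fun e => ?_, ?_⟩
  · obtain ⟨h, -, hh⟩ := (hp.prod_mem_iff).1 e
    exact hs h hh
  · conv => arg 2; rw [← ht]
    rw [Finset.mul_sum]
    refine sum_mem fun h hh => ?_
    rw [← Finset.prod_erase_mul t s hh, mul_assoc]
    exact Ideal.mul_mem_left _ _ (hsy h)

end Groth.Agent.H4Gr
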