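import Groth.Agent.H4Gr.FreeLoc
import Groth.Agent.H4Gr.ExtGraded
import Groth.Agent.H4Gr.Width
import Groth.Prelude.Def_GrLC2
import Mathlib.RingTheory.LocalRing.ResidueField.Basic

/-!
# Bass numbers one step above a graded prime
-/

set_option autoImplicit false
set_option linter.unusedSectionVars false

universe u

open CategoryTheory DirectSum

namespace Groth.Agent.H4Gr

variable {ι : Type} [AddCommGroup ι] [DecidableEq ι]
variable {R : Type u} [CommRing R] [IsNoetherianRing R] {𝒜 : ι → AddSubgroup R} [GradedRing 𝒜]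

section Transport

variable {L : Type u} [CommRing L]

/-- `Ext` along an isomorphism of the first argument. -/
noncomputable def extLeft {X X' : ModuleCat.{u} L} (e : X ≅ X') (Y : ModuleCat.{u} L) (n : ℕ) :
    Abelian.Ext.{u} X Y n ≃ₗ[L] Abelian.Ext.{u} X' Y n where
  toFun α := (Abelian.Ext.mk₀ e.inv).comp α (zero_add n)
  map_add' a b := Abelian.Ext.comp_add _ _ _ _
  map_smul' r a := Abelian.Ext.comp_smul _ _ _ _
  invFun α := (Abelian.Ext.mk₀ e.hom).comp α (zero_add n)
  left_inv α := by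
    simp
  right_inv α := by
    simp

/-- `Ext` along an isomorphism of the second argument. -/
noncomputable def extRight (X : ModuleCat.{u} L) {Y Y' : ModuleCat.{u} L} (e : Y ≅ Y') (n : ℕ) :
    Abelian.Ext.{u} X Y n ≃ₗ[L] Abelian.Ext.{u} X Y' n where
  toFun α := α.comp (Abelian.Ext.mk₀ e.hom) (add_zero n)
  map_add' a b := Abelian.Ext.add_comp _ _ _ _
  map_smul' r a := Abelian.Ext.smul_comp _ _ _ _
  invFun α := α.comp (Abelian.Ext.mk₀ e.inv) (add_zero n)
  left_inv α := by
    simp
  right_inv α := by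
    simp

end Transport

section Quot

variable (p q : Ideal R) [p.IsPrime] [q.IsPrime]

local notation "L" => Localization.AtPrime p
local notation "al" => algebraMap R (Localization.AtPrime p)

theorem nonempty_quot_iso (hqp : q ≤ p) :
    Nonempty ((ModuleCat.localizedModuleFunctor.{u} p.primeCompl).obj (ModuleCat.of R (R ⧸ q)) ≅
      ModuleCat.of L (L ⧸ q.map al)) := by
  let X := (ModuleCat.of R (R ⧸ q)).localizedModule p.primeCompl
  let mk := (ModuleCat.of R (R ⧸ q)).localizedModuleMkLinearMap p.primeCompl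
  let φ : L →ₗ[L] X := LinearMap.toSpanSingleton L X (mk (1 : R ⧸ q))
  haveI : IsLocalizedModule p.primeCompl mk := ModuleCat.localizedModule_isLocalizedModule _ _
  have hφ : ∀ r : R, φ (al r) = mk (Ideal.Quotient.mk q r) := fun r => by
    show al r • mk (1 : R ⧸ q) = _
    rw [algebraMap_smul, ← map_smul]
    congr 1
    rw [Algebra.smul_def, mul_one]; rfl
  have hs : Function.Surjective φ := fun z => by
    obtain ⟨⟨y, s⟩, hy⟩ := IsLocalizedModule.surj p.primeCompl mk z
    obtain ⟨r, rfl⟩ := Ideal.Quotient.mk_surjective y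
    refine ⟨IsLocalization.mk' L r s, (IsLocalization.map_units L s).smul_left_cancel.mp ?_⟩
    rw [← map_smul, smul_eq_mul, IsLocalization.mk'_spec', hφ, algebraMap_smul]
    exact hy.symm
  have hk : LinearMap.ker φ = q.map al := by
    ext l
    obtain ⟨⟨r, s⟩, rfl⟩ := IsLocalization.mk'_surjective p.primeCompl l
    rw [LinearMap.mem_ker, IsLocalization.mk'_mem_map_algebraMap_iff p.primeCompl L]
    show φ (IsLocalization.mk' L r s) = 0 ↔ _
    rw [← (IsLocalization.map_units L s).smul_eq_zero, ← map_smul, smul_eq_mul,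
      IsLocalization.mk'_spec', hφ, IsLocalizedModule.eq_zero_iff p.primeCompl mk]
    constructor
    · rintro ⟨t, ht⟩
      refine ⟨t.1, t.2, ?_⟩
      rw [← Ideal.Quotient.eq_zero_iff_mem, map_mul, ← Ideal.Quotient.algebraMap_eq, ← Algebra.smul_def]
      exact ht
    · rintro ⟨t, ht, htr⟩
      refine ⟨⟨t, ht⟩, ?_⟩
      show t • Ideal.Quotient.mk q r = 0
      rw [Algebra.smul_def, Ideal.Quotient.algebraMap_eq, ← map_mul, Ideal.Quotient.eq_zero_iff_mem]
      exact htr
  exact ⟨((φ.quotKerEquivOfSurjective hs).symm.trans (Submodule.quotEquivOfEq _ _ hk)).toModuleIso⟩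

variable {M : Type u} [AddCommGroup M] [Module R M]

/-- The main freeness statement: `Ext^i_{R_p}(R_p/qR_p, M_p)` is free over `R_p/qR_p`. -/
theorem nonempty_ext_equiv (hqp : q ≤ p) (hq : ∀ g, ∀ x ∈ 𝒜 g, x ∈ p → x ∈ q) {κ : Type u} (i : ℕ)
    {b : κ → Abelian.Ext.{u} (ModuleCat.of R (R ⧸ q)) (ModuleCat.of R M) i}
    (hb : IsFreeFamily (𝒜 := 𝒜) q b) :
    Nonempty (Abelian.Ext.{u} (ModuleCat.of L (L ⧸ q.map al))
      (ModuleCat.of L (LocalizedModule p.primeCompl M)) i ≃ₗ[L] (κ →₀ (L ⧸ q.map al))) := by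
  obtain ⟨e₁⟩ := nonempty_quot_iso p q hqp
  let e₂ : (ModuleCat.localizedModuleFunctor.{u} p.primeCompl).obj (ModuleCat.of R M) ≅
      ModuleCat.of L (LocalizedModule p.primeCompl M) :=
    (Shrink.linearEquiv.{u} (Localization p.primeCompl) (LocalizedModule p.primeCompl M)).toModuleIso
  have : Module.Finite R (ModuleCat.of R (R ⧸ q)) := inferInstanceAs (Module.Finite R (R ⧸ q))
  obtain ⟨e⟩ := nonempty_equiv_finsupp p hqp
    (fun r hr x => Groth.Agent.H4Depth.ext_smul_eq_zero_of_mem_annihilator_left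
      (Module.mem_annihilator.2 fun y => by
        obtain ⟨s, rfl⟩ := Ideal.Quotient.mk_surjective (I := q) y
        rw [Algebra.smul_def]
        show Ideal.Quotient.mk q r * _ = 0
        rw [Ideal.Quotient.eq_zero_iff_mem.2 hr, zero_mul]) x)
    hq hb (isLocMap_ext p (ModuleCat.of R (R ⧸ q)) (ModuleCat.of R M) i)
  exact ⟨(((extLeft e₁ _ i).trans (extRight _ e₂ i)).symm).trans e⟩

variable (𝒜) in
theorem exists_ext_family {ℳ : ι → AddSubgroup M} [Decomposition ℳ] [SetLike.GradedSMul 𝒜 ℳ]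
    (hhom : q.IsHomogeneous 𝒜) (i : ℕ) :
    ∃ (κ : Type u) (b : κ → Abelian.Ext.{u} (ModuleCat.of R (R ⧸ q)) (ModuleCat.of R M) i),
      IsFreeFamily (𝒜 := 𝒜) q b := by
  obtain ⟨Y, ⟨e⟩⟩ := exists_graded_ext 𝒜 hhom i (GrLC.GMod.of 𝒜 M ℳ)
  obtain ⟨κ, b, hb⟩ := exists_isFreeFamily 𝒜 Y.gr q fun r hr y => by
    obtain ⟨x, rfl⟩ := e.surjective y
    rw [← map_smul, Groth.Agent.H4Depth.ext_smul_eq_zero_of_mem_annihilator_left
      (Module.mem_annihilator.2 fun y => by
        obtain ⟨s, rfl⟩ := Ideal.Quotient.mk_surjective (I := q) y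
        rw [Algebra.smul_def]
        show Ideal.Quotient.mk q r * _ = 0
        rw [Ideal.Quotient.eq_zero_iff_mem.2 hr, zero_mul]) x, map_zero]
  exact ⟨κ, _, hb.of_linearEquiv e.symm⟩

end Quot

theorem length_residueField {A : Type u} [CommRing A] [IsLocalRing A] :
    Module.length A (IsLocalRing.ResidueField A) = 1 :=
  Module.length_eq_one_iff.mpr (isSimpleModule_iff_isCoatom.mpr (IsLocalRing.maximalIdeal.isMaximal A).out)

theorem bassNum_eq_card (q : Ideal R) [q.IsPrime] {M : Type u} [AddCommGroup M] [Module R M] {κ : Type u}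
    (i : ℕ) {b : κ → Abelian.Ext.{u} (ModuleCat.of R (R ⧸ q)) (ModuleCat.of R M) i}
    (hb : IsFreeFamily (𝒜 := 𝒜) q b) : GrLC.bassNum q M i = ENat.card κ := by
  obtain ⟨e⟩ := nonempty_ext_equiv (𝒜 := 𝒜) q q le_rfl (fun _ _ _ h => h) i hb
  let ek : ((Localization.AtPrime q) ⧸ q.map (algebraMap R (Localization.AtPrime q))) ≃ₗ[Localization.AtPrime q]
      IsLocalRing.ResidueField (Localization.AtPrime q) :=
    Submodule.quotEquivOfEq _ _ Localization.AtPrime.map_eq_maximalIdeal
  show Module.length _ _ = _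
  rw [(((extLeft ek.toModuleIso _ i).symm.trans e).trans (Finsupp.mapRange.linearEquiv ek)).length_eq,
    Module.length_finsupp, length_residueField, mul_one]

section Step

variable {M : Type u} [AddCommGroup M] [Module R M] (ℳ : ι → AddSubgroup M) [Decomposition ℳ]
  [SetLike.GradedSMul 𝒜 ℳ]

include ℳ in
/-- The shift of Bass numbers across a uniformiser. -/
theorem bassNum_step (p q : Ideal R) [p.IsPrime] [q.IsPrime] (hhom : q.IsHomogeneous 𝒜) (hqp : q ≤ p)
    (hq : ∀ g, ∀ x ∈ 𝒜 g, x ∈ p → x ∈ q) {x : R} (hxp : x ∈ p) (hxq : x ∉ q)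
    (hx : ∀ y ∈ p, ∃ s, s ∉ p ∧ s * y ∈ Ideal.span {x} ⊔ q) :
    GrLC.bassNum p M 0 = 0 ∧ ∀ i, GrLC.bassNum p M (i + 1) = GrLC.bassNum q M i := by
  classical
  let L := Localization.AtPrime p
  let al := algebraMap R L
  let J := q.map al
  let m := IsLocalRing.maximalIdeal L
  have hdisj : Disjoint (p.primeCompl : Set R) q := Set.disjoint_left.2 fun r hr hrq => hr (hqp hrq)
  have hJ : J.IsPrime := IsLocalization.isPrime_of_isPrime_disjoint p.primeCompl L q inferInstance hdisj
  have hxJ : al x ∉ J := fun h => hxq (by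
    have := IsLocalization.comap_map_of_isPrime_disjoint p.primeCompl L (I := q) inferInstance hdisj
    rw [← this]; exact h)
  have hJm : J ≤ m := IsLocalRing.le_maximalIdeal hJ.ne_top
  have hxm : al x ∈ m := by
    rw [show m = p.map al from Localization.AtPrime.map_eq_maximalIdeal.symm]
    exact Ideal.mem_map_of_mem al hxp
  let f : (L ⧸ J) →ₗ[L] (L ⧸ J) := al x • LinearMap.id
  have hfi : Function.Injective f := (injective_iff_map_eq_zero _).2 fun y hy => by
    obtain ⟨y, rfl⟩ := Ideal.Quotient.mk_surjective y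
    change Ideal.Quotient.mk J (al x * y) = 0 at hy
    rw [Ideal.Quotient.eq_zero_iff_mem] at hy
    exact Ideal.Quotient.eq_zero_iff_mem.2 ((hJ.mem_or_mem hy).resolve_left hxJ)
  let g : (L ⧸ J) →ₗ[L] IsLocalRing.ResidueField L := Submodule.factor hJm
  have hgs : Function.Surjective g := Submodule.factor_surjective hJm
  have hm : m ≤ Ideal.span {al x} ⊔ J := by
    rw [show m = p.map al from Localization.AtPrime.map_eq_maximalIdeal.symm, Ideal.map_le_iff_le_comap]
    intro y hy
    obtain ⟨s, hs, hsy⟩ := hx y hy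
    have h := Ideal.mem_map_of_mem al hsy
    rw [Ideal.map_sup, Ideal.map_span, Set.image_singleton, map_mul] at h
    exact (Ideal.unit_mul_mem_iff_mem _ (IsLocalization.map_units L (⟨s, hs⟩ : p.primeCompl))).1 h
  have hgx : ∀ z : IsLocalRing.ResidueField L, al x • z = 0 := fun z => by
    obtain ⟨y, rfl⟩ := Ideal.Quotient.mk_surjective (I := m) z
    rw [Algebra.smul_def]
    show Ideal.Quotient.mk m (al x) * _ = 0
    rw [Ideal.Quotient.eq_zero_iff_mem.2 hxm, zero_mul]
  have hfg : Function.Exact f g := fun y => by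
    constructor
    · intro hy
      obtain ⟨y, rfl⟩ := Ideal.Quotient.mk_surjective y
      have hym : y ∈ m := Ideal.Quotient.eq_zero_iff_mem.1 hy
      obtain ⟨a, ha, c, hc, rfl⟩ := Submodule.mem_sup.1 (hm hym)
      obtain ⟨a, rfl⟩ := Ideal.mem_span_singleton'.1 ha
      refine ⟨Ideal.Quotient.mk J a, ?_⟩
      show Ideal.Quotient.mk J (al x * a) = _
      rw [map_add, Ideal.Quotient.eq_zero_iff_mem.2 hc, add_zero, mul_comm]
    · rintro ⟨z, rfl⟩
      show g (al x • z) = 0
      rw [map_smul, hgx]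
  have hS := Groth.Agent.H4Depth.shortComplexOf_shortExact f g hfi hgs hfg
  let K := ModuleCat.of L (IsLocalRing.ResidueField L)
  let Mp := ModuleCat.of L (LocalizedModule p.primeCompl M)
  let A := ModuleCat.of L (L ⧸ J)
  have hfcomp : ∀ (n : ℕ) (z : Abelian.Ext.{u} A Mp n),
      (Abelian.Ext.mk₀ (ModuleCat.ofHom f)).comp z (zero_add n) = al x • z := fun n z => by
    rw [show ModuleCat.ofHom f = al x • 𝟙 A from rfl, Abelian.Ext.mk₀_smul, Abelian.Ext.smul_comp,
      Abelian.Ext.mk₀_id_comp]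
  choose κ b hb using fun i => exists_ext_family 𝒜 q (ℳ := ℳ) hhom i
  have hfree := fun i => nonempty_ext_equiv (𝒜 := 𝒜) p q hqp hq i (hb i)
  have hinj : ∀ (n : ℕ) (z : Abelian.Ext.{u} A Mp n), al x • z = 0 → z = 0 := fun n z hz => by
    obtain ⟨e⟩ := hfree n
    refine e.injective (Finsupp.ext fun k => hfi ?_)
    show al x • (e z) k = al x • (e 0) k
    rw [← Finsupp.smul_apply, ← map_smul, hz]
    simp
  have hgzero : ∀ (n : ℕ) (y : Abelian.Ext.{u} K Mp n),
      (Abelian.Ext.mk₀ (ModuleCat.ofHom g)).comp y (zero_add n) = 0 := fun n y => by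
    refine hinj n _ ?_
    rw [← Abelian.Ext.smul_comp, ← Abelian.Ext.mk₀_smul,
      show al x • ModuleCat.ofHom g = 0 from ModuleCat.hom_ext (LinearMap.ext fun z => hgx (g z)),
      Abelian.Ext.mk₀_zero, Abelian.Ext.zero_comp]
  constructor
  · haveI : Subsingleton (Abelian.Ext.{u} K Mp 0) := subsingleton_of_forall_eq 0 fun y => by
      haveI : Epi (ModuleCat.ofHom g) := (ModuleCat.epi_iff_surjective _).2 hgs
      exact Abelian.Ext.precomp_mk₀_injective_of_epi _ (ModuleCat.ofHom g)
        ((hgzero 0 y).trans (hgzero 0 0).symm)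
    show Module.length _ _ = 0
    exact Module.length_eq_zero
  intro i
  rw [bassNum_eq_card q i (hb i)]
  let δ : Abelian.Ext.{u} A Mp i →ₗ[L] Abelian.Ext.{u} K Mp (i + 1) :=
    hS.extClass.precompOfLinear L Mp (add_comm 1 i)
  have hδs : Function.Surjective δ := fun y => by
    obtain ⟨z, hz⟩ := Abelian.Ext.contravariant_sequence_exact₃ hS Mp y (hgzero _ y) (add_comm 1 i)
    exact ⟨z, hz⟩
  obtain ⟨e⟩ := hfree i
  let ψ : Abelian.Ext.{u} A Mp i →ₗ[L] (κ i →₀ IsLocalRing.ResidueField L) :=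
    Finsupp.mapRange.linearMap g ∘ₗ e.toLinearMap
  have hψs : Function.Surjective ψ :=
    (Finsupp.mapRange_surjective _ (map_zero g) hgs).comp e.surjective
  have hker : LinearMap.ker δ = LinearMap.ker ψ := by
    ext z
    rw [LinearMap.mem_ker, LinearMap.mem_ker]
    constructor
    · intro hz
      obtain ⟨w, hw⟩ : ∃ w : Abelian.Ext.{u} A Mp i,
          (Abelian.Ext.mk₀ (ModuleCat.ofHom f)).comp w (zero_add i) = z :=
        Abelian.Ext.contravariant_sequence_exact₁ hS Mp z (add_comm 1 i) hz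
      have hw' : al x • w = z := (hfcomp i w).symm.trans hw
      rw [← hw', map_smul]
      exact Finsupp.ext fun k => hgx _
    · intro hz
      have hz' : ∀ k, g ((e z) k) = 0 := fun k => DFunLike.congr_fun hz k
      choose a ha using fun k => (hfg _).1 (hz' k)
      let c : κ i →₀ (L ⧸ J) := Finsupp.onFinset (e z).support a fun k hk =>
        Finsupp.mem_support_iff.2 fun h => hk (hfi ((ha k).trans (h.trans (map_zero f).symm)))
      have hc : al x • e.symm c = z := e.injective (Finsupp.ext fun k => by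
        rw [map_smul, e.apply_symm_apply, Finsupp.smul_apply, Finsupp.onFinset_apply]
        exact ha k)
      rw [← hc, ← hfcomp]
      exact hS.extClass_comp_assoc _ (h := add_comm 1 i)
  show Module.length _ _ = _
  rw [((δ.quotKerEquivOfSurjective hδs).symm.trans ((Submodule.quotEquivOfEq _ _ hker).trans
    (ψ.quotKerEquivOfSurjective hψs))).length_eq, Module.length_finsupp, length_residueField, mul_one]

end Step

end Groth.Agent.H4Gr
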