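import Groth.Agent.H4Gr.LES
import Groth.Agent.H4LC.Torsion

/-!
# Long exact sequences, piece by piece
-/

set_option autoImplicit false
set_option linter.unusedSectionVars false

universe u

open DirectSum

namespace Groth.Agent.H4Gr

variable {ι : Type} [AddCommGroup ι] [DecidableEq ι]
variable {R : Type u} [CommRing R] [IsNoetherianRing R] {𝒜 : ι → AddSubgroup R} [GradedRing 𝒜]
variable {L : Type u} [AddCommGroup L] [Module R L] {𝓛 : ι → AddSubgroup L} [Decomposition 𝓛]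
  [SetLike.GradedSMul 𝒜 𝓛]
variable {M : Type u} [AddCommGroup M] [Module R M] {ℳ : ι → AddSubgroup M} [Decomposition ℳ]
  [SetLike.GradedSMul 𝒜 ℳ]
variable {N : Type u} [AddCommGroup N] [Module R N] {𝒩 : ι → AddSubgroup N} [Decomposition 𝒩]
  [SetLike.GradedSMul 𝒜 𝒩]

variable (𝓛 ℳ 𝒩) in
/-- A short exact sequence of graded modules, the first map homogeneous of degree `e`. -/
structure GSES (f : L →ₗ[R] M) (π : M →ₗ[R] N) (e : ι) : Prop where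
  deg : GrLC.IsGrHomDeg 𝓛 ℳ f e
  inj : Function.Injective f
  grHom : GrLC.IsGrHom ℳ 𝒩 π
  surj : Function.Surjective π
  exact : Function.Exact f π

theorem GSES.deg' {f : L →ₗ[R] M} {π : M →ₗ[R] N} {e : ι} (S : GSES 𝓛 ℳ 𝒩 f π e) :
    GrLC.IsGrHomDeg ℳ 𝒩 π 0 := isGrHomDeg_zero_iff.2 S.grHom

variable (a : HomogeneousIdeal 𝒜)

theorem mem_Hgr_iff {E : GrLC.StarInjRes 𝒜 ℳ} {i : ℕ} {g : ι} {x : E.H a i} :
    x ∈ E.Hgr a i g ↔ x ∈ E.Hcomp a i g := Iff.rfl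

theorem Hcomp_eq_bot_iff {E : GrLC.StarInjRes 𝒜 ℳ} {i : ℕ} {g : ι} :
    E.Hcomp a i g = ⊥ ↔ ∀ x ∈ E.Hgr a i g, x = 0 := Submodule.eq_bot_iff _

theorem Hgr_eq_bot_iff {E : GrLC.StarInjRes 𝒜 ℳ} {i : ℕ} {g : ι} :
    E.Hgr a i g = ⊥ ↔ E.Hcomp a i g = ⊥ := by
  rw [AddSubgroup.eq_bot_iff_forall, Hcomp_eq_bot_iff]

/-- Exactness restricted to a piece. -/
theorem exists_piece_preimage {EL : GrLC.StarInjRes 𝒜 𝓛} {EM : GrLC.StarInjRes 𝒜 ℳ} {i j : ℕ}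
    {F : EL.H a i →ₗ[R] EM.H a j} {e : ι} (hF : GrLC.IsGrHomDeg (EL.Hgr a i) (EM.Hgr a j) F e)
    {g : ι} {y : EM.H a j} (hy : y ∈ EM.Hgr a j g) (hr : y ∈ Set.range F) :
    ∃ x ∈ EL.Hgr a i (g - e), F x = y := by
  let := (isInternal_Hgr a EL i).chooseDecomposition
  let := (isInternal_Hgr a EM j).chooseDecomposition
  exact exists_preimage_mem hF (by rwa [sub_add_cancel]) hr

section Seq

variable {f : L →ₗ[R] M} {π : M →ₗ[R] N} {e : ι} (S : GSES 𝓛 ℳ 𝒩 f π e)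
  (EL : GrLC.StarInjRes 𝒜 𝓛) (EM : GrLC.StarInjRes 𝒜 ℳ) (EN : GrLC.StarInjRes 𝒜 𝒩)

include S

/-- A connecting map. -/
theorem GSES.exists_δ : ∃ δ : ∀ i, EN.H a i →ₗ[R] EL.H a (i + 1),
    (∀ i, GrLC.IsGrHomDeg (EN.Hgr a i) (EL.Hgr a (i + 1)) (δ i) (-e)) ∧
      Function.Injective (hmap a EL EM f S.deg 0) ∧
      (∀ i, Function.Exact (hmap a EL EM f S.deg i) (hmap a EM EN π S.deg' i)) ∧
      (∀ i, Function.Exact (hmap a EM EN π S.deg' i) (δ i)) ∧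
      ∀ i, Function.Exact (δ i) (hmap a EL EM f S.deg (i + 1)) :=
  exists_les EL EN S.deg S.inj S.grHom S.surj S.exact a EM

include EL EN in
/-- Vanishing of the middle term. -/
theorem GSES.middle_eq_bot {i : ℕ} {g : ι} (h₁ : EL.Hcomp a i (g - e) = ⊥) (h₃ : EN.Hcomp a i g = ⊥) :
    EM.Hcomp a i g = ⊥ := by
  obtain ⟨δ, -, -, hx, -, -⟩ := S.exists_δ a EL EM EN
  refine (Hcomp_eq_bot_iff a).2 fun y hy => ?_
  have h : hmap a EM EN π S.deg' i y = 0 := (Hcomp_eq_bot_iff a).1 h₃ _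
    (by simpa using isGrHomDeg_hmap a EM EN π S.deg' i g y hy)
  obtain ⟨x, hx', rfl⟩ := exists_piece_preimage a (isGrHomDeg_hmap a EL EM f S.deg i) hy ((hx i y).1 h)
  rw [(Hcomp_eq_bot_iff a).1 h₁ x hx', map_zero]

include EL EM in
/-- Vanishing of the right term. -/
theorem GSES.right_eq_bot {i : ℕ} {g : ι} (h₂ : EM.Hcomp a i g = ⊥) (h₁ : EL.Hcomp a (i + 1) (g - e) = ⊥) :
    EN.Hcomp a i g = ⊥ := by
  obtain ⟨δ, hδ, -, -, hx, -⟩ := S.exists_δ a EL EM EN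
  refine (Hcomp_eq_bot_iff a).2 fun y hy => ?_
  have h : δ i y = 0 := (Hcomp_eq_bot_iff a).1 h₁ _ (by simpa [sub_eq_add_neg] using hδ i g y hy)
  obtain ⟨x, hx', rfl⟩ := exists_piece_preimage a (isGrHomDeg_hmap a EM EN π S.deg' i) hy ((hx i y).1 h)
  rw [(Hcomp_eq_bot_iff a).1 h₂ x (by simpa using hx'), map_zero]

include EM EN in
/-- Vanishing of the left term. -/
theorem GSES.left_eq_bot {i : ℕ} {g : ι} (h₃ : EN.Hcomp a i (g + e) = ⊥) (h₂ : EM.Hcomp a (i + 1) (g + e) = ⊥) :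
    EL.Hcomp a (i + 1) g = ⊥ := by
  obtain ⟨δ, hδ, -, -, -, hx⟩ := S.exists_δ a EL EM EN
  refine (Hcomp_eq_bot_iff a).2 fun y hy => ?_
  have h : hmap a EL EM f S.deg (i + 1) y = 0 := (Hcomp_eq_bot_iff a).1 h₂ _
    (isGrHomDeg_hmap a EL EM f S.deg (i + 1) g y hy)
  obtain ⟨x, hx', rfl⟩ := exists_piece_preimage a (hδ i) hy ((hx i y).1 h)
  rw [(Hcomp_eq_bot_iff a).1 h₃ x (by simpa [sub_neg_eq_add] using hx'), map_zero]

include EM in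
/-- Vanishing of the left term in degree zero. -/
theorem GSES.left_zero_eq_bot {g : ι} (h₂ : EM.Hcomp a 0 (g + e) = ⊥) : EL.Hcomp a 0 g = ⊥ := by
  obtain ⟨EN⟩ := nonempty_starInjRes (𝒜 := 𝒜) (ℳ := 𝒩)
  obtain ⟨δ, -, hinj, -, -, -⟩ := S.exists_δ a EL EM EN
  refine (Hcomp_eq_bot_iff a).2 fun y hy => hinj ?_
  rw [map_zero]
  exact (Hcomp_eq_bot_iff a).1 h₂ _ (isGrHomDeg_hmap a EL EM f S.deg 0 g y hy)

end Seq

variable {a}

/-- Vanishing does not depend on the resolution. -/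
theorem Hcomp_eq_bot_congr (E E' : GrLC.StarInjRes 𝒜 ℳ) {i : ℕ} {g : ι} (h : E.Hcomp a i g = ⊥) :
    E'.Hcomp a i g = ⊥ := by
  refine (Hcomp_eq_bot_iff a).2 fun y hy => ?_
  have h1 : hIso a E' E i y = 0 := (Hcomp_eq_bot_iff a).1 h _
    (by have := isGrHomDeg_hmap a E' E LinearMap.id isGrHomDeg_id i g y hy; rwa [add_zero] at this)
  exact (LinearEquiv.map_eq_zero_iff _).1 h1

theorem gam_iff_isPowerTorsion {I : Ideal R} : LocCoh.IsPowerTorsion I M ↔ GrLC.gam I M = ⊤ :=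
  ⟨fun h => eq_top_iff.2 fun x _ => h x, fun h x => (show x ∈ GrLC.gam I M from h ▸ Submodule.mem_top)⟩

/-- A torsion module has no higher local cohomology. -/
theorem H_succ_eq_zero_of_torsion (E : GrLC.StarInjRes 𝒜 ℳ) (h : GrLC.gam a.toIdeal M = ⊤) (i : ℕ)
    (x : E.H a (i + 1)) : x = 0 := by
  obtain ⟨e⟩ := nonempty_H_equiv a E (i + 1)
  have := H4LC.subsingleton_H_of_isPowerTorsion a.toIdeal (i + 1) M (gam_iff_isPowerTorsion.2 h) i.succ_pos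
  exact e.injective (Subsingleton.elim _ _)

theorem Hcomp_succ_eq_bot_of_torsion (E : GrLC.StarInjRes 𝒜 ℳ) (h : GrLC.gam a.toIdeal M = ⊤) (i : ℕ)
    (g : ι) : E.Hcomp a (i + 1) g = ⊥ :=
  (Hcomp_eq_bot_iff a).2 fun x _ => H_succ_eq_zero_of_torsion E h i x

theorem ε_mem_cocyc (E : GrLC.StarInjRes 𝒜 ℳ) {x : M} (hx : x ∈ GrLC.gam a.toIdeal M) :
    E.ε x ∈ E.cocyc a 0 :=
  ⟨map_mem_gam _ hx, LinearMap.mem_ker.2 ((Res.ofStar E).d_ε x)⟩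

variable (a) in
/-- The degree-zero comparison `Γ(M) → H⁰(M)`. -/
noncomputable def toH₀ (E : GrLC.StarInjRes 𝒜 ℳ) : GrLC.gam a.toIdeal M →ₗ[R] E.H a 0 :=
  E.toH a 0 ∘ₗ ((E.ε ∘ₗ (GrLC.gam a.toIdeal M).subtype).codRestrict (E.cocyc a 0) fun x => ε_mem_cocyc E x.2)

theorem toH₀_injective (E : GrLC.StarInjRes 𝒜 ℳ) : Function.Injective (toH₀ a E) := by
  rw [injective_iff_map_eq_zero]
  intro x hx
  have h : E.ε (x : M) = E.ε 0 :=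
    ((Submodule.mem_bot R).1 ((toH_eq_zero_iff a 0 _).1 hx)).trans (map_zero _).symm
  exact Subtype.ext (E.ε_injective h)

theorem exists_toH₀_eq (E : GrLC.StarInjRes 𝒜 ℳ) {g : ι} {y : E.H a 0} (hy : y ∈ E.Hgr a 0 g) :
    ∃ x : GrLC.gam a.toIdeal M, (x : M) ∈ ℳ g ∧ toH₀ a E x = y := by
  obtain ⟨⟨z, hz⟩, hzg, rfl⟩ := hy
  obtain ⟨m, rfl⟩ := E.exact_zero.le hz.2
  have hm : m ∈ GrLC.gam a.toIdeal M := by
    obtain ⟨n, hn⟩ := hz.1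
    exact ⟨n, fun r hr => E.ε_injective (by rw [map_smul, map_zero]; exact hn r hr)⟩
  obtain ⟨m', hm', hmm'⟩ := exists_preimage_mem (isGrHomDeg_zero_iff.2 E.ε_grHom) (g := g)
    (by rw [add_zero]; exact hzg) ⟨m, rfl⟩
  rw [E.ε_injective hmm'] at hm'
  exact ⟨⟨m, hm⟩, hm', rfl⟩

theorem toH₀_mem (E : GrLC.StarInjRes 𝒜 ℳ) {g : ι} {x : GrLC.gam a.toIdeal M} (hx : (x : M) ∈ ℳ g) :
    toH₀ a E x ∈ E.Hgr a 0 g := ⟨_, E.ε_grHom g _ hx, rfl⟩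

theorem Hcomp_zero_eq_bot_iff (E : GrLC.StarInjRes 𝒜 ℳ) (g : ι) :
    E.Hcomp a 0 g = ⊥ ↔ ∀ x ∈ ℳ g, x ∈ GrLC.gam a.toIdeal M → x = 0 := by
  refine ⟨fun h x hx hg => congrArg Subtype.val (toH₀_injective E (a₂ := 0) (a₁ := ⟨x, hg⟩) ?_), fun h => ?_⟩
  · rw [map_zero]
    exact (Hcomp_eq_bot_iff a).1 h _ (toH₀_mem E hx)
  · refine (Hcomp_eq_bot_iff a).2 fun y hy => ?_
    obtain ⟨x, hx, rfl⟩ := exists_toH₀_eq E hy
    rw [show x = 0 from Subtype.ext (h _ hx x.2), map_zero]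

theorem endDeg_le_iff' {ℳ' : ℤ → AddSubgroup M} (d : ℤ) :
    GrLC.endDeg ℳ' ≤ ((d : WithTop ℤ) : WithBot (WithTop ℤ)) ↔ ∀ n : ℤ, d < n → ℳ' n = ⊥ := by
  simp only [GrLC.endDeg, iSup_le_iff, WithBot.coe_le_coe, WithTop.coe_le_coe]
  exact ⟨fun h n hn => by_contra fun hne => absurd (h n hne) (by omega), fun h n hne => by
    by_contra hlt; exact hne (h n (by omega))⟩

end Groth.Agent.H4Gr
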