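import Groth.Agent.H4Gr.PosLocal
import Groth.Agent.H4Gr.Width
import Groth.Agent.H4Gr.Pieces
import Groth.Agent.H4LC.CdDim
import Groth.Agent.H4LC.Depth
import Groth.Agent.S14424

/-!
# Dimension of positively graded *local rings and the range of local cohomology
-/

set_option autoImplicit false
set_option linter.unusedSectionVars false
set_option linter.style.haveILetI false
set_option linter.overlappingInstances false

universe u

open DirectSum

namespace Groth.Agent.H4Gr

variable {R : Type u} [CommRing R] [IsNoetherianRing R] {𝒜 : ℤ → AddSubgroup R} [GradedRing 𝒜]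

variable (𝒜) in
/-- A prime has height at most one over its homogeneous core. -/
theorem hgt_core_le_one (p : Ideal R) [hp : p.IsPrime] :
    hgt (p.homogeneousCore 𝒜).toIdeal p ≤ 1 := by
  have := isPrime_homogeneousCore 𝒜 p
  rcases (Ideal.toIdeal_homogeneousCore_le 𝒜 p).eq_or_lt with h | h
  · simp only [h, hgt_self, zero_le]
  let φ : ℤ →+ (Fin 0 → ℤ) := 0
  obtain ⟨x, hxp, -, hx⟩ := exists_uniformizer (φ := φ) (w := AddMonoidHom.id ℤ)
    (fun g _ hw => hw) h (p.homogeneousCore 𝒜).isHomogeneous (fun g x hx hxp => mem_core_of_mem 𝒜 hx hxp)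
    (fun x hx k => by
      have : ∀ y, cproj φ 𝒜 k y = y := fun y => by
        induction y using induction 𝒜 with
        | zero => exact map_zero _
        | hom g y hy => rw [cproj_of_mem φ hy, if_pos (Subsingleton.elim _ _)]
        | add a b ha hb => rw [map_add, ha, hb]
      rwa [this])
  have hJ : (p.homogeneousCore 𝒜).toIdeal ⊔ Ideal.span {x} ≤ p :=
    sup_le h.le ((Ideal.span_singleton_le_iff_mem _).2 hxp)
  refine (hgt_le_hgt_sup_add_one h.le hxp).trans ?_
  refine (add_le_add_left (hgt_le_of_forall_minimal (n := 0) hJ fun P hP hPp => ?_) 1).trans (zero_add (1 : ℕ∞)).le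
  haveI := hP.1.1
  obtain rfl : P = p := le_antisymm hPp fun y hy => by
    obtain ⟨s, hs, hsy⟩ := hx y hy
    rw [sup_comm] at hsy
    exact (Ideal.IsPrime.mem_or_mem inferInstance (hP.1.2 hsy)).resolve_left fun h => hs (hPp h)
  exact (hgt_self P).le

variable (hpos : ∀ n : ℤ, n < 0 → 𝒜 n = ⊥) {m : HomogeneousIdeal 𝒜} (hm : GrLC.IsStarLocal 𝒜 m)

include hpos hm in
/-- The dimension of a positively graded *local ring is the height of `m`. -/
theorem ringKrullDim_eq_height : ringKrullDim R = (m.toIdeal.height : WithBot ℕ∞) := by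
  haveI hmax := isMaximal_of_isStarLocal hpos hm
  refine le_antisymm ?_ (Ideal.height_le_ringKrullDim_of_ne_top hmax.ne_top)
  refine (ringKrullDim_le_iff_isMaximal_height_le _).2 fun p hp => WithBot.coe_le_coe.2 ?_
  haveI := hp.isPrime
  haveI := isPrime_homogeneousCore 𝒜 p
  by_cases hcm : (p.homogeneousCore 𝒜).toIdeal = m.toIdeal
  · rw [hmax.eq_of_le hp.ne_top (hcm ▸ Ideal.toIdeal_homogeneousCore_le 𝒜 p)]
  have hlt : (p.homogeneousCore 𝒜).toIdeal < m.toIdeal :=
    (le_of_isStarLocal hm (p.homogeneousCore 𝒜).isHomogeneous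
      (ne_top_of_le_ne_top hp.ne_top (Ideal.toIdeal_homogeneousCore_le 𝒜 p))).lt_of_ne hcm
  rw [← hgt_bot p, hgt_eq_add 𝒜 p ⊥ (Ideal.IsHomogeneous.bot 𝒜) bot_le]
  refine (add_le_add le_rfl (hgt_core_le_one 𝒜 p)).trans ?_
  rw [hgt_bot]
  exact Order.add_one_le_of_lt (Ideal.height_strict_mono_of_isPrime hlt)

section Range

variable {M : Type u} [AddCommGroup M] [Module R M] {ℳ : ℤ → AddSubgroup M} [Decomposition ℳ]
  [SetLike.GradedSMul 𝒜 ℳ]

/-- Vanishing above the dimension. -/
theorem H_eq_zero_of_dim_lt (a : HomogeneousIdeal 𝒜) {d i : ℕ} (hd : ringKrullDim R ≤ d) (hi : d < i)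
    (E : GrLC.StarInjRes 𝒜 ℳ) (x : E.H a i) : x = 0 := by
  obtain ⟨e⟩ := nonempty_H_equiv a E i
  have := H4LC.cdLE_of_ringKrullDim_le (I := a.toIdeal) hd M i hi
  exact e.injective (Subsingleton.elim _ _)

include hpos hm in
/-- For a Cohen-Macaulay ring the local cohomology vanishes below the dimension. -/
theorem H_eq_zero_of_lt_dim [LocCoh.IsCohenMacaulayRing R] {d i : ℕ} (hd : ringKrullDim R = d) (hi : i < d)
    (E : GrLC.StarInjRes 𝒜 𝒜) (x : E.H m i) : x = 0 := by
  obtain ⟨e⟩ := nonempty_H_equiv m E i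
  haveI hmax := isMaximal_of_isStarLocal hpos hm
  have hh : (m.toIdeal.height : WithBot ℕ∞) = ((d : ℕ∞) : WithBot ℕ∞) := (ringKrullDim_eq_height hpos hm).symm.trans hd
  have hdep : LocCoh.idealDepth m.toIdeal R = (d : ℕ∞) := by
    rw [(S14424.result R).1 inferInstance m.toIdeal hmax.ne_top]
    exact WithBot.coe_inj.1 hh
  have := H4LC.subsingleton_H_of_lt_idealDepth (I := m.toIdeal) (M := R) (i := i) (by rw [hdep]; exact_mod_cast hi)
  exact e.injective (Subsingleton.elim _ _)

include hpos hm in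
theorem H_eq_zero_of_ne_dim [LocCoh.IsCohenMacaulayRing R] {d i : ℕ} (hd : ringKrullDim R = d) (hi : i ≠ d)
    (E : GrLC.StarInjRes 𝒜 𝒜) (x : E.H m i) : x = 0 :=
  hi.lt_or_gt.elim (fun h => H_eq_zero_of_lt_dim hpos hm hd h E x) fun h => H_eq_zero_of_dim_lt m hd.le h E x

end Range

end Groth.Agent.H4Gr
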