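import Groth.Agent.H4Gr.StarGorenstein
import Groth.Agent.H4LC.Artinian
import Groth.Agent.H4LC.FlatBaseChange

/-!
# Positively graded *local rings: the homogeneous maximal ideal is maximal; Artinian local cohomology
-/

set_option autoImplicit false
set_option linter.unusedSectionVars false

universe u

open DirectSum

namespace Groth.Agent.H4Gr

variable {R : Type u} [CommRing R] [IsNoetherianRing R] {𝒜 : ℤ → AddSubgroup R} [GradedRing 𝒜]

/-- In a positively graded ring the ideal generated by the positive degrees is proper, hence in `m`. -/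
theorem pos_mem_of_isStarLocal (hpos : ∀ n : ℤ, n < 0 → 𝒜 n = ⊥) {m : HomogeneousIdeal 𝒜}
    (hm : GrLC.IsStarLocal 𝒜 m) {n : ℤ} (hn : 0 < n) {r : R} (hr : r ∈ 𝒜 n) : r ∈ m.toIdeal := by
  have hne : (1 : R) ≠ 0 := fun h => hm.1.1 (HomogeneousIdeal.toIdeal_injective
    ((Ideal.eq_top_iff_one _).2 (h ▸ zero_mem _)))
  refine le_of_isStarLocal hm
    (Ideal.homogeneous_span 𝒜 {r} fun z hz => ⟨n, Set.mem_singleton_iff.1 hz ▸ hr⟩) (fun h => hne ?_)
    (Ideal.mem_span_singleton_self r)
  obtain ⟨c, hc⟩ := Ideal.mem_span_singleton'.1 ((Ideal.eq_top_iff_one _).1 h)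
  have h1 : proj 𝒜 0 (r • c) = r • proj 𝒜 (0 - n) c := proj_smul hr 0 c
  have h0 : proj 𝒜 (0 - n) c = 0 := by
    have := proj_mem 𝒜 (0 - n) c
    rwa [hpos _ (by omega), AddSubgroup.mem_bot] at this
  rw [h0, smul_zero, smul_eq_mul, mul_comm, hc, proj_same (SetLike.one_mem_graded 𝒜)] at h1
  exact h1

/-- The homogeneous maximal ideal of a positively graded *local ring is a maximal ideal. -/
theorem isMaximal_of_isStarLocal (hpos : ∀ n : ℤ, n < 0 → 𝒜 n = ⊥) {m : HomogeneousIdeal 𝒜}
    (hm : GrLC.IsStarLocal 𝒜 m) : m.toIdeal.IsMaximal := by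
  refine Ideal.isMaximal_iff.2 ⟨fun h => hm.1.1 (HomogeneousIdeal.toIdeal_injective
    ((Ideal.eq_top_iff_one _).2 h)), fun J x hJ hx hxJ => ?_⟩
  have hrest : x - proj 𝒜 0 x ∈ m.toIdeal := by
    classical
    obtain ⟨s, hs, hout⟩ := exists_sum_proj 𝒜 x
    have hx0 : proj 𝒜 0 x = ∑ g ∈ s, if g = 0 then proj 𝒜 g x else 0 := by
      rw [Finset.sum_ite_eq' s 0 (fun g => proj 𝒜 g x)]
      split
      · rfl
      · exact hout 0 (by assumption)
    conv in x - proj 𝒜 0 x => rw [hx0]; arg 1; rw [← hs]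
    rw [← Finset.sum_sub_distrib]
    refine Ideal.sum_mem _ fun g _ => ?_
    split
    · rw [sub_self]; exact zero_mem _
    · rw [sub_zero]
      rcases lt_or_gt_of_ne (show g ≠ 0 by assumption) with h | h
      · have := proj_mem 𝒜 g x
        rw [hpos g h, AddSubgroup.mem_bot] at this
        rw [this]; exact zero_mem _
      · exact pos_mem_of_isStarLocal hpos hm h (proj_mem 𝒜 g x)
  have hsp : Ideal.span {proj 𝒜 0 x} = ⊤ := by
    by_contra h
    refine hx ?_
    have := le_of_isStarLocal hm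
      (Ideal.homogeneous_span 𝒜 {proj 𝒜 0 x} fun z hz => ⟨0, Set.mem_singleton_iff.1 hz ▸ proj_mem 𝒜 0 x⟩) h
      (Ideal.mem_span_singleton_self _)
    simpa using add_mem hrest this
  obtain ⟨c, hc⟩ := Ideal.mem_span_singleton'.1 ((Ideal.eq_top_iff_one _).1 hsp)
  have : (1 : R) = c * x - c * (x - proj 𝒜 0 x) := by linear_combination -hc
  rw [this]
  exact sub_mem (J.mul_mem_left _ hxJ) (J.mul_mem_left _ (hJ hrest))

end Groth.Agent.H4Gr

namespace Groth.Agent.H4LC

variable {R : Type u} [CommRing R] [IsNoetherianRing R]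

/-- Over a maximal ideal, a power-torsion module is its own localisation, so Artinian-ness transfers. -/
theorem isArtinian_of_localized {P : Ideal R} [P.IsMaximal] (H : Type u) [AddCommGroup H] [Module R H]
    (htor : LocCoh.IsPowerTorsion P H)
    (hA : IsArtinian (Localization.AtPrime P) (LocalizedModule P.primeCompl H)) : IsArtinian R H := by
  let g := LocalizedModule.mkLinearMap P.primeCompl H
  have hunit : ∀ (k : ℕ) (s : R), s ∉ P → ∃ t : R, t * s - 1 ∈ P ^ k := fun k s hs => by
    obtain ⟨t, i, hi, hti⟩ := Ideal.IsMaximal.exists_inv (inferInstance : P.IsMaximal) hs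
    have hu : IsUnit (Ideal.Quotient.mk (P ^ k) s) := by
      have h1 : Ideal.Quotient.mk (P ^ k) t * Ideal.Quotient.mk (P ^ k) s +
          Ideal.Quotient.mk (P ^ k) i = 1 := by rw [← map_mul, ← map_add, hti, map_one]
      have hn : IsNilpotent (Ideal.Quotient.mk (P ^ k) i) :=
        ⟨k, by rw [← map_pow, Ideal.Quotient.eq_zero_iff_mem]; exact Ideal.pow_mem_pow hi k⟩
      refine isUnit_of_mul_isUnit_right (x := Ideal.Quotient.mk (P ^ k) t) ?_
      rw [eq_sub_of_add_eq h1]
      exact hn.isUnit_one_sub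
    obtain ⟨v, hv⟩ := hu.exists_left_inv
    obtain ⟨v, rfl⟩ := Ideal.Quotient.mk_surjective v
    exact ⟨v, Ideal.Quotient.eq.1 (by rw [map_mul, hv, map_one])⟩
  have hinj : Function.Injective g := by
    rw [injective_iff_map_eq_zero]
    intro y hy
    obtain ⟨⟨c, hc⟩, hcy⟩ := (LocalizedModule.mk_eq).1 ((LocalizedModule.mkLinearMap_apply _ _ _).symm.trans
      (hy.trans (LocalizedModule.zero_mk 1).symm))
    simp only [Submonoid.smul_def, one_smul, smul_zero] at hcy
    obtain ⟨k, hk⟩ := htor y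
    obtain ⟨t, ht⟩ := hunit k c hc
    have := hk _ ht
    rw [sub_smul, mul_smul, hcy, smul_zero, one_smul, zero_sub, neg_eq_zero] at this
    exact this
  have hmk : ∀ (y : H) (s : P.primeCompl), ∃ r : R, LocalizedModule.mk y s = g (r • y) := fun y s => by
    obtain ⟨k, hk⟩ := htor y
    obtain ⟨t, ht⟩ := hunit k s s.2
    refine ⟨t, ?_⟩
    rw [LocalizedModule.mkLinearMap_apply, LocalizedModule.mk_eq]
    refine ⟨1, ?_⟩
    have := hk _ ht
    rw [sub_smul, one_smul, sub_eq_zero, mul_comm, mul_smul] at this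
    simp only [Submonoid.smul_def, one_smul]
    exact this.symm
  let F : Submodule R H → Submodule (Localization.AtPrime P) (LocalizedModule P.primeCompl H) := fun L =>
    Submodule.localized P.primeCompl L
  have hF : ∀ (L : Submodule R H) (y : H), g y ∈ F L → y ∈ L := fun L y hy => by
    obtain ⟨z, hz, s, hzs⟩ := hy
    rw [show IsLocalizedModule.mk' g z s = LocalizedModule.mk z s from (IsLocalizedModule.mk_eq_mk' s z).symm] at hzs
    obtain ⟨r, hr⟩ := hmk z s
    rw [hr] at hzs
    exact hinj hzs ▸ L.smul_mem r hz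
  have hmono : StrictMono F := fun L L' h => by
    refine lt_of_le_of_ne (fun z ⟨w, hw, s, hs⟩ => ⟨w, h.le hw, s, hs⟩) fun e => h.ne (le_antisymm h.le fun y hy => hF L y ?_)
    rw [e]
    exact ⟨y, hy, 1, by rw [IsLocalizedModule.mk'_one]⟩
  exact hmono.wellFoundedLT

/-- Local cohomology of a finite module at a maximal ideal is Artinian. -/
theorem isArtinian_H_maximal (P : Ideal R) [P.IsMaximal] (i : ℕ) (M : Type u) [AddCommGroup M] [Module R M]
    [Module.Finite R M] : IsArtinian R (LocCoh.H P i M) := by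
  refine isArtinian_of_localized _ (isPowerTorsion_H P i M) ?_
  obtain ⟨e⟩ := nonempty_localization_H P (M := M) P.primeCompl i
  rw [show P.map (algebraMap R (Localization.AtPrime P)) = IsLocalRing.maximalIdeal (Localization.AtPrime P)
    from Localization.AtPrime.map_eq_maximalIdeal] at e
  have := isArtinian_H (R := Localization.AtPrime P) i (LocalizedModule P.primeCompl M)
  exact isArtinian_of_linearEquiv e.symm

end Groth.Agent.H4LC

namespace Groth.Agent.H4Gr

variable {R : Type u} [CommRing R] [IsNoetherianRing R] {𝒜 : ℤ → AddSubgroup R} [GradedRing 𝒜]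
variable {M : Type u} [AddCommGroup M] [Module R M] [Module.Finite R M] {ℳ : ℤ → AddSubgroup M}
  [Decomposition ℳ] [SetLike.GradedSMul 𝒜 ℳ]
variable (hpos : ∀ n : ℤ, n < 0 → 𝒜 n = ⊥) {m : HomogeneousIdeal 𝒜} (hm : GrLC.IsStarLocal 𝒜 m)
  (E : GrLC.StarInjRes 𝒜 ℳ) (i : ℕ)

include hpos hm in
theorem isArtinian_starH : IsArtinian R (E.H m i) := by
  have := isMaximal_of_isStarLocal hpos hm
  have := Groth.Agent.H4LC.isArtinian_H_maximal m.toIdeal i M
  obtain ⟨e⟩ := nonempty_H_equiv m E i
  exact isArtinian_of_linearEquiv e.symm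

include hpos hm in
theorem exists_forall_Hcomp_eq_bot : ∃ N : ℤ, ∀ n : ℤ, N ≤ n → E.Hcomp m i n = ⊥ := by
  have hA := isArtinian_starH hpos hm E i
  let := (isInternal_Hgr m E i).chooseDecomposition
  have hsm := gradedSMul_Hgr m E i
  let T : ℕ → Submodule R (E.H m i) := fun k =>
    Submodule.span R (⋃ (n : ℤ) (_ : (k : ℤ) ≤ n), (E.Hgr m i n : Set (E.H m i)))
  have hT : ∀ {k : ℕ} {x}, x ∈ T k → ∀ n : ℤ, n < k → proj (E.Hgr m i) n x = 0 := fun {k} {x} hx n hn => by
    induction hx using Submodule.span_induction generalizing n with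
    | mem y hy =>
      obtain ⟨j, hj⟩ := Set.mem_iUnion.1 hy
      obtain ⟨hkj, hy⟩ := Set.mem_iUnion.1 hj
      exact proj_ne hy (by omega)
    | zero => exact map_zero _
    | add a b _ _ ha hb => rw [map_add, ha n hn, hb n hn, add_zero]
    | smul r a _ ha =>
      induction r using induction 𝒜 with
      | zero => rw [zero_smul, map_zero]
      | hom j r hr =>
        rw [proj_smul hr]
        rcases lt_or_ge j 0 with hj | hj
        · have : r = 0 := by simpa [hpos j hj] using hr
          rw [this, zero_smul]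
        · rw [ha _ (by omega), smul_zero]
      | add a' b' h h' => rw [add_smul, map_add, h, h', add_zero]
  obtain ⟨N, hN⟩ := IsArtinian.monotone_stabilizes (R := R) (M := E.H m i)
    ⟨fun k => OrderDual.toDual (T k), fun a b hab => Submodule.span_mono (Set.iUnion_subset fun n =>
      Set.iUnion_subset fun hn => Set.subset_iUnion₂_of_subset n (le_trans (Int.ofNat_le.2 hab) hn) subset_rfl)⟩
  refine ⟨N, fun n hn => (Submodule.eq_bot_iff _).2 fun x hx => ?_⟩
  have hxN : x ∈ T N := Submodule.subset_span (Set.mem_iUnion₂.2 ⟨n, hn, hx⟩)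
  have heq : T N = T ((n + 1).toNat) := hN ((n + 1).toNat) (by omega)
  have hz := hT (heq ▸ hxN) n (by omega)
  rwa [proj_same (show x ∈ E.Hgr m i n from hx)] at hz

include hpos hm in
theorem isArtinian_Hcomp (n : ℤ) : IsArtinian (GrLC.deg0 𝒜) (E.Hcomp m i n) := by
  have hA := isArtinian_starH hpos hm E i
  let := (isInternal_Hgr m E i).chooseDecomposition
  have hsm := gradedSMul_Hgr m E i
  let F : Submodule (GrLC.deg0 𝒜) (E.Hcomp m i n) → Submodule R (E.H m i) := fun L =>
    Submodule.span R ((fun y : E.Hcomp m i n => (y : E.H m i)) '' L)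
  have key : ∀ L (x : E.H m i), x ∈ F L → ∃ y ∈ L, (y : E.H m i) = proj (E.Hgr m i) n x := fun L x hx => by
    induction hx using Submodule.span_induction with
    | mem z hz =>
      obtain ⟨y, hy, rfl⟩ := hz
      exact ⟨y, hy, (proj_same (show (y : E.H m i) ∈ E.Hgr m i n from y.2)).symm⟩
    | zero => exact ⟨0, zero_mem _, by simp⟩
    | add a b _ _ ha hb =>
      obtain ⟨y, hy, ey⟩ := ha
      obtain ⟨z, hz, ez⟩ := hb
      exact ⟨y + z, add_mem hy hz, by simp [ey, ez]⟩
    | smul r a ha' ha =>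
      clear ha
      induction ha' using Submodule.span_induction generalizing r with
      | mem z hz =>
        obtain ⟨y, hy, rfl⟩ := hz
        refine ⟨⟨proj 𝒜 0 r, proj_mem 𝒜 0 r⟩ • y, L.smul_mem _ hy, ?_⟩
        induction r using induction 𝒜 with
        | zero => simp [Subring.smul_def]
        | hom j r hr =>
          rw [proj_of_mem (smul_mem (ℳ := E.Hgr m i) 𝒜 hr (show (y : E.H m i) ∈ E.Hgr m i n from y.2))]
          by_cases hj : j = 0
          · subst hj; simp [Subring.smul_def, proj_same hr]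
          · rw [if_neg (by omega)]; simp [Subring.smul_def, proj_ne hr hj]
        | add a b h h' =>
          simp only [SetLike.val_smul, Subring.smul_def, map_add] at h h' ⊢
          rw [add_smul, add_smul, map_add, h, h']
      | zero => exact ⟨0, zero_mem _, by simp⟩
      | add a b _ _ ha hb =>
        obtain ⟨y, hy, ey⟩ := ha r
        obtain ⟨z, hz, ez⟩ := hb r
        exact ⟨y + z, add_mem hy hz, by simp [ey, ez, smul_add]⟩
      | smul s a _ ha => rw [smul_smul]; exact ha (r * s)
  have hmono : StrictMono F := fun L L' h => by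
    refine lt_of_le_of_ne (Submodule.span_mono (Set.image_mono h.le)) fun e => h.ne (le_antisymm h.le fun y hy => ?_)
    obtain ⟨z, hz, ez⟩ := key L (y : E.H m i) (e ▸ Submodule.subset_span ⟨y, hy, rfl⟩)
    rw [proj_same (show (y : E.H m i) ∈ E.Hgr m i n from y.2)] at ez
    exact Subtype.ext ez ▸ hz
  exact hmono.wellFoundedLT

end Groth.Agent.H4Gr
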