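import Groth.Agent.H4Gr.BassStep
import Mathlib.LinearAlgebra.Dimension.Constructions

/-!
# Bass numbers above the homogeneous core
-/

set_option autoImplicit false
set_option linter.unusedSectionVars false

universe u

open DirectSum

namespace Groth.Agent.H4Gr

theorem isHomogeneous_coarse {ι κ : Type} [AddCommGroup ι] [DecidableEq ι] [AddCommGroup κ] [DecidableEq κ]
    {R : Type u} [CommRing R] {𝒜 : ι → AddSubgroup R} [GradedRing 𝒜] (φ : ι →+ κ) {q : Ideal R}
    (hq : q.IsHomogeneous 𝒜) :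
    letI := coarseGradedRing 𝒜 φ
    q.IsHomogeneous (coarse φ 𝒜) := by
  letI := coarseGradedRing 𝒜 φ
  intro h x hx
  show proj (coarse φ 𝒜) h x ∈ q
  rw [proj_coarse]
  refine mem_of_forall_proj_mem (𝒜 := 𝒜) q fun g => ?_
  rw [proj_cproj]
  split_ifs
  · exact hq g hx
  · exact q.zero_mem

theorem bassNum_shift_aux : ∀ (n : ℕ) (ι : Type) [AddCommGroup ι] [DecidableEq ι] [Module.Free ℤ ι]
    [Module.Finite ℤ ι], Module.finrank ℤ ι = n →
    ∀ (R : Type u) [CommRing R] [IsNoetherianRing R] (𝒜 : ι → AddSubgroup R) [GradedRing 𝒜]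
      (M : Type u) [AddCommGroup M] [Module R M] (ℳ : ι → AddSubgroup M) [Decomposition ℳ]
      [SetLike.GradedSMul 𝒜 ℳ] (p q : Ideal R) [p.IsPrime] [q.IsPrime],
      q = (p.homogeneousCore 𝒜).toIdeal → ∀ d : ℕ, hgt q p = d →
        (∀ i, i < d → GrLC.bassNum p M i = 0) ∧ ∀ i, GrLC.bassNum p M (i + d) = GrLC.bassNum q M i := by
  intro n
  induction n with
  | zero =>
    intro ι _ _ _ _ hn R _ _ 𝒜 _ M _ _ ℳ _ _ p q _ _ hqdef d hd
    haveI : Subsingleton ι := Module.finrank_zero_iff.1 hn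
    have hpq : p = q := by
      refine le_antisymm (fun x hx => ?_) (hqdef ▸ Ideal.toIdeal_homogeneousCore_le 𝒜 p)
      have hx0 : x ∈ 𝒜 0 := by
        obtain ⟨s, hs, -⟩ := exists_sum_proj 𝒜 x
        exact hs ▸ sum_mem fun g _ => Subsingleton.elim g 0 ▸ proj_mem 𝒜 g x
      exact hqdef ▸ mem_core_of_mem 𝒜 hx0 hx
    subst hpq
    rw [hgt_self] at hd
    obtain rfl : d = 0 := by exact_mod_cast hd.symm
    exact ⟨fun i hi => absurd hi (Nat.not_lt_zero i), fun i => rfl⟩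
  | succ n ih =>
    intro ι _ _ _ _ hn R _ _ 𝒜 _ M _ _ ℳ _ _ p q _ _ hqdef d hd
    let b := Module.finBasisOfFinrankEq ℤ ι hn
    let φ : ι →+ (Fin n → ℤ) :=
      AddMonoidHom.mk' (fun g k => b.repr g k.succ) fun g g' => funext fun k => by simp
    let w : ι →+ ℤ := AddMonoidHom.mk' (fun g => b.repr g 0) fun g g' => by simp
    have hinj : ∀ g, φ g = 0 → w g = 0 → g = 0 := fun g h1 h2 =>
      b.repr.injective (Finsupp.ext fun k => by
        rw [map_zero, Finsupp.zero_apply]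
        cases k using Fin.cases with
        | zero => exact h2
        | succ k => exact congrFun h1 k)
    letI := coarseGradedRing 𝒜 φ
    letI := coarseDec φ ℳ
    haveI := gradedSMul_coarse (𝒜 := 𝒜) (ℳ := ℳ) φ
    obtain ⟨p₁, hp₁def⟩ : ∃ p₁, p₁ = (p.homogeneousCore (coarse φ 𝒜)).toIdeal := ⟨_, rfl⟩
    haveI : p₁.IsPrime := hp₁def ▸ isPrime_homogeneousCore (coarse φ 𝒜) p
    have hqhom : q.IsHomogeneous 𝒜 := hqdef ▸ (p.homogeneousCore 𝒜).isHomogeneous
    have hqc := isHomogeneous_coarse φ hqhom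
    have hqp : q ≤ p := hqdef ▸ Ideal.toIdeal_homogeneousCore_le 𝒜 p
    have hp₁p : p₁ ≤ p := hp₁def ▸ Ideal.toIdeal_homogeneousCore_le _ p
    have hqp₁ : q ≤ p₁ := hp₁def ▸ le_core hqc hqp
    have hq : ∀ g, ∀ x ∈ 𝒜 g, x ∈ p₁ → x ∈ q := fun g x hx hxp => hqdef ▸ mem_core_of_mem 𝒜 hx (hp₁p hxp)
    have hcoarse : ∀ x ∈ p₁, ∀ h, cproj φ 𝒜 h x ∈ p₁ := fun x hx h => by
      have hh : p₁.IsHomogeneous (coarse φ 𝒜) := hp₁def ▸ (p.homogeneousCore (coarse φ 𝒜)).isHomogeneous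
      rw [← proj_coarse φ h x]
      exact hh h hx
    have hsum : hgt q p = hgt q p₁ + hgt p₁ p := by
      have h := hgt_eq_add (coarse φ 𝒜) p q hqc hqp
      rwa [← hp₁def] at h
    obtain ⟨d₁, hd₁⟩ := ENat.ne_top_iff_exists.1 (hgt_ne_top (I := p₁) (p := p) hp₁p)
    obtain ⟨h1, h2⟩ := ih (Fin n → ℤ) (by simp) R (coarse φ 𝒜) M (coarse φ ℳ) p p₁ hp₁def d₁ hd₁.symm
    rcases hqp₁.eq_or_lt with heq | hlt
    · subst heq
      rw [← hd₁] at hd
      obtain rfl : d₁ = d := by exact_mod_cast hd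
      exact ⟨h1, h2⟩
    · obtain ⟨x, hxp, hxq, hx⟩ := exists_uniformizer hinj hlt hqhom hq hcoarse
      obtain ⟨h3, h4⟩ := bassNum_step ℳ p₁ q hqhom hqp₁ hq hxp hxq hx
      have hone : hgt q p₁ = 1 := by
        refine le_antisymm ?_ ?_
        · have hJ : q ⊔ Ideal.span {x} ≤ p₁ := sup_le hqp₁ ((Ideal.span_singleton_le_iff_mem _).2 hxp)
          have h0 : hgt (q ⊔ Ideal.span {x}) p₁ ≤ 0 := hgt_le_of_forall_minimal hJ fun P hP hPp => by
            haveI := hP.1.1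
            obtain rfl : P = p₁ := le_antisymm hPp fun y hy => by
              obtain ⟨s, hs, hsy⟩ := hx y hy
              rw [sup_comm] at hsy
              exact (Ideal.IsPrime.mem_or_mem inferInstance (hP.1.2 hsy)).resolve_left fun h => hs (hPp h)
            exact (hgt_self P).le
          exact (hgt_le_hgt_sup_add_one hqp₁ hxp).trans ((add_le_add_left h0 1).trans (zero_add (1 : ℕ∞)).le)
        · have h := hgt_add_one_le hlt (le_refl p₁)
          rwa [hgt_self, zero_add] at h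
      rw [hsum, hone, ← hd₁] at hd
      obtain rfl : d = d₁ + 1 := by norm_cast at hd; omega
      refine ⟨fun i hi => ?_, fun i => ?_⟩
      · rcases Nat.lt_or_ge i d₁ with h | h
        · exact h1 i h
        · obtain rfl : i = 0 + d₁ := by omega
          rw [h2, h3]
      · rw [show i + (d₁ + 1) = (i + 1) + d₁ by omega, h2, h4]

theorem bassNum_shift {ι : Type} [AddCommGroup ι] [DecidableEq ι] [Module.Free ℤ ι] [Module.Finite ℤ ι]
    {R : Type u} [CommRing R] [IsNoetherianRing R] {𝒜 : ι → AddSubgroup R} [GradedRing 𝒜]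
    {M : Type u} [AddCommGroup M] [Module R M] (ℳ : ι → AddSubgroup M) [Decomposition ℳ]
    [SetLike.GradedSMul 𝒜 ℳ] (p : Ideal R) [p.IsPrime] [(p.homogeneousCore 𝒜).toIdeal.IsPrime] (d : ℕ)
    (hd : hgt (p.homogeneousCore 𝒜).toIdeal p = d) :
    (∀ i, i < d → GrLC.bassNum p M i = 0) ∧
      ∀ i, GrLC.bassNum p M (i + d) = GrLC.bassNum (p.homogeneousCore 𝒜).toIdeal M i :=
  bassNum_shift_aux _ ι rfl R 𝒜 M ℳ p _ rfl d hd

end Groth.Agent.H4Gr
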