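import Groth.Agent.H4Gr.Injective
import Mathlib.RingTheory.GradedAlgebra.Radical
import Mathlib.Algebra.Order.Group.PiLex
import Mathlib.Order.PiLex
import Mathlib.RingTheory.Ideal.AssociatedPrime.Localization
import Mathlib.LinearAlgebra.FreeModule.Finite.Basic

/-!
# *injective envelopes of `R ⧸ p`; associated primes
-/

set_option autoImplicit false
set_option linter.unusedSectionVars false

universe u

open DirectSum

namespace Groth.Agent.H4Gr

variable {ι : Type} [AddCommGroup ι] [DecidableEq ι]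
variable {R : Type u} [CommRing R] {𝒜 : ι → AddSubgroup R} [GradedRing 𝒜]

variable (ι) in
theorem exists_linearOrder [Module.Free ℤ ι] [Module.Finite ℤ ι] :
    ∃ o : LinearOrder ι, o.toDecidableEq = ‹DecidableEq ι› ∧
      @IsOrderedCancelAddMonoid ι _ o.toPartialOrder.toPreorder := by
  let b := (Module.Free.chooseBasis ℤ ι).equivFun
  let e := Fintype.equivFin (Module.Free.ChooseBasisIndex ℤ ι)
  let φ : ι → Lex (Fin _ → ℤ) := fun x => toLex fun k => b x (e.symm k)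
  have hφ : Function.Injective φ := fun x y h => b.injective (funext fun k => by
    have h1 := congrFun (congrArg ofLex h) (e k)
    simpa [φ] using h1)
  have hadd : ∀ x y, φ (x + y) = φ x + φ y := fun x y => by
    simp only [φ, map_add]; rfl
  let o : LinearOrder ι := LinearOrder.lift' φ hφ
  refine ⟨{ o with
    toDecidableEq := ‹DecidableEq ι›
    compare_eq_compareOfLessAndEq := fun a b => by
      rw [o.compare_eq_compareOfLessAndEq]; congr 1 }, rfl, ?_⟩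
  letI := o
  exact Function.Injective.isOrderedCancelAddMonoid φ hadd .rfl

theorem isPrime_of_homogeneous [Module.Free ℤ ι] [Module.Finite ℤ ι] {I : Ideal R}
    (hI : I.IsHomogeneous 𝒜) (htop : I ≠ ⊤)
    (h : ∀ {i j : ι} {x y : R}, x ∈ 𝒜 i → y ∈ 𝒜 j → x * y ∈ I → x ∈ I ∨ y ∈ I) : I.IsPrime := by
  obtain ⟨o, ho, hoc⟩ := exists_linearOrder ι
  subst ho
  letI := o
  haveI := hoc
  exact hI.isPrime_of_homogeneous_mem_or_mem htop fun ⟨_, hx⟩ ⟨_, hy⟩ hxy => h hx hy hxy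

section Ass

variable {M : Type u} [AddCommGroup M] [Module R M] {ℳ : ι → AddSubgroup M} [Decomposition ℳ]
  [SetLike.GradedSMul 𝒜 ℳ]

variable (𝒜) in
/-- The annihilator of a homogeneous element is homogeneous. -/
theorem isHomogeneous_ker_toSpanSingleton {g : ι} {x : M} (hx : x ∈ ℳ g) :
    Ideal.IsHomogeneous 𝒜 (LinearMap.ker (LinearMap.toSpanSingleton R M x) : Ideal R) := by
  have hd : GrLC.IsGrHomDeg 𝒜 ℳ (LinearMap.toSpanSingleton R M x) g := fun i r hr => by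
    rw [LinearMap.toSpanSingleton_apply, add_comm]
    exact mem_of_smul_one hx hr
  exact isHomogeneous_ker hd

variable (𝒜 ℳ) in
include 𝒜 in
/-- A nonzero graded module has a homogeneous element with prime annihilator. -/
theorem exists_homogeneous_prime_annihilator [IsNoetherianRing R] [Module.Free ℤ ι] [Module.Finite ℤ ι]
    [Nontrivial M] : ∃ (g : ι) (x : M), x ∈ ℳ g ∧
      Ideal.IsPrime (LinearMap.ker (LinearMap.toSpanSingleton R M x) : Ideal R) := by
  obtain ⟨g₀, x₀, hx₀, -, hx₀0⟩ := exists_homogeneous_ne_zero (ℳ := ℳ) (p := (⊤ : Submodule R M))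
    (isHomogeneous_top) (by simp)
  obtain ⟨_, ⟨g, x, hx, hx0, rfl⟩, hmax⟩ := set_has_maximal_iff_noetherian.2 inferInstance
    {J : Ideal R | ∃ g, ∃ x ∈ ℳ g, x ≠ 0 ∧ LinearMap.ker (LinearMap.toSpanSingleton R M x) = J}
    ⟨_, g₀, x₀, hx₀, hx₀0, rfl⟩
  refine ⟨g, x, hx, isPrime_of_homogeneous (isHomogeneous_ker_toSpanSingleton 𝒜 hx)
    (fun h => hx0 (by simpa using h.ge (Submodule.mem_top (x := (1 : R))))) ?_⟩
  intro i j a b ha _ hab
  by_cases hax : a • x = 0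
  · exact .inl (by simpa using hax)
  refine .inr ?_
  have hle : LinearMap.ker (LinearMap.toSpanSingleton R M x) ≤
      LinearMap.ker (LinearMap.toSpanSingleton R M (a • x)) := fun r hr => by
    simp only [LinearMap.mem_ker, LinearMap.toSpanSingleton_apply] at hr ⊢
    rw [smul_comm, hr, smul_zero]
  have heq := hle.eq_or_lt.resolve_right (hmax _ ⟨i + g, a • x, smul_mem 𝒜 ha hx, hax, rfl⟩)
  rw [heq]
  simpa [smul_smul, mul_comm b a] using hab

end Ass

section Cyclic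

variable {E : Type u} [AddCommGroup E] [Module R E] {𝓔 : ι → AddSubgroup E} [Decomposition 𝓔]
  [SetLike.GradedSMul 𝒜 𝓔]
variable {p : HomogeneousIdeal 𝒜} {g₀ : ι}

theorem apply_mk {e : (R ⧸ p.toIdeal) →ₗ[R] E} (r : R) :
    e (Ideal.Quotient.mk p.toIdeal r) = r • e 1 := by
  rw [← map_smul, Algebra.smul_def, mul_one]; rfl

theorem range_eq_span (e : (R ⧸ p.toIdeal) →ₗ[R] E) :
    LinearMap.range e = Submodule.span R {e 1} := by
  refine le_antisymm ?_ ((Submodule.span_singleton_le_iff_mem _ _).2 ⟨1, rfl⟩)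
  rintro _ ⟨x, rfl⟩
  obtain ⟨r, rfl⟩ := Ideal.Quotient.mk_surjective x
  exact Submodule.mem_span_singleton.2 ⟨r, (apply_mk r).symm⟩

theorem smul_one_eq_zero_iff {e : (R ⧸ p.toIdeal) →ₗ[R] E} (he : Function.Injective e) {r : R} :
    r • e 1 = 0 ↔ r ∈ p.toIdeal := by
  rw [← apply_mk, map_eq_zero_iff e he, Ideal.Quotient.eq_zero_iff_mem]

/-- The shifted pieces of `R ⧸ p`. -/
def qPieces (p : HomogeneousIdeal 𝒜) (g₀ j : ι) : AddSubgroup (R ⧸ p.toIdeal) :=
  GrLC.quotGr 𝒜 p (j - g₀)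

theorem one_mem_qPieces (p : HomogeneousIdeal 𝒜) (g₀ : ι) :
    (1 : R ⧸ p.toIdeal) ∈ qPieces p g₀ g₀ :=
  ⟨1, show (1 : R) ∈ 𝒜 (g₀ - g₀) by rw [sub_self]; exact SetLike.GradedOne.one_mem, map_one (Ideal.Quotient.mk p.toIdeal)⟩

theorem mem_piece_of_grHom {e : (R ⧸ p.toIdeal) →ₗ[R] E}
    (he : GrLC.IsGrHom (qPieces p g₀) 𝓔 e) : e 1 ∈ 𝓔 g₀ :=
  he g₀ 1 (one_mem_qPieces p g₀)

theorem isHomogeneous_range_cyclic {e : (R ⧸ p.toIdeal) →ₗ[R] E}
    (he : GrLC.IsGrHom (qPieces p g₀) 𝓔 e) : (LinearMap.range e).IsHomogeneous 𝓔 := by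
  rw [range_eq_span]
  exact isHomogeneous_span 𝒜 fun x hx => ⟨g₀, by rw [Set.mem_singleton_iff.1 hx]; exact mem_piece_of_grHom he⟩

theorem isStarEss_qPieces_zero {e : (R ⧸ p.toIdeal) →ₗ[R] E}
    (he : GrLC.IsStarEss (GrLC.quotGr 𝒜 p) 𝓔 e) : GrLC.IsStarEss (qPieces p 0) 𝓔 e :=
  ⟨he.injective, fun g m hm => he.grHom g m (by simpa [qPieces] using hm), he.essential⟩

variable {e : (R ⧸ p.toIdeal) →ₗ[R] E} (he : GrLC.IsStarEss (qPieces p g₀) 𝓔 e)

include he in
theorem exists_smul_eq_smul_one {x : E} (hx : x ≠ 0) :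
    ∃ r s : R, r • x = s • e 1 ∧ r • x ≠ 0 := by
  obtain ⟨i, r, -, hrP, hr0⟩ := exists_smul_mem 𝒜 he.essential (isHomogeneous_range_cyclic he.grHom) hx
  rw [range_eq_span, Submodule.mem_span_singleton] at hrP
  obtain ⟨s, hs⟩ := hrP
  exact ⟨r, s, hs.symm, hr0⟩

variable [p.toIdeal.IsPrime]

include he in
theorem eq_of_mem_associatedPrimes [IsNoetherianRing R] {P : Ideal R} (hP : P ∈ associatedPrimes R E) :
    P = p.toIdeal := by
  have hPp := hP.isPrime
  obtain ⟨-, v, hv⟩ := isAssociatedPrime_iff.mp hP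
  have hann : ∀ a, a ∈ P ↔ a • v = 0 := fun a => by
    rw [hv, Submodule.mem_colon_singleton, Submodule.mem_bot]
  have hv0 : v ≠ 0 := fun h => hPp.ne_top ((Ideal.eq_top_iff_one P).2 ((hann 1).2 (by simp [h])))
  obtain ⟨r, s, hrs, hr0⟩ := exists_smul_eq_smul_one he hv0
  have hrP : r ∉ P := fun h => hr0 ((hann r).1 h)
  have hsp : s ∉ p.toIdeal := fun h => hr0 (hrs.trans ((smul_one_eq_zero_iff he.injective).2 h))
  ext a
  constructor
  · intro ha
    refine (Ideal.IsPrime.mem_or_mem ‹p.toIdeal.IsPrime› ((smul_one_eq_zero_iff he.injective).1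
      (show (a * s) • e 1 = 0 by rw [mul_smul, ← hrs, smul_comm, (hann a).1 ha, smul_zero]))).resolve_right hsp
  · intro ha
    refine (hPp.mem_or_mem ((hann (a * r)).2 ?_)).resolve_right hrP
    rw [mul_smul, hrs, smul_comm, (smul_one_eq_zero_iff he.injective).2 ha, smul_zero]

include he in
theorem mem_associatedPrimes_cyclic [IsNoetherianRing R] : p.toIdeal ∈ associatedPrimes R E :=
  isAssociatedPrime_iff.mpr ⟨inferInstance, e 1, Ideal.ext fun a => by
    rw [Submodule.mem_colon_singleton, Submodule.mem_bot, smul_one_eq_zero_iff he.injective]⟩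

include he in
theorem gam_eq_top [IsNoetherianRing R] : GrLC.gam p.toIdeal E = ⊤ := by
  refine eq_top_iff.2 fun x _ => ?_
  let N := Submodule.span R {x}
  have hle : p.toIdeal ≤ (Module.annihilator R N).radical := by
    rw [← Ideal.sInf_minimalPrimes]
    refine le_sInf fun P hP => ?_
    have h1 := Module.associatedPrimes.minimalPrimes_annihilator_subset_associatedPrimes R N hP
    exact (eq_of_mem_associatedPrimes he (associatedPrimes.subset_of_injective N.injective_subtype h1)).ge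
  obtain ⟨n, hn⟩ := Ideal.exists_pow_le_of_le_radical_of_fg hle (IsNoetherian.noetherian _)
  exact ⟨n, fun r hr => congrArg Subtype.val
    (Module.mem_annihilator.1 (hn hr) ⟨x, Submodule.mem_span_singleton_self x⟩)⟩

include he in
theorem smul_injective {r : R} (hrp : r ∉ p.toIdeal) : Function.Injective fun x : E => r • x := by
  intro x y hxy
  by_contra hne
  obtain ⟨a, s, has, ha0⟩ := exists_smul_eq_smul_one he (sub_ne_zero.2 hne)
  refine hrp ((Ideal.IsPrime.mem_or_mem ‹p.toIdeal.IsPrime› ((smul_one_eq_zero_iff he.injective).1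
    (show (r * s) • e 1 = 0 by
      rw [mul_smul, ← has, smul_comm, smul_sub, show r • x = r • y from hxy, sub_self, smul_zero]))).resolve_right
    fun h => ha0 (has.trans ((smul_one_eq_zero_iff he.injective).2 h)))

include he in
theorem smul_bijective (hE : GrLC.IsStarInj 𝒜 𝓔) {g : ι} {r : R} (hr : r ∈ 𝒜 g) (hrp : r ∉ p.toIdeal) :
    Function.Bijective fun x : E => r • x := by
  have hinj := smul_injective he hrp
  let m : E →ₗ[R] E := r • LinearMap.id
  have hm : GrLC.IsGrHomDeg 𝓔 𝓔 m g := fun j x hx => mem_of_smul_one hx hr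
  obtain ⟨h, hh, hhm⟩ := extend_deg hE hm hinj (isGrHomDeg_zero_iff.2 isGrHom_id)
  have hker : Function.Injective h := by
    rw [← LinearMap.ker_eq_bot]
    by_contra hne
    obtain ⟨x, hx, hx0⟩ := Submodule.exists_mem_ne_zero_of_ne_bot hne
    have : h (m x) = x := LinearMap.congr_fun hhm x
    rw [LinearMap.mem_ker] at hx
    refine hx0 (this.symm.trans ?_)
    simp [m, map_smul, hx]
  exact ⟨hinj, fun y => ⟨h y, hker (LinearMap.congr_fun hhm (h y))⟩⟩

include he in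
theorem isStarIndec : GrLC.IsStarIndec R 𝓔 := by
  have he1 : e 1 ≠ 0 := fun h => Ideal.IsPrime.ne_top ‹p.toIdeal.IsPrime› ((Ideal.eq_top_iff_one _).2
    ((smul_one_eq_zero_iff he.injective).1 (by rw [one_smul, h])))
  refine ⟨⟨e 1, 0, he1⟩, fun P Q hP hQ hPQ => ?_⟩
  by_contra h
  push Not at h
  have key : ∀ S : Submodule R E, S.IsHomogeneous 𝓔 → S ≠ ⊥ → ∃ a, a ∉ p.toIdeal ∧ a • e 1 ∈ S :=
    fun S hS hS0 => by
      obtain ⟨x, ⟨hxS, hxr⟩, hx0⟩ := Submodule.exists_mem_ne_zero_of_ne_bot (he.essential S hS hS0)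
      rw [SetLike.mem_coe, range_eq_span, Submodule.mem_span_singleton] at hxr
      obtain ⟨a, rfl⟩ := hxr
      exact ⟨a, fun hap => hx0 ((smul_one_eq_zero_iff he.injective).2 hap), hxS⟩
  obtain ⟨a, ha, haP⟩ := key P hP h.1
  obtain ⟨b, hb, hbQ⟩ := key Q hQ h.2
  have hmem : (a * b) • e 1 ∈ P ⊓ Q :=
    ⟨by rw [mul_comm, mul_smul]; exact P.smul_mem b haP, by rw [mul_smul]; exact Q.smul_mem a hbQ⟩
  rw [hPQ.inf_eq_bot, Submodule.mem_bot, smul_one_eq_zero_iff he.injective] at hmem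
  exact (Ideal.IsPrime.mem_or_mem ‹p.toIdeal.IsPrime› hmem).elim ha hb

end Cyclic

section Summand

variable {I : Type u} [AddCommGroup I] [Module R I] {ℐ : ι → AddSubgroup I} [Decomposition ℐ]
  [SetLike.GradedSMul 𝒜 ℐ]

theorem isInternal_qPieces (q : HomogeneousIdeal 𝒜) (g₀ : ι) : DirectSum.IsInternal (qPieces q g₀) := by
  have h0 := isInternal_quotPieces (ℳ := 𝒜) (p := q.toIdeal) q.isHomogeneous
  letI : Decomposition (quotPieces 𝒜 q.toIdeal) := h0.chooseDecomposition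
  have heq : qPieces q g₀ = shiftPieces (quotPieces 𝒜 q.toIdeal) (-g₀) := by
    funext j
    ext x
    simp only [qPieces, shiftPieces, GrLC.quotGr, quotPieces, ← sub_eq_add_neg]
    exact ⟨fun ⟨r, hr, h⟩ => ⟨r, hr, h⟩, fun ⟨r, hr, h⟩ => ⟨r, hr, h⟩⟩
  rw [heq]
  exact isInternal_shiftPieces _

theorem gradedSMul_qPieces (q : HomogeneousIdeal 𝒜) (g₀ : ι) : SetLike.GradedSMul 𝒜 (qPieces q g₀) :=
  ⟨fun {i j a x} ha hx => by
    obtain ⟨r, hr, rfl⟩ := hx
    refine ⟨a * r, show a * r ∈ 𝒜 ((i +ᵥ j) - g₀) from ?_, ?_⟩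
    · rw [vadd_eq_add, add_sub_assoc]; exact SetLike.mul_mem_graded ha hr
    · show Ideal.Quotient.mk q.toIdeal (a * r) = a • Ideal.Quotient.mk q.toIdeal r
      rw [Algebra.smul_def, map_mul]; rfl⟩

variable (𝒜) in
/-- `(R ⧸ q)(-g₀)`. -/
@[implicit_reducible]
noncomputable def qMod (q : HomogeneousIdeal 𝒜) (g₀ : ι) : GrLC.GMod.{u} 𝒜 :=
  { carrier := R ⧸ q.toIdeal
    gr := qPieces q g₀
    dec := (isInternal_qPieces q g₀).chooseDecomposition
    gsmul := gradedSMul_qPieces q g₀ }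

theorem exists_summand (hI : GrLC.IsStarInj 𝒜 ℐ) (q : HomogeneousIdeal 𝒜) [q.toIdeal.IsPrime]
    {g₀ : ι} {m : I} (hm : m ∈ ℐ g₀) (hann : ∀ r, r • m = 0 ↔ r ∈ q.toIdeal) :
    ∃ (X : GrLC.GMod.{u} 𝒜) (f : (R ⧸ q.toIdeal) →ₗ[R] X.carrier) (ψ : X.carrier →ₗ[R] I)
      (Q : Submodule R I), GrLC.IsStarInjHull 𝒜 (qPieces q g₀) X.gr f ∧ Function.Injective ψ ∧
      GrLC.IsGrHom X.gr ℐ ψ ∧ ψ (f 1) = m ∧ Q.IsHomogeneous ℐ ∧ IsCompl (LinearMap.range ψ) Q := by
  let A := qMod 𝒜 q g₀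
  obtain ⟨J, _, _, hJ, e, he⟩ := exists_injective_module (R := R) A.carrier
  obtain ⟨X, f, hf, -⟩ := exists_isStarInjHull (𝒜 := 𝒜) (ℳ := A.gr) J e he
  let φ : A.carrier →ₗ[R] I := Submodule.liftQ q.toIdeal (LinearMap.toSpanSingleton R I m)
    fun r hr => (hann r).2 hr
  have hφ : GrLC.IsGrHom A.gr ℐ φ := fun j x hx => by
    obtain ⟨r, hr, rfl⟩ := hx
    show r • m ∈ ℐ j
    have := smul_mem 𝒜 (show r ∈ 𝒜 (j - g₀) from hr) hm
    rwa [sub_add_cancel] at this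
  have hφi : Function.Injective φ := by
    rw [← LinearMap.ker_eq_bot]
    exact Submodule.ker_liftQ_eq_bot _ _ _ fun r hr => (hann r).1 hr
  obtain ⟨ψ, hψ, hψf⟩ := extend hI hf.grHom hf.injective hφ
  have hψi : Function.Injective ψ := injective_of_comp_injective hf.toIsStarEss
    (isGrHomDeg_zero_iff.2 hψ) (by rw [hψf]; exact hφi)
  obtain ⟨r, hr, hrψ⟩ := exists_retraction hf.starInj hψ hψi
  refine ⟨X, f, ψ, LinearMap.ker r, ⟨⟨hf.injective, hf.grHom, hf.essential⟩, hf.starInj⟩, hψi, hψ, ?_,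
    isHomogeneous_ker (isGrHomDeg_zero_iff.2 hr), ⟨?_, ?_⟩⟩
  · exact (LinearMap.congr_fun hψf _).trans (one_smul R m)
  · rw [disjoint_iff, eq_bot_iff]
    rintro _ ⟨⟨x, rfl⟩, hx⟩
    have := LinearMap.congr_fun hrψ x
    rw [SetLike.mem_coe, LinearMap.mem_ker] at hx
    simp only [LinearMap.comp_apply, LinearMap.id_apply, hx] at this
    simp [← this]
  · rw [codisjoint_iff, eq_top_iff]
    intro y _
    refine Submodule.mem_sup.2 ⟨ψ (r y), ⟨_, rfl⟩, y - ψ (r y), ?_, by abel⟩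
    rw [LinearMap.mem_ker, map_sub, show r (ψ (r y)) = r y from LinearMap.congr_fun hrψ (r y), sub_self]

theorem exists_of_isStarIndec [IsNoetherianRing R] [Module.Free ℤ ι] [Module.Finite ℤ ι]
    (hI : GrLC.IsStarInj 𝒜 ℐ) (hind : GrLC.IsStarIndec R ℐ) :
    ∃ (q : HomogeneousIdeal 𝒜) (g₀ : ι) (f : (R ⧸ q.toIdeal) →ₗ[R] I), q.toIdeal.IsPrime ∧
      GrLC.IsStarInjHull 𝒜 (qPieces q g₀) ℐ f := by
  have := hind.1
  obtain ⟨g₀, m, hm, hp⟩ := exists_homogeneous_prime_annihilator 𝒜 ℐ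
  let q : HomogeneousIdeal 𝒜 := ⟨_, isHomogeneous_ker_toSpanSingleton 𝒜 hm⟩
  haveI : q.toIdeal.IsPrime := hp
  obtain ⟨X, f, ψ, Q, hf, hψi, hψ, hψ1, hQ, hc⟩ := exists_summand hI q hm fun r => Iff.rfl
  have hm0 : m ≠ 0 := fun h => hp.ne_top ((Ideal.eq_top_iff_one _).2 (by simp [h]))
  have hQ0 : Q = ⊥ := (hind.2 _ Q (isHomogeneous_range (isGrHomDeg_zero_iff.2 hψ)) hQ hc).resolve_left
    fun h => hm0 ((Submodule.mem_bot R).1 (h ▸ ⟨f 1, hψ1⟩))
  have htop : LinearMap.range ψ = ⊤ := by simpa [hQ0] using hc.sup_eq_top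
  letI : Decomposition (qPieces q g₀) := (qMod 𝒜 q g₀).dec
  refine ⟨q, g₀, ψ ∘ₗ f, hp, ⟨⟨hψi.comp hf.injective, isGrHom_comp hψ hf.grHom, fun P hP hP0 h => ?_⟩, hI⟩⟩
  refine hf.essential (P.comap ψ) (isHomogeneous_comap (isGrHomDeg_zero_iff.2 hψ) hP) (fun h' => hP0 ?_)
    (eq_bot_iff.2 ?_)
  · rw [← Submodule.map_comap_eq_of_le (f := ψ) (p := P) (by rw [htop]; exact le_top), h', Submodule.map_bot]
  · rintro x ⟨hx, w, rfl⟩
    have : ψ (f w) ∈ P ⊓ LinearMap.range (ψ ∘ₗ f) := ⟨hx, w, rfl⟩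
    rw [h, Submodule.mem_bot] at this
    rw [Submodule.mem_bot]
    exact hψi (this.trans (map_zero ψ).symm)

end Summand

end Groth.Agent.H4Gr
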