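import Groth.Agent.H4Gr.Torsion
import Mathlib.RingTheory.Regular.RegularSequence

/-!
# The end of local cohomology modulo regular elements
-/

set_option autoImplicit false
set_option linter.unusedSectionVars false
set_option linter.style.haveILetI false

universe u

open DirectSum Pointwise

namespace Groth.Agent.H4Gr

theorem eq_add_of_forall_le_iff {x y : WithBot (WithTop ℤ)} {k : ℤ}
    (h : ∀ d : ℤ, x ≤ ((d : WithTop ℤ) : WithBot (WithTop ℤ)) ↔ y ≤ (((d - k : ℤ) : WithTop ℤ) : WithBot (WithTop ℤ))) :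
    x = y + ((k : WithTop ℤ) : WithBot (WithTop ℤ)) := by
  cases x with
  | bot =>
    cases y with
    | bot => rfl
    | coe y =>
      cases y with
      | top => exact absurd ((h 0).1 bot_le) (by simp)
      | coe y =>
        have h1 := (h (y + k - 1)).1 bot_le
        rw [WithBot.coe_le_coe, WithTop.coe_le_coe] at h1
        omega
  | coe x =>
    cases x with
    | top =>
      cases y with
      | bot => exact absurd ((h 0).2 bot_le) (by rw [WithBot.coe_le_coe]; exact not_le.mpr (WithTop.coe_lt_top _))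
      | coe y =>
        cases y with
        | top => rfl
        | coe y =>
          have h1 := (h (y + k)).2 (by rw [WithBot.coe_le_coe, WithTop.coe_le_coe]; omega)
          exact absurd h1 (by rw [WithBot.coe_le_coe]; exact not_le.mpr (WithTop.coe_lt_top _))
    | coe x =>
      cases y with
      | bot =>
        have h1 := (h (x - 1)).2 bot_le
        rw [WithBot.coe_le_coe, WithTop.coe_le_coe] at h1
        omega
      | coe y =>
        cases y with
        | top => exact absurd ((h x).1 le_rfl) (by simp)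
        | coe y =>
          have h1 := (h x).1 le_rfl
          have h2 := (h (y + k)).2 (by rw [WithBot.coe_le_coe, WithTop.coe_le_coe]; omega)
          rw [WithBot.coe_le_coe, WithTop.coe_le_coe] at h1 h2
          rw [← WithBot.coe_add, ← WithTop.coe_add, show x = y + k by omega]

variable {R : Type u} [CommRing R] [IsNoetherianRing R] {𝒜 : ℤ → AddSubgroup R} [GradedRing 𝒜]
variable {M : Type u} [AddCommGroup M] [Module R M] {ℳ : ℤ → AddSubgroup M} [Decomposition ℳ]
  [SetLike.GradedSMul 𝒜 ℳ]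
variable {N : Type u} [AddCommGroup N] [Module R N] {𝒩 : ℤ → AddSubgroup N} [Decomposition 𝒩]
  [SetLike.GradedSMul 𝒜 𝒩]

theorem Hgr_eq_bot_of_forall (a : HomogeneousIdeal 𝒜) (E : GrLC.StarInjRes 𝒜 ℳ) {i : ℕ} {g : ℤ}
    (h : ∀ x ∈ E.Hgr a i g, x = 0) : E.Hgr a i g = ⊥ := AddSubgroup.eq_bot_iff_forall _ |>.2 h

variable (hpos : ∀ n : ℤ, n < 0 → 𝒜 n = ⊥)

include hpos in
/-- `a(M/xM) = a(M) + deg x` in the top degree. -/
theorem endDeg_quot_smul (a : HomogeneousIdeal 𝒜) {x : R} {k : ℤ} (hx : x ∈ 𝒜 k) (hxa : x ∈ a.toIdeal)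
    (hreg : IsSMulRegular M x) {π : M →ₗ[R] N} (hπ : GrLC.IsGrHom ℳ 𝒩 π) (hπs : Function.Surjective π)
    (hker : LinearMap.ker π = LinearMap.range (x • (LinearMap.id : M →ₗ[R] M)))
    (E : GrLC.StarInjRes 𝒜 ℳ) (F : GrLC.StarInjRes 𝒜 𝒩) (D : ℕ) (h0 : ∀ y : E.H a D, y = 0) :
    GrLC.endDeg (F.Hgr a D) = GrLC.endDeg (E.Hgr a (D + 1)) + ((k : WithTop ℤ) : WithBot (WithTop ℤ)) := by
  refine eq_add_of_forall_le_iff fun d => ?_
  rw [endDeg_le_iff', endDeg_le_iff']
  rcases lt_or_ge k 0 with hk | hk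
  · have hx0 : x = 0 := by simpa [hpos k hk] using hx
    haveI : Subsingleton M := ⟨fun p q => hreg (by simp [hx0])⟩
    haveI : Subsingleton N := hπs.subsingleton
    exact ⟨fun _ n _ => (Hgr_eq_bot_iff a).2 (Hcomp_eq_bot_of_subsingleton a E _ n),
      fun _ n _ => (Hgr_eq_bot_iff a).2 (Hcomp_eq_bot_of_subsingleton a F _ n)⟩
  have S : GSES ℳ ℳ 𝒩 (x • (LinearMap.id : M →ₗ[R] M)) π k :=
    ⟨isGrHomDeg_smul_id hx, hreg, hπ, hπs, LinearMap.exact_iff.2 hker⟩
  obtain ⟨δ, hδ, -, -, hex₂, hex₃⟩ := S.exists_δ a E E F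
  have hinj : Function.Injective (δ D) := (injective_iff_map_eq_zero _).2 fun y hy => by
    obtain ⟨z, rfl⟩ := ((hex₂ D) y).1 hy
    rw [h0 z, map_zero]
  constructor
  · intro h
    have key : ∀ (j : ℕ) (n : ℤ), d - k < n → ∀ y ∈ E.Hgr a (D + 1) n, x ^ j • y = 0 → y = 0 := by
      intro j
      induction j with
      | zero => intro n _ y _ hy; simpa using hy
      | succ j ih =>
        intro n hn y hy hxy
        rw [pow_succ, mul_smul] at hxy
        let := (isInternal_Hgr a E (D + 1)).chooseDecomposition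
        let := gradedSMul_Hgr a E (D + 1)
        have h1 : x • y = 0 := ih (k + n) (by omega) _ (smul_mem 𝒜 hx hy) hxy
        have h2 : hmap a E E (x • LinearMap.id) S.deg (D + 1) y = 0 := by
          rw [hmap_smul_id a E hx]; exact h1
        obtain ⟨z, hz, rfl⟩ := exists_piece_preimage a (hδ D) hy ((hex₃ D y).1 h2)
        rw [sub_neg_eq_add] at hz
        rw [(AddSubgroup.eq_bot_iff_forall _).1 (h (n + k) (by omega)) z hz, map_zero]
    intro n hn
    refine Hgr_eq_bot_of_forall a E fun y hy => ?_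
    obtain ⟨j, hj⟩ := (gam_H_eq_top a E (D + 1)).ge (Submodule.mem_top (x := y))
    exact key j n hn y hy (hj _ (Ideal.pow_mem_pow hxa j))
  · intro h n hn
    refine Hgr_eq_bot_of_forall a F fun y hy => hinj ?_
    rw [map_zero]
    exact (AddSubgroup.eq_bot_iff_forall _).1 (h (n + -k) (by omega)) _ (hδ D n y hy)

include hpos in
/-- `H^j(M/xM) = 0` when `H^j(M)` and `H^{j+1}(M)` vanish. -/
theorem H_quot_eq_zero (a : HomogeneousIdeal 𝒜) {x : R} {k : ℤ} (hx : x ∈ 𝒜 k)
    (hreg : IsSMulRegular M x) {π : M →ₗ[R] N} (hπ : GrLC.IsGrHom ℳ 𝒩 π) (hπs : Function.Surjective π)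
    (hker : LinearMap.ker π = LinearMap.range (x • (LinearMap.id : M →ₗ[R] M)))
    (E : GrLC.StarInjRes 𝒜 ℳ) (F : GrLC.StarInjRes 𝒜 𝒩) (j : ℕ) (h0 : ∀ y : E.H a j, y = 0)
    (h1 : ∀ y : E.H a (j + 1), y = 0) (y : F.H a j) : y = 0 := by
  have S : GSES ℳ ℳ 𝒩 (x • (LinearMap.id : M →ₗ[R] M)) π k :=
    ⟨isGrHomDeg_smul_id hx, hreg, hπ, hπs, LinearMap.exact_iff.2 hker⟩
  obtain ⟨δ, -, -, -, hex₂, -⟩ := S.exists_δ a E E F
  obtain ⟨z, rfl⟩ := ((hex₂ j) y).1 (h1 _)
  rw [h0 z, map_zero]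

variable (𝒜) in
include hpos in
/-- Iteration along a regular sequence. -/
theorem endDeg_quot_list (a : HomogeneousIdeal 𝒜) : ∀ (l : List (R × ℤ)),
    (∀ p ∈ l, p.1 ∈ 𝒜 p.2 ∧ p.1 ∈ a.toIdeal) → ∀ (X : GrLC.GMod.{u} 𝒜),
    RingTheory.Sequence.IsWeaklyRegular X.carrier (l.map Prod.fst) → ∀ (n : ℕ), l.length ≤ n →
    ∀ (E : GrLC.StarInjRes 𝒜 X.gr), (∀ j < n, ∀ y : E.H a j, y = 0) →
    ∀ (Y : GrLC.GMod.{u} 𝒜) (π : X.carrier →ₗ[R] Y.carrier), GrLC.IsGrHom X.gr Y.gr π → Function.Surjective π →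
    LinearMap.ker π = Ideal.ofList (l.map Prod.fst) • ⊤ → ∀ F : GrLC.StarInjRes 𝒜 Y.gr,
      GrLC.endDeg (F.Hgr a (n - l.length)) =
        GrLC.endDeg (E.Hgr a n) + (((l.map Prod.snd).sum : ℤ) : WithTop ℤ) := by
  intro l
  induction l with
  | nil =>
    intro _ X _ n _ E _ Y π hπ hπs hker F
    simp only [List.map_nil, Ideal.ofList_nil, Submodule.bot_smul] at hker
    simp only [List.length_nil, Nat.sub_zero, List.map_nil, List.sum_nil]
    refine eq_add_of_forall_le_iff fun d => ?_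
    rw [endDeg_le_iff', endDeg_le_iff', sub_zero]
    have hb : Function.Bijective π := ⟨LinearMap.ker_eq_bot.1 hker, hπs⟩
    let ψ : Y.carrier ≃ₗ[R] X.carrier := (LinearEquiv.ofBijective π hb).symm
    have hψ : GrLC.IsGrHom Y.gr X.gr ψ.toLinearMap :=
      isGrHom_symm (e := LinearEquiv.ofBijective π hb) hπ
    simp only [Hgr_eq_bot_iff]
    exact ⟨fun h g hg => Hcomp_eq_bot_of_bijective a (isGrHomDeg_zero_iff.2 hπ) hb E F
        (by rw [add_zero]; exact h g hg),
      fun h g hg => Hcomp_eq_bot_of_bijective a (isGrHomDeg_zero_iff.2 hψ) ψ.bijective F E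
        (by rw [add_zero]; exact h g hg)⟩
  | cons p l ih =>
    intro hl X hreg n hn E hE Y π hπ hπs hker F
    obtain ⟨x, k⟩ := p
    obtain ⟨hxk, hxa⟩ := hl (x, k) List.mem_cons_self
    rw [List.map_cons, RingTheory.Sequence.isWeaklyRegular_cons_iff] at hreg
    let P : Submodule R X.carrier := LinearMap.range (x • (LinearMap.id : X.carrier →ₗ[R] X.carrier))
    have hP : P.IsHomogeneous X.gr := isHomogeneous_range (isGrHomDeg_smul_id (ℳ := X.gr) hxk)
    let X' := quotMod 𝒜 P hP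
    let q : X.carrier →ₗ[R] X'.carrier := P.mkQ
    obtain ⟨E'⟩ := nonempty_starInjRes (𝒜 := 𝒜) (ℳ := X'.gr)
    have hPe : x • (⊤ : Submodule R X.carrier) = P := by
      ext y
      simp only [P, LinearMap.mem_range, LinearMap.smul_apply, LinearMap.id_apply, Submodule.mem_smul_pointwise_iff_exists, Submodule.mem_top, true_and]
    obtain ⟨m, rfl⟩ : ∃ m, n = m + 1 := ⟨n - 1, by simp only [List.length_cons] at hn; omega⟩
    have hreg' : RingTheory.Sequence.IsWeaklyRegular X'.carrier (l.map Prod.fst) :=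
      ((Submodule.quotEquivOfEq _ _ hPe).isWeaklyRegular_congr _).1 hreg.2
    have hkx : LinearMap.ker q = P := Submodule.ker_mkQ P
    have hqg : GrLC.IsGrHom X.gr X'.gr q := isGrHom_mkQ P
    have hqs : Function.Surjective q := Submodule.mkQ_surjective P
    have hE' : ∀ j < m, ∀ y : E'.H a j, y = 0 := fun j hj =>
      H_quot_eq_zero hpos a hxk hreg.1 hqg hqs hkx E E' j
        (hE j (by omega)) (hE (j + 1) (by omega))
    have hPle : P ≤ LinearMap.ker π := by
      rw [hker, List.map_cons, Ideal.ofList_cons, Submodule.sup_smul, Submodule.ideal_span_singleton_smul, hPe]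
      exact le_sup_left
    let π' : X'.carrier →ₗ[R] Y.carrier := P.liftQ π hPle
    have hπ' : GrLC.IsGrHom X'.gr Y.gr π' := by
      rintro g _ ⟨z, hz, rfl⟩
      exact hπ g z hz
    have hker' : LinearMap.ker π' = Ideal.ofList (l.map Prod.fst) • ⊤ := by
      rw [Submodule.ker_liftQ, hker, List.map_cons, Ideal.ofList_cons, Submodule.sup_smul,
        Submodule.ideal_span_singleton_smul, hPe, Submodule.map_sup, Submodule.map_smul'', Submodule.map_top,
        Submodule.range_mkQ, Submodule.mkQ_map_self, bot_sup_eq]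
    have h1 := ih (fun p hp => hl p (List.mem_cons_of_mem _ hp)) X' hreg' m
      (by simp only [List.length_cons] at hn; omega) E' hE' Y π' hπ'
      (fun y => (hπs y).elim fun z hz => ⟨q z, hz⟩) hker' F
    rw [List.length_cons, Nat.add_sub_add_right, h1,
      endDeg_quot_smul hpos a hxk hxa hreg.1 hqg hqs hkx E E' m (hE m (by omega)),
      List.map_cons, List.sum_cons, WithTop.coe_add, WithBot.coe_add, add_assoc]

end Groth.Agent.H4Gr
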