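import Groth.Agent.H4Gr.BassShift
import Groth.Agent.H4Depth.IdealDepth

/-!
# Depth via Bass numbers
-/

set_option autoImplicit false

universe u

open CategoryTheory

namespace Groth.Agent.H4Gr

theorem le_depth_localization_iff {R : Type u} [CommRing R] [IsNoetherianRing R] (p : Ideal R) [p.IsPrime]
    (M : Type u) [AddCommGroup M] [Module R M] [Module.Finite R M] (n : ℕ) :
    (n : ℕ∞) ≤ LocCoh.depth (Localization.AtPrime p) (LocalizedModule p.primeCompl M) ↔
      ∀ i < n, GrLC.bassNum p M i = 0 := by
  rw [LocCoh.depth, H4Depth.le_idealDepth_iff_ext]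
  refine forall₂_congr fun i _ => ?_
  exact (Module.length_eq_zero_iff (R := Localization.AtPrime p)).symm

end Groth.Agent.H4Gr
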