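import Groth.Agent.H4Gr.BassStep
import Groth.Agent.H4Gr.Primes

/-!
# Bass numbers count the summands of *injective modules
-/

set_option autoImplicit false
set_option linter.unusedSectionVars false

universe u

open DirectSum CategoryTheory

namespace Groth.Agent.H4Gr

variable {ι : Type} [AddCommGroup ι] [DecidableEq ι]
variable {R : Type u} [CommRing R] {𝒜 : ι → AddSubgroup R} [GradedRing 𝒜]

section Map

variable {N N' : Type u} [AddCommGroup N] [Module R N] [AddCommGroup N'] [Module R N']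

/-- Free families are pushed along maps that are bijective up to elements outside the prime. -/
theorem IsFreeFamily.map {q : Ideal R} [hqp : q.IsPrime] {κ : Type u} {b : κ → N}
    (hb : IsFreeFamily (𝒜 := 𝒜) q b) (h : N →ₗ[R] N') (hk : ∀ x, h x = 0 → ∃ s, s ∉ q ∧ s • x = 0)
    (hs : ∀ (p : Ideal R) [p.IsPrime], (∀ g, ∀ x ∈ 𝒜 g, x ∈ p → x ∈ q) →
      ∀ e : N', ∃ s, s ∉ p ∧ ∃ x, s • e = h x) :
    IsFreeFamily (𝒜 := 𝒜) q (h ∘ b) where
  indep c hc k := by
    rw [← Finsupp.apply_linearCombination] at hc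
    obtain ⟨s, hsq, hs0⟩ := hk _ hc
    rw [← map_smul] at hs0
    have h1 := hb.indep _ hs0 k
    rw [Finsupp.smul_apply, smul_eq_mul] at h1
    exact (hqp.mem_or_mem h1).resolve_left hsq
  span p hp hpq e := by
    obtain ⟨s, hsp, x, hx⟩ := hs p hpq e
    obtain ⟨t, ht, htx⟩ := hb.span p hpq x
    refine ⟨t * s, fun h' => (hp.mem_or_mem h').elim ht hsp, ?_⟩
    rw [mul_smul, hx, ← map_smul, Set.range_comp, ← Submodule.map_span]
    exact Submodule.mem_map_of_mem htx

end Map

variable {M : Type u} [AddCommGroup M] [Module R M] {ℳ : ι → AddSubgroup M} [Decomposition ℳ]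
  [SetLike.GradedSMul 𝒜 ℳ]
variable {E : Type u} [AddCommGroup E] [Module R E] {𝓔 : ι → AddSubgroup E} [Decomposition 𝓔]
  [SetLike.GradedSMul 𝒜 𝓔]

variable (𝒜 ℳ) in
include ℳ in
theorem exists_torsion_family {q : Ideal R} (hq : q.IsHomogeneous 𝒜) :
    ∃ (κ : Type u) (b : κ → Submodule.torsionBySet R M (q : Set R)), IsFreeFamily (𝒜 := 𝒜) q b :=
  exists_isFreeFamily 𝒜 (subMod 𝒜 _ (isHomogeneous_torsionBySet (ℳ := ℳ) hq)).gr q fun r hr y =>
    Subtype.ext ((Submodule.mem_torsionBySet_iff _ _).1 y.2 ⟨r, hr⟩)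

theorem bassNum_zero_eq_card [IsNoetherianRing R] (q : Ideal R) [q.IsPrime] {κ : Type u}
    {b : κ → Submodule.torsionBySet R M (q : Set R)} (hb : IsFreeFamily (𝒜 := 𝒜) q b) :
    GrLC.bassNum q M 0 = ENat.card κ :=
  bassNum_eq_card q 0 (hb.of_linearEquiv (extZeroEquiv q M).symm)

variable (𝒜) in
include 𝒜 in
/-- Torsion of a *essential extension agrees with that of the submodule up to elements outside the prime. -/
theorem exists_smul_eq_of_ess {f : M →ₗ[R] E} (hfi : Function.Injective f) (hfg : GrLC.IsGrHom ℳ 𝓔 f)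
    (hess : ∀ P : Submodule R E, P.IsHomogeneous 𝓔 → P ≠ ⊥ → P ⊓ LinearMap.range f ≠ ⊥)
    {q : Ideal R} (hq : q.IsHomogeneous 𝒜) {p : Ideal R} [hp : p.IsPrime]
    (hpq : ∀ g, ∀ x ∈ 𝒜 g, x ∈ p → x ∈ q) {e : E} (he : e ∈ Submodule.torsionBySet R E (q : Set R)) :
    ∃ s, s ∉ p ∧ ∃ x ∈ Submodule.torsionBySet R M (q : Set R), s • e = f x := by
  classical
  have hT := isHomogeneous_torsionBySet (ℳ := 𝓔) hq
  have h1 : (1 : R) ∉ p := fun h => hp.ne_top ((Ideal.eq_top_iff_one p).2 h)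
  have hhom : ∀ g, ∃ s, s ∉ p ∧ ∃ x ∈ Submodule.torsionBySet R M (q : Set R), s • proj 𝓔 g e = f x := by
    intro g
    by_cases h0 : proj 𝓔 g e = 0
    · exact ⟨1, h1, 0, zero_mem _, by rw [h0, smul_zero, map_zero]⟩
    have hge := hT g he
    obtain ⟨i, r, hr, ⟨x, hx⟩, hr0⟩ := exists_smul_mem_of_homogeneous 𝒜 hess
      (isHomogeneous_range (isGrHomDeg_zero_iff.2 hfg)) (proj_mem 𝓔 g e) h0
    refine ⟨r, fun hrp => hr0 ((Submodule.mem_torsionBySet_iff _ _).1 hge ⟨r, hpq i r hr hrp⟩), x, ?_,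
      hx.symm⟩
    rw [Submodule.mem_torsionBySet_iff]
    intro a
    refine hfi ?_
    rw [map_smul, hx, smul_comm, map_zero]
    exact (congrArg (r • ·) ((Submodule.mem_torsionBySet_iff _ _).1 hge a)).trans (smul_zero r)
  choose s hs x hxT hx using hhom
  obtain ⟨t, ht, -⟩ := exists_sum_proj 𝓔 e
  refine ⟨∏ g ∈ t, s g, fun h => ?_, ∑ g ∈ t, (∏ j ∈ t.erase g, s j) • x g,
    sum_mem fun g _ => Submodule.smul_mem _ _ (hxT g), ?_⟩
  · obtain ⟨g, -, hg⟩ := (hp.prod_mem_iff).1 h
    exact hs g hg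
  · rw [map_sum]
    conv_lhs => rw [← ht]
    rw [Finset.smul_sum]
    refine Finset.sum_congr rfl fun g hg => ?_
    rw [map_smul, ← hx g, ← mul_smul, Finset.prod_erase_mul t s hg]

variable (𝒜) in
include 𝒜 in
/-- Pushing free families of torsion into a *essential extension. -/
theorem exists_torsion_family_of_ess {f : M →ₗ[R] E} (hfi : Function.Injective f)
    (hfg : GrLC.IsGrHom ℳ 𝓔 f)
    (hess : ∀ P : Submodule R E, P.IsHomogeneous 𝓔 → P ≠ ⊥ → P ⊓ LinearMap.range f ≠ ⊥)
    {q : Ideal R} [q.IsPrime] (hq : q.IsHomogeneous 𝒜) {κ : Type u}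
    {b : κ → Submodule.torsionBySet R M (q : Set R)} (hb : IsFreeFamily (𝒜 := 𝒜) q b) :
    ∃ b' : κ → Submodule.torsionBySet R E (q : Set R), IsFreeFamily (𝒜 := 𝒜) q b' := by
  let h : Submodule.torsionBySet R M (q : Set R) →ₗ[R] Submodule.torsionBySet R E (q : Set R) :=
    f.restrict fun x hx => (Submodule.mem_torsionBySet_iff _ _).2 fun a => by
      rw [← map_smul, (Submodule.mem_torsionBySet_iff _ _).1 hx a, map_zero]
  refine ⟨h ∘ b, hb.map h (fun x hx => ⟨1, fun h1 => Ideal.IsPrime.ne_top ‹_› ((Ideal.eq_top_iff_one q).2 h1),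
    ?_⟩) fun p _ hpq e => ?_⟩
  · rw [one_smul]
    exact Subtype.ext (hfi ((congrArg Subtype.val hx).trans (map_zero f).symm))
  · obtain ⟨s, hs, x, hxT, hsx⟩ := exists_smul_eq_of_ess 𝒜 hfi hfg hess hq hpq e.2
    exact ⟨s, hs, ⟨x, hxT⟩, Subtype.ext hsx⟩

variable [IsNoetherianRing R]

variable (𝒜 ℳ) in
include ℳ in
theorem bassNum_zero_eq_of_ess {f : M →ₗ[R] E} (hfi : Function.Injective f)
    (hfg : GrLC.IsGrHom ℳ 𝓔 f)
    (hess : ∀ P : Submodule R E, P.IsHomogeneous 𝓔 → P ≠ ⊥ → P ⊓ LinearMap.range f ≠ ⊥)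
    {q : Ideal R} [q.IsPrime] (hq : q.IsHomogeneous 𝒜) :
    GrLC.bassNum q M 0 = GrLC.bassNum q E 0 := by
  obtain ⟨κ, b, hb⟩ := exists_torsion_family 𝒜 ℳ hq
  obtain ⟨b', hb'⟩ := exists_torsion_family_of_ess 𝒜 hfi hfg hess hq hb
  rw [bassNum_zero_eq_card q hb, bassNum_zero_eq_card q hb']

variable (𝒜) in
include 𝒜 in
/-- The summands of a *injective module are counted by Bass numbers. -/
theorem toENat_card_summands [Module.Free ℤ ι] [Module.Finite ℤ ι] (Λ : Type u) (P : Λ → HomogeneousIdeal 𝒜) (hP : ∀ α, (P α).toIdeal.IsPrime)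
    (g : Λ → ι) (J : Λ → Submodule R E) (hJ : ∀ α, (J α).IsHomogeneous 𝓔) (hind : iSupIndep J)
    (htop : iSup J = ⊤) (f : ∀ α, (R ⧸ (P α).toIdeal) →ₗ[R] E)
    (hf : ∀ α, Function.Injective (f α) ∧ GrLC.IsGrHomDeg (GrLC.quotGr 𝒜 (P α)) 𝓔 (f α) (g α) ∧
      LinearMap.range (f α) ≤ J α ∧
      ∀ Q : Submodule R E, Q.IsHomogeneous 𝓔 → Q ≤ J α → Q ≠ ⊥ → Q ⊓ LinearMap.range (f α) ≠ ⊥)
    (p : HomogeneousIdeal 𝒜) [p.toIdeal.IsPrime] :
    Cardinal.toENat (Cardinal.mk {α : Λ // P α = p}) = GrLC.bassNum p.toIdeal E 0 := by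
  classical
  let X := fun α => subMod 𝒜 (J α) (hJ α)
  let e : ∀ α, (R ⧸ (P α).toIdeal) →ₗ[R] (X α).carrier := fun α =>
    (f α).codRestrict (J α) fun x => (hf α).2.2.1 ⟨x, rfl⟩
  have he : ∀ α, GrLC.IsStarEss (qPieces (P α) (g α)) (X α).gr (e α) := fun α => by
    refine ⟨fun a b h => (hf α).1 (congrArg Subtype.val h), fun j x hx => ?_, fun Q hQ hQ0 h => ?_⟩
    · have := (hf α).2.1 (j - g α) x hx
      rw [sub_add_cancel] at this
      exact this
    · refine (hf α).2.2.2 (Q.map (subIncl 𝒜 (J α) (hJ α)))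
        (isHomogeneous_map (isGrHomDeg_zero_iff.2 (isGrHom_subIncl _ _)) hQ)
        (by rintro _ ⟨y, -, rfl⟩; exact y.2)
        (fun h' => hQ0 (Submodule.map_injective_of_injective (f := subIncl 𝒜 (J α) (hJ α)) Subtype.val_injective (h'.trans (Submodule.map_bot _).symm))) (eq_bot_iff.2 ?_)
      rintro _ ⟨⟨y, hy, rfl⟩, w, hw⟩
      have : y ∈ Q ⊓ LinearMap.range (e α) := ⟨hy, w, Subtype.ext hw⟩
      rw [h, Submodule.mem_bot] at this
      rw [this]; simp
  have hint := DirectSum.isInternal_submodule_of_iSupIndep_of_iSup_eq_top hind htop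
  letI := hint.chooseDecomposition
  let π : ∀ α, E →ₗ[R] E := fun α =>
    (J α).subtype ∘ₗ DirectSum.component R Λ _ α ∘ₗ (DirectSum.decomposeLinearEquiv J).toLinearMap
  have hπ : ∀ {α : Λ} {x : E}, x ∈ J α → ∀ β, π β x = if α = β then x else 0 := fun {α x} hx β => by
    show (DirectSum.decompose J x β : E) = _
    split_ifs with h
    · subst h; exact DirectSum.decompose_of_mem_same J hx
    · exact DirectSum.decompose_of_mem_ne J hx h
  let T := Submodule.torsionBySet R E (p.toIdeal : Set R)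
  let b : {α : Λ // P α = p} → T := fun α => ⟨f α.1 1, (Submodule.mem_torsionBySet_iff _ _).2 fun r => by
    obtain ⟨α, hα⟩ := α
    have : (r : R) • (1 : R ⧸ (P α).toIdeal) = 0 := by
      rw [Algebra.smul_def, mul_one]
      exact Ideal.Quotient.eq_zero_iff_mem.2 (by rw [hα]; exact r.2)
    rw [← map_smul, this, map_zero]⟩
  have hb : IsFreeFamily (𝒜 := 𝒜) p.toIdeal b := by
    constructor
    · intro c hc k
      have h := congrArg (π k.1) (congrArg Subtype.val hc)
      rw [Finsupp.linearCombination_apply, Finsupp.sum, Submodule.coe_sum, map_sum,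
        Finset.sum_eq_single k (fun j _ hjk => ?_) (fun hk => ?_)] at h
      · rw [Submodule.coe_smul, map_smul, hπ ((hf k.1).2.2.1 ⟨1, rfl⟩), if_pos rfl, ZeroMemClass.coe_zero,
          map_zero, ← map_smul, map_eq_zero_iff _ (hf k.1).1, Algebra.smul_def, mul_one] at h
        have h' := Ideal.Quotient.eq_zero_iff_mem.1 h
        rwa [show (P k.1).toIdeal = p.toIdeal by rw [k.2]] at h'
      · rw [Submodule.coe_smul, map_smul, hπ ((hf j.1).2.2.1 ⟨1, rfl⟩),
          if_neg fun h' => hjk (Subtype.ext h'), smul_zero]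
      · rw [Finsupp.notMem_support_iff.1 hk, zero_smul, ZeroMemClass.coe_zero, map_zero]
    · intro p' hp' hpq z
      have h1 : (1 : R) ∉ p' := fun h => hp'.ne_top ((Ideal.eq_top_iff_one p').2 h)
      let U := {y : E | ∃ s, s ∉ p' ∧ s • y ∈ (Submodule.span R (Set.range b)).map T.subtype}
      have hadd : ∀ y y', y ∈ U → y' ∈ U → y + y' ∈ U := by
        rintro y y' ⟨s, hs, hsy⟩ ⟨t, ht, hty⟩
        refine ⟨s * t, fun h => (hp'.mem_or_mem h).elim hs ht, ?_⟩
        rw [smul_add]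
        exact add_mem (by rw [mul_comm, mul_smul]; exact Submodule.smul_mem _ _ hsy)
          (by rw [mul_smul]; exact Submodule.smul_mem _ _ hty)
      have hzero : (0 : E) ∈ U := ⟨1, h1, by simp⟩
      have hpiece : ∀ α (y : (X α).carrier), (∀ r ∈ p.toIdeal, r • y = 0) → (y.1 : E) ∈ U := by
        intro α y hy
        by_cases hα : P α = p
        · suffices H : ∀ d, ((proj (X α).gr d y).1 : E) ∈ U by
            obtain ⟨t, ht, -⟩ := exists_sum_proj (X α).gr y
            rw [← ht, Submodule.coe_sum]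
            exact Finset.sum_induction _ (· ∈ U) hadd hzero fun d _ => H d
          intro d
          have hyd : ∀ r ∈ p.toIdeal, r • proj (X α).gr d y = 0 := fun r hr => by
            have := isHomogeneous_torsionBySet (ℳ := (X α).gr) p.isHomogeneous d
              ((Submodule.mem_torsionBySet_iff _ _).2 fun a => hy a a.2)
            exact (Submodule.mem_torsionBySet_iff _ _).1 this ⟨r, hr⟩
          by_cases h0 : proj (X α).gr d y = 0
          · rw [h0]; exact hzero
          obtain ⟨i, r, hr, hrP, hr0⟩ := exists_smul_mem_of_homogeneous 𝒜 (he α).essential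
            (isHomogeneous_range_cyclic (he α).grHom) (proj_mem _ d y) h0
          rw [range_eq_span, Submodule.mem_span_singleton] at hrP
          obtain ⟨c, hc⟩ := hrP
          refine ⟨r, fun h => hr0 (hyd r (hpq i r hr h)), ?_⟩
          refine ⟨c • b ⟨α, hα⟩, Submodule.smul_mem _ _ (Submodule.subset_span ⟨_, rfl⟩), ?_⟩
          exact congrArg Subtype.val hc
        · haveI := hP α
          by_cases hy0 : y = 0
          · rw [hy0]; exact hzero
          obtain ⟨r, c, hrc, hr0⟩ := exists_smul_eq_smul_one (he α) hy0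
          have hc : c ∉ (P α).toIdeal := fun h => hr0 (hrc.trans ((smul_one_eq_zero_iff (he α).injective).2 h))
          have hle : p.toIdeal ≤ (P α).toIdeal := fun a ha => by
            refine ((Ideal.IsPrime.mem_or_mem (hP α) ((smul_one_eq_zero_iff (he α).injective).1
              (show (a * c) • e α 1 = 0 by
                rw [mul_smul, ← hrc, smul_comm, hy a ha, smul_zero])))).resolve_right hc
          have hlt : p.toIdeal < (P α).toIdeal := hle.lt_of_ne fun h => hα (HomogeneousIdeal.toIdeal_injective h.symm)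
          obtain ⟨d, a, ha, haP, hap⟩ := exists_homogeneous_of_lt (P α).isHomogeneous hlt
          obtain ⟨n, hn⟩ : y ∈ GrLC.gam (P α).toIdeal (X α).carrier := by
            rw [gam_eq_top (he α)]; trivial
          refine ⟨a ^ n, fun h => hap (hpq d a ha (hp'.mem_of_pow_mem n h)), ?_⟩
          rw [show a ^ n • (y.1 : E) = 0 from congrArg Subtype.val (hn _ (Ideal.pow_mem_pow haP n))]
          exact zero_mem _
      obtain ⟨s, hs, hsz⟩ : z.1 ∈ U := by
        rw [← DirectSum.sum_support_decompose J z.1]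
        refine Finset.sum_induction _ (· ∈ U) hadd hzero fun α _ => hpiece α _ fun r hr => ?_
        refine Subtype.ext ?_
        show r • π α z.1 = 0
        rw [← map_smul, (Submodule.mem_torsionBySet_iff _ _).1 z.2 ⟨r, hr⟩, map_zero]
      obtain ⟨w, hw, hwz⟩ := hsz
      refine ⟨s, hs, ?_⟩
      rwa [show s • z = w from Subtype.ext hwz.symm]
  rw [bassNum_zero_eq_card p.toIdeal hb]
  rfl

end Groth.Agent.H4Gr
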