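import Groth.Prelude.Def_GrLC
import Groth.Agent.H4Gr.LES

set_option autoImplicit false

universe u

/-!
# Gradings by subclasses of additive subgroups
-/

open DirectSum

namespace Groth.Agent.H4Gr

variable {ι : Type} [AddCommGroup ι] [DecidableEq ι]
variable {R : Type u} [CommRing R] {σ : Type u} [SetLike σ R] [AddSubgroupClass σ R] (𝒜 : ι → σ) [GradedRing 𝒜]

/-- the pieces as additive subgroups -/
@[reducible] def asGrp (n : ι) : AddSubgroup R := AddSubgroup.ofClass (𝒜 n)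

instance instGradedRingAsGrp : GradedRing (asGrp 𝒜) where
  one_mem := (SetLike.GradedOne.one_mem : (1 : R) ∈ 𝒜 0)
  mul_mem i j a b ha hb := (SetLike.GradedMul.mul_mem (A := 𝒜) ha hb : a * b ∈ 𝒜 (i + j))
  decompose' := DirectSum.Decomposition.decompose' (ℳ := 𝒜)
  left_inv := DirectSum.Decomposition.left_inv (ℳ := 𝒜)
  right_inv := DirectSum.Decomposition.right_inv (ℳ := 𝒜)

variable {M : Type u} [AddCommGroup M] [Module R M] {τ : Type u} [SetLike τ M] [AddSubgroupClass τ M] (ℳ : ι → τ)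
  [Decomposition ℳ] [SetLike.GradedSMul 𝒜 ℳ]

@[reducible] def asGrpMod (n : ι) : AddSubgroup M := AddSubgroup.ofClass (ℳ n)

instance instDecompositionAsGrpMod : Decomposition (asGrpMod ℳ) where
  decompose' := DirectSum.Decomposition.decompose' (ℳ := ℳ)
  left_inv := DirectSum.Decomposition.left_inv (ℳ := ℳ)
  right_inv := DirectSum.Decomposition.right_inv (ℳ := ℳ)

instance instGradedSMulAsGrpMod : SetLike.GradedSMul (asGrp 𝒜) (asGrpMod ℳ) where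
  smul_mem {_ _ _ _} ha hm := SetLike.GradedSMul.smul_mem (A := 𝒜) (B := ℳ) ha hm

/-- a graded module over `asGrp 𝒜` -/
def gmodTo (X : GrLC.GMod.{u} 𝒜) : GrLC.GMod.{u} (asGrp 𝒜) :=
  letI : SetLike.GradedSMul (asGrp 𝒜) X.gr :=
    ⟨fun {_ _ _ _} ha hm => (SetLike.GradedSMul.smul_mem (A := 𝒜) (B := X.gr) ha hm)⟩
  GrLC.GMod.of (asGrp 𝒜) X.carrier X.gr

/-- and back -/
def gmodFrom (X : GrLC.GMod.{u} (asGrp 𝒜)) : GrLC.GMod.{u} 𝒜 :=
  letI : SetLike.GradedSMul 𝒜 X.gr :=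
    ⟨fun {_ _ _ _} ha hm => (SetLike.GradedSMul.smul_mem (A := asGrp 𝒜) (B := X.gr) ha hm)⟩
  GrLC.GMod.of 𝒜 X.carrier X.gr

theorem isStarInj_gmodTo {X : GrLC.GMod.{u} 𝒜} (h : GrLC.IsStarInj 𝒜 X.gr) :
    GrLC.IsStarInj (asGrp 𝒜) (gmodTo 𝒜 X).gr := fun A B f hf hi g hg =>
  h (gmodFrom 𝒜 A) (gmodFrom 𝒜 B) f hf hi g hg

variable {𝒜 ℳ}

/-- transport of a resolution -/
def resTo (E : GrLC.StarInjRes 𝒜 ℳ) : GrLC.StarInjRes (asGrp 𝒜) (asGrpMod ℳ) where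
  X n := gmodTo 𝒜 (E.X n)
  d := E.d
  ε := E.ε
  d_grHom := E.d_grHom
  ε_grHom := E.ε_grHom
  ε_injective := E.ε_injective
  exact_zero := E.exact_zero
  exact_succ := E.exact_succ
  starInj n := isStarInj_gmodTo 𝒜 (E.starInj n)

/-- transport of a homogeneous ideal -/
def idealTo (a : HomogeneousIdeal 𝒜) : HomogeneousIdeal (asGrp 𝒜) :=
  ⟨a.toIdeal, a.isHomogeneous⟩

theorem Hcomp_resTo (E : GrLC.StarInjRes 𝒜 ℳ) (a : HomogeneousIdeal 𝒜) (i : ℕ) (g : ι) :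
    (resTo E).Hcomp (idealTo a) i g = ⊥ ↔ E.Hcomp a i g = ⊥ := by
  rw [Submodule.eq_bot_iff, Submodule.eq_bot_iff]
  exact Iff.rfl

end Groth.Agent.H4Gr
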