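import Groth.Agent.H4Gr.Basic
import Mathlib.Algebra.Module.Injective
import Mathlib.Algebra.DirectSum.Ring

/-!
# The cofree graded module: right adjoint to forgetting the grading
-/

set_option autoImplicit false
set_option linter.unusedSectionVars false

universe u

open DirectSum

namespace Groth.Agent.H4Gr

variable {ι : Type} [AddCommGroup ι] [DecidableEq ι]
variable {R : Type u} [CommRing R] (𝒜 : ι → AddSubgroup R) [GradedRing 𝒜]
variable (N : Type u) [AddCommGroup N] [Module R N]

/-- Copies of `N` indexed by the degrees. -/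
@[nolint unusedArguments]
def Cofree (_𝒜 : ι → AddSubgroup R) (N : Type u) [AddCommGroup N] : Type u := ι →₀ N

noncomputable instance : AddCommGroup (Cofree 𝒜 N) := inferInstanceAs (AddCommGroup (ι →₀ N))

/-- The element `n` placed in degree `g`. -/
noncomputable def single (g : ι) : N →+ Cofree 𝒜 N := Finsupp.singleAddHom g

/-- The coefficient in degree `g`. -/
noncomputable def coeff (g : ι) : Cofree 𝒜 N →+ N := Finsupp.applyAddHom g

/-- Action of an element of degree `h`. -/
noncomputable def smulDeg (h : ι) : 𝒜 h →+ AddMonoid.End (Cofree 𝒜 N) where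
  toFun r := Finsupp.liftAddHom fun g => (single 𝒜 N (g + h)).comp (DistribSMul.toAddMonoidHom N (r : R))
  map_zero' := Finsupp.addHom_ext fun g n => by
    erw [Finsupp.liftAddHom_apply_single]
    simp [single]
    rfl
  map_add' r s := Finsupp.addHom_ext fun g n => by
    erw [AddMonoidHom.add_apply, Finsupp.liftAddHom_apply_single, Finsupp.liftAddHom_apply_single,
      Finsupp.liftAddHom_apply_single]
    simp [add_smul, ← map_add]

theorem smulDeg_single (h : ι) (r : 𝒜 h) (g : ι) (n : N) :
    smulDeg 𝒜 N h r (single 𝒜 N g n) = single 𝒜 N (g + h) ((r : R) • n) :=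
  Finsupp.liftAddHom_apply_single _ _ _

/-- The ring action on `Cofree`. -/
noncomputable def action : R →+* AddMonoid.End (Cofree 𝒜 N) :=
  (DirectSum.toSemiring (smulDeg 𝒜 N)
    (Finsupp.addHom_ext fun g n => by
      show smulDeg 𝒜 N 0 _ (single 𝒜 N g n) = single 𝒜 N g n
      rw [smulDeg_single, add_zero]
      exact congrArg _ (one_smul R n))
    (fun {i j} a b => Finsupp.addHom_ext fun g n => by
      show smulDeg 𝒜 N (i + j) _ (single 𝒜 N g n) =
        smulDeg 𝒜 N i a (smulDeg 𝒜 N j b (single 𝒜 N g n))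
      rw [smulDeg_single, smulDeg_single, smulDeg_single, smul_smul]
      exact congrArg (fun d => single 𝒜 N d _) (by abel))).comp
    (DirectSum.decomposeRingEquiv 𝒜).toRingHom

noncomputable instance : Module R (Cofree 𝒜 N) := Module.compHom _ (action 𝒜 N)

variable {𝒜 N}

theorem smul_single {h : ι} {r : R} (hr : r ∈ 𝒜 h) (g : ι) (n : N) :
    r • single 𝒜 N g n = single 𝒜 N (g + h) (r • n) := by
  show action 𝒜 N r (single 𝒜 N g n) = _
  have : DirectSum.decomposeRingEquiv 𝒜 r = DirectSum.of (fun i => 𝒜 i) h ⟨r, hr⟩ :=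
    DirectSum.decompose_of_mem 𝒜 hr
  simp only [action, RingHom.comp_apply]
  erw [this, DirectSum.toSemiring_of]
  exact smulDeg_single 𝒜 N h ⟨r, hr⟩ g n

theorem coeff_single (g h : ι) (n : N) : coeff 𝒜 N h (single 𝒜 N g n) = if g = h then n else 0 :=
  Finsupp.single_apply

theorem cofree_induction {motive : Cofree 𝒜 N → Prop} (zero : motive 0)
    (single_ : ∀ g n, motive (single 𝒜 N g n))
    (add : ∀ x y, motive x → motive y → motive (x + y)) (x : Cofree 𝒜 N) : motive x :=
  Finsupp.induction_linear (motive := motive) x zero add single_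

variable (𝒜 N)

/-- Pieces of the cofree module. -/
noncomputable def cofreeGr (g : ι) : AddSubgroup (Cofree 𝒜 N) := (single 𝒜 N g).range

theorem isInternal_cofreeGr : DirectSum.IsInternal (cofreeGr 𝒜 N) :=
  isInternal_of _ (fun g => (single 𝒜 N g).comp (coeff 𝒜 N g)) (fun g x => ⟨_, rfl⟩)
    (fun g x hx h => by
      obtain ⟨n, rfl⟩ := hx
      rw [AddMonoidHom.comp_apply, coeff_single]
      split_ifs with e
      · subst e; rfl
      · exact map_zero _) fun x => by
    induction x using cofree_induction with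
    | zero => exact zero_mem _
    | single_ g n => exact AddSubgroup.mem_iSup_of_mem g ⟨n, rfl⟩
    | add x y hx hy => exact add_mem hx hy

theorem gradedSMul_cofreeGr : SetLike.GradedSMul 𝒜 (cofreeGr 𝒜 N) :=
  ⟨fun {i j _ _} ha hx => by
    obtain ⟨n, rfl⟩ := hx
    exact ⟨_, (smul_single ha j n).trans (by rw [vadd_eq_add, add_comm]) |>.symm⟩⟩

/-- The cofree graded module. -/
@[implicit_reducible]
noncomputable def cofreeMod : GrLC.GMod.{u} 𝒜 :=
  { carrier := Cofree 𝒜 N
    gr := cofreeGr 𝒜 N
    dec := (isInternal_cofreeGr 𝒜 N).chooseDecomposition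
    gsmul := gradedSMul_cofreeGr 𝒜 N }

/-- Sum of all coefficients. -/
noncomputable def sumAdd : Cofree 𝒜 N →+ N := Finsupp.liftAddHom fun _ => AddMonoidHom.id N

theorem sumAdd_single (g : ι) (n : N) : sumAdd 𝒜 N (single 𝒜 N g n) = n :=
  Finsupp.liftAddHom_apply_single _ _ _

/-- Sum of all coefficients: the counit. -/
noncomputable def sumHom : Cofree 𝒜 N →ₗ[R] N where
  toFun := sumAdd 𝒜 N
  map_add' x y := map_add _ x y
  map_smul' r x := by
    induction x using cofree_induction with
    | zero => simp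
    | single_ g n =>
      induction r using induction 𝒜 with
      | zero => simp
      | hom h r hr => simp only [RingHom.id_apply, smul_single hr, sumAdd_single]
      | add a b ha hb =>
        simp only [RingHom.id_apply] at ha hb ⊢
        rw [add_smul, map_add, ha, hb, add_smul]
    | add x y hx hy =>
      simp only [RingHom.id_apply] at hx hy ⊢
      rw [smul_add, map_add, map_add, hx, hy, smul_add]

theorem sumHom_single (g : ι) (n : N) : sumHom 𝒜 N (single 𝒜 N g n) = n := sumAdd_single 𝒜 N g n

variable {M : Type u} [AddCommGroup M] [Module R M] (ℳ : ι → AddSubgroup M) [Decomposition ℳ]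
  [SetLike.GradedSMul 𝒜 ℳ]

/-- The graded map attached to a linear map. -/
noncomputable def toCofree (f : M →ₗ[R] N) : M →ₗ[R] Cofree 𝒜 N where
  toFun x := DirectSum.toAddMonoid
    (fun g => (single 𝒜 N g).comp (f.toAddMonoidHom.comp (ℳ g).subtype)) (decompose ℳ x)
  map_add' x y := by rw [decompose_add, map_add]
  map_smul' r x := by
    induction x using induction ℳ with
    | zero => simp
    | hom g x hx =>
      induction r using induction 𝒜 with
      | zero => simp
      | hom h r hr =>
        simp only [RingHom.id_apply]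
        rw [decompose_of_mem ℳ (smul_mem 𝒜 hr hx), decompose_of_mem ℳ hx, toAddMonoid_of,
          toAddMonoid_of]
        show single 𝒜 N (h + g) (f (r • x)) = r • single 𝒜 N g (f x)
        rw [map_smul, smul_single hr, add_comm]
      | add a b ha hb =>
        simp only [RingHom.id_apply] at ha hb ⊢
        rw [add_smul, decompose_add, map_add, ha, hb, add_smul]
    | add x y hx hy =>
      simp only [RingHom.id_apply] at hx hy ⊢
      rw [smul_add, decompose_add, decompose_add, map_add, map_add, hx, hy, smul_add]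

variable {𝒜 N ℳ}

theorem toCofree_of_mem (f : M →ₗ[R] N) {g : ι} {x : M} (hx : x ∈ ℳ g) :
    toCofree 𝒜 N ℳ f x = single 𝒜 N g (f x) := by
  show DirectSum.toAddMonoid _ (decompose ℳ x) = _
  rw [decompose_of_mem ℳ hx, toAddMonoid_of]
  rfl

theorem isGrHom_toCofree (f : M →ₗ[R] N) : GrLC.IsGrHom ℳ (cofreeGr 𝒜 N) (toCofree 𝒜 N ℳ f) :=
  fun _ x hx => ⟨f x, (toCofree_of_mem f hx).symm⟩

theorem sumHom_comp_toCofree (f : M →ₗ[R] N) : sumHom 𝒜 N ∘ₗ toCofree 𝒜 N ℳ f = f :=
  LinearMap.ext fun x => by
    induction x using induction ℳ with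
    | zero => simp
    | hom g x hx => rw [LinearMap.comp_apply, toCofree_of_mem f hx, sumHom_single]
    | add x y hx hy => rw [map_add, hx, hy, map_add]

theorem toCofree_sumHom_comp {φ : M →ₗ[R] Cofree 𝒜 N} (hφ : GrLC.IsGrHom ℳ (cofreeGr 𝒜 N) φ) :
    toCofree 𝒜 N ℳ (sumHom 𝒜 N ∘ₗ φ) = φ :=
  LinearMap.ext fun x => by
    induction x using induction ℳ with
    | zero => simp
    | hom g x hx =>
      obtain ⟨n, hn⟩ := hφ g x hx
      rw [toCofree_of_mem _ hx, LinearMap.comp_apply, ← hn, sumHom_single]
    | add x y hx hy => rw [map_add, hx, hy, map_add]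

theorem toCofree_injective {f : M →ₗ[R] N} (hf : Function.Injective f) :
    Function.Injective (toCofree 𝒜 N ℳ f) :=
  Function.Injective.of_comp (f := sumHom 𝒜 N)
    (by rwa [← LinearMap.coe_comp, sumHom_comp_toCofree])

variable (𝒜 N) in
/-- Cofree modules on injectives are *injective. -/
theorem isStarInj_cofree [Module.Injective R N] :
    GrLC.IsStarInj 𝒜 (cofreeMod 𝒜 N).gr := by
  intro A B f hf hfi g hg
  obtain ⟨h, hh⟩ := Module.Injective.out (R := R) (Q := N) f hfi (sumHom 𝒜 N ∘ₗ g)
  refine ⟨toCofree 𝒜 N B.gr h, isGrHom_toCofree h, LinearMap.ext fun x => ?_⟩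
  have key : toCofree 𝒜 N B.gr h ∘ₗ f = toCofree 𝒜 N A.gr (sumHom 𝒜 N ∘ₗ g) := LinearMap.ext fun x => by
    induction x using induction A.gr with
    | zero => simp
    | hom i x hx =>
      rw [LinearMap.comp_apply, toCofree_of_mem h (hf i x hx), toCofree_of_mem _ hx, hh]
    | add x y hx hy => rw [map_add, hx, hy, map_add]
  rw [key, toCofree_sumHom_comp hg]

end Groth.Agent.H4Gr
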