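import Groth.Agent.H4Gr.Coarse
import Mathlib.RingTheory.Ideal.KrullsHeightTheorem
import Mathlib.RingTheory.Spectrum.Prime.RingHom

/-!
# Heights above the homogeneous core of a prime
-/

set_option autoImplicit false
set_option linter.unusedSectionVars false

universe u

open DirectSum

namespace Groth.Agent.H4Gr

section Height

variable {R : Type u} [CommRing R]

/-- The height of `p / I`. -/
noncomputable def hgt (I p : Ideal R) : ℕ∞ := (p.map (Ideal.Quotient.mk I)).height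

theorem hgt_eq_orderHeight {I p : Ideal R} [hp : p.IsPrime] (hIp : I ≤ p) :
    hgt I p = Order.height (⟨⟨p, hp⟩, hIp⟩ : PrimeSpectrum.zeroLocus (I : Set R)) := by
  let e := I.primeSpectrumQuotientOrderIsoZeroLocus
  rw [← Order.height_orderIso e.symm]
  haveI : (p.map (Ideal.Quotient.mk I)).IsPrime := Ideal.isPrime_map_quotientMk_of_isPrime hIp
  have : e.symm ⟨⟨p, hp⟩, hIp⟩ = ⟨p.map (Ideal.Quotient.mk I), inferInstance⟩ := by
    rw [OrderIso.symm_apply_eq]
    refine Subtype.ext (PrimeSpectrum.ext ?_)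
    show p = (p.map (Ideal.Quotient.mk I)).comap (Ideal.Quotient.mk I)
    have h1 := Ideal.comap_map_of_surjective' (Ideal.Quotient.mk I) Ideal.Quotient.mk_surjective p
    rw [Ideal.mk_ker, sup_eq_left.2 hIp] at h1
    exact h1.symm
  rw [this]
  exact PrimeSpectrum.height_eq_orderHeight (⟨p.map (Ideal.Quotient.mk I), inferInstance⟩ : PrimeSpectrum (R ⧸ I))

variable [IsNoetherianRing R]

theorem hgt_ne_top {I p : Ideal R} [p.IsPrime] (hIp : I ≤ p) : hgt I p ≠ ⊤ := by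
  haveI : (p.map (Ideal.Quotient.mk I)).IsPrime := Ideal.isPrime_map_quotientMk_of_isPrime hIp
  exact Ideal.height_ne_top_of_isPrime

omit [IsNoetherianRing R] in
theorem hgt_self (I : Ideal R) [I.IsPrime] : hgt I I = 0 := by
  rw [hgt, Ideal.map_quotient_self, Ideal.height_bot]

omit [IsNoetherianRing R] in
theorem hgt_bot (p : Ideal R) : hgt ⊥ p = p.height := by
  have h := RingEquiv.height_map (RingEquiv.quotientBot R).symm p
  rw [← h]; rfl

theorem hgt_add_one_le {P P' p : Ideal R} [P.IsPrime] [hP' : P'.IsPrime] [hp : p.IsPrime] (h : P < P')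
    (h' : P' ≤ p) : hgt P' p + 1 ≤ hgt P p := by
  obtain ⟨n, hn⟩ := ENat.ne_top_iff_exists.1 (hgt_ne_top (I := P') (p := p) h')
  rw [hgt_eq_orderHeight h'] at hn
  obtain ⟨l, hl, hlen⟩ := Order.exists_series_of_le_height _ hn.le
  let f : PrimeSpectrum.zeroLocus (P' : Set R) → PrimeSpectrum.zeroLocus (P : Set R) :=
    fun x => ⟨x.1, h.le.trans (show P' ≤ x.1.asIdeal from x.2)⟩
  let l' := l.map f (fun a b hab => hab)
  have hlt : (⟨⟨P, ‹_›⟩, le_refl P⟩ : PrimeSpectrum.zeroLocus (P : Set R)) < l'.head :=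
    Subtype.coe_lt_coe.1 (show (⟨P, ‹_›⟩ : PrimeSpectrum R) < l.head.1 from
      h.trans_le (show P' ≤ l.head.1.asIdeal from l.head.2))
  have := Order.length_le_height (p := l'.cons _ hlt) (x := (⟨⟨p, hp⟩, h.le.trans h'⟩ :
      PrimeSpectrum.zeroLocus (P : Set R))) (by rw [RelSeries.last_cons, LTSeries.last_map, hl])
  rw [← hgt_eq_orderHeight (h.le.trans h'), RelSeries.cons_length, LTSeries.map_length, hlen] at this
  rw [hgt_eq_orderHeight h', ← hn]
  exact le_trans (by norm_num) this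

theorem hgt_le_of_forall_minimal {J p : Ideal R} [hp : p.IsPrime] (hJ : J ≤ p) {n : ℕ∞}
    (h : ∀ P ∈ J.minimalPrimes, P ≤ p → hgt P p ≤ n) : hgt J p ≤ n := by
  rw [hgt_eq_orderHeight hJ]
  refine Order.height_le fun l hl => ?_
  obtain ⟨P, hP, hPl⟩ := Ideal.exists_minimalPrimes_le (show J ≤ l.head.1.asIdeal from l.head.2)
  haveI := hP.1.1
  have hPp : P ≤ p := hPl.trans (by
    have := LTSeries.head_le_last l
    rw [hl] at this
    exact this)
  let f : ∀ i, PrimeSpectrum.zeroLocus (P : Set R) := fun i =>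
    ⟨(l i).1, hPl.trans (LTSeries.head_le l i)⟩
  let l' : LTSeries (PrimeSpectrum.zeroLocus (P : Set R)) := LTSeries.mk l.length f
    fun i j hij => l.strictMono hij
  have := Order.length_le_height (p := l') (x := (⟨⟨p, hp⟩, hPp⟩ : PrimeSpectrum.zeroLocus (P : Set R)))
    (le_of_eq (Subtype.ext (congrArg (fun y => y.1) hl :)))
  rw [← hgt_eq_orderHeight hPp] at this
  exact this.trans (h P hP hPp)

theorem hgt_le_hgt_sup_add_one {P p : Ideal R} [p.IsPrime] (hPp : P ≤ p) {a : R} (ha : a ∈ p) :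
    hgt P p ≤ hgt (P ⊔ Ideal.span {a}) p + 1 := by
  haveI : (p.map (Ideal.Quotient.mk P)).IsPrime := Ideal.isPrime_map_quotientMk_of_isPrime hPp
  refine (Ideal.height_le_height_add_one_of_mem (Ideal.mem_map_of_mem (Ideal.Quotient.mk P) ha)).trans
    (le_of_eq (congrArg (· + 1) ?_))
  have hspan : (Ideal.span {a}).map (Ideal.Quotient.mk P) = Ideal.span {Ideal.Quotient.mk P a} := by
    rw [Ideal.map_span, Set.image_singleton]
  let e := (Ideal.quotEquivOfEq hspan.symm).trans (DoubleQuot.quotQuotEquivQuotSup P (Ideal.span {a}))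
  rw [hgt, ← RingEquiv.height_map e]
  congr 1
  change Ideal.map e.toRingHom _ = _
  rw [Ideal.map_map, Ideal.map_map]
  rfl

end Height

section Core

variable {ι : Type} [AddCommGroup ι] [DecidableEq ι] [Module.Free ℤ ι] [Module.Finite ℤ ι]
variable {R : Type u} [CommRing R] {𝒜 : ι → AddSubgroup R} [GradedRing 𝒜]

variable (𝒜) in
theorem isPrime_homogeneousCore (p : Ideal R) [hp : p.IsPrime] :
    (p.homogeneousCore 𝒜).toIdeal.IsPrime :=
  isPrime_of_homogeneous (p.homogeneousCore 𝒜).isHomogeneous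
    (ne_top_of_le_ne_top hp.ne_top (Ideal.toIdeal_homogeneousCore_le 𝒜 p))
    fun {i j x y} hx hy hxy => (hp.mem_or_mem (Ideal.toIdeal_homogeneousCore_le 𝒜 p hxy)).imp
      (Ideal.mem_homogeneousCore_of_homogeneous_of_mem ⟨i, hx⟩)
      (Ideal.mem_homogeneousCore_of_homogeneous_of_mem ⟨j, hy⟩)

theorem le_core {I p : Ideal R} (hI : I.IsHomogeneous 𝒜) (h : I ≤ p) :
    I ≤ (p.homogeneousCore 𝒜).toIdeal :=
  hI.toIdeal_homogeneousCore_eq_self.symm.trans_le (Ideal.homogeneousCore_mono 𝒜 h)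

variable (𝒜) in
theorem mem_core_of_mem {p : Ideal R} {g : ι} {x : R} (hx : x ∈ 𝒜 g) (hp : x ∈ p) :
    x ∈ (p.homogeneousCore 𝒜).toIdeal :=
  Ideal.mem_homogeneousCore_of_homogeneous_of_mem ⟨g, hx⟩ hp

theorem isHomogeneous_of_mem_minimalPrimes {I P : Ideal R} (hI : I.IsHomogeneous 𝒜)
    (hP : P ∈ I.minimalPrimes) : P.IsHomogeneous 𝒜 := by
  haveI := hP.1.1
  have h1 := Ideal.toIdeal_homogeneousCore_le 𝒜 P
  have : P = (P.homogeneousCore 𝒜).toIdeal :=
    le_antisymm (hP.2 ⟨isPrime_homogeneousCore 𝒜 P, le_core hI hP.1.2⟩ h1) h1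
  rw [this]
  exact (P.homogeneousCore 𝒜).isHomogeneous

theorem exists_homogeneous_of_lt {P q : Ideal R} (hq : q.IsHomogeneous 𝒜) (h : P < q) :
    ∃ g, ∃ a ∈ 𝒜 g, a ∈ q ∧ a ∉ P := by
  obtain ⟨x, hx, hxP⟩ := SetLike.exists_of_lt h
  by_contra hc
  push Not at hc
  obtain ⟨s, hs, -⟩ := exists_sum_proj 𝒜 x
  exact hxP (hs ▸ sum_mem fun g _ => hc g _ (proj_mem 𝒜 g x) (hq g hx))

variable [IsNoetherianRing R]

variable (𝒜) in
/-- `ht (p / P) = ht (p* / P) + ht (p / p*)` for homogeneous primes `P`. -/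
theorem hgt_eq_add_of_isPrime (p : Ideal R) [p.IsPrime] (P : Ideal R) (hP : P.IsHomogeneous 𝒜) [P.IsPrime]
    (hPp : P ≤ p) :
    hgt P p = hgt P (p.homogeneousCore 𝒜).toIdeal + hgt (p.homogeneousCore 𝒜).toIdeal p := by
  have hqp := Ideal.toIdeal_homogeneousCore_le 𝒜 p
  have hq := (p.homogeneousCore 𝒜).isHomogeneous
  haveI := isPrime_homogeneousCore 𝒜 p
  revert hP hPp
  rename_i hPprime
  revert hPprime
  induction P using WellFoundedGT.induction with
  | _ P ih =>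
  intro hPprime hP hPp
  rcases (le_core hP hPp).eq_or_lt with rfl | hlt
  · rw [hgt_self, zero_add]
  obtain ⟨g, a, ha, haq, haP⟩ := exists_homogeneous_of_lt hq hlt
  have hlt' : P < P ⊔ Ideal.span {a} := left_lt_sup.2 fun h => haP (h (Ideal.mem_span_singleton_self a))
  have hJ : (P ⊔ Ideal.span {a}).IsHomogeneous 𝒜 :=
    hP.sup (Ideal.homogeneous_span 𝒜 _ fun x hx => ⟨g, by rw [Set.mem_singleton_iff.1 hx]; exact ha⟩)
  have hJq : P ⊔ Ideal.span {a} ≤ (p.homogeneousCore 𝒜).toIdeal :=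
    sup_le hlt.le ((Ideal.span_singleton_le_iff_mem _).2 haq)
  set q := (p.homogeneousCore 𝒜).toIdeal with hqdef
  have key : ∀ P' ∈ (P ⊔ Ideal.span {a}).minimalPrimes, P' ≤ p →
      P' ≤ q ∧ P < P' ∧ hgt P' p = hgt P' q + hgt q p := fun P' hP' hP'p => by
    haveI := hP'.1.1
    have hh := isHomogeneous_of_mem_minimalPrimes hJ hP'
    have hPP' := hlt'.trans_le hP'.1.2
    exact ⟨le_core hh hP'p, hPP', ih P' hPP' hh hP'p⟩
  apply le_antisymm
  · obtain ⟨d, hd⟩ := ENat.ne_top_iff_exists.1 (hgt_ne_top (I := q) (p := p) hqp)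
    obtain ⟨m, hm⟩ := ENat.ne_top_iff_exists.1 (hgt_ne_top (I := P) (p := q) hlt.le)
    obtain ⟨k, hk⟩ := ENat.ne_top_iff_exists.1 (hgt_ne_top (I := P ⊔ Ideal.span {a}) (p := q) hJq)
    have h1 : hgt (P ⊔ Ideal.span {a}) p ≤ ((m - 1 + d : ℕ) : ℕ∞) := by
      refine hgt_le_of_forall_minimal (hJq.trans hqp) fun P' hP' hP'p => ?_
      haveI := hP'.1.1
      obtain ⟨hP'q, hPP', he⟩ := key P' hP' hP'p
      have h2 := hgt_add_one_le hPP' hP'q
      obtain ⟨j, hj⟩ := ENat.ne_top_iff_exists.1 (hgt_ne_top (I := P') (p := q) hP'q)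
      rw [← hj, ← hm] at h2
      rw [he, ← hj, ← hd]
      norm_cast at h2 ⊢
      omega
    have hm1 : 1 ≤ m := by
      obtain ⟨P', hP', hP'q⟩ := Ideal.exists_minimalPrimes_le hJq
      haveI := hP'.1.1
      have h3 := hgt_add_one_le (hlt'.trans_le hP'.1.2) hP'q
      rw [← hm] at h3
      exact_mod_cast le_add_self.trans h3
    refine (hgt_le_hgt_sup_add_one hPp (hqp haq)).trans ((add_le_add_left h1 1).trans ?_)
    rw [← hm, ← hd]
    norm_cast
    omega
  · obtain ⟨d, hd⟩ := ENat.ne_top_iff_exists.1 (hgt_ne_top (I := q) (p := p) hqp)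
    obtain ⟨n, hn⟩ := ENat.ne_top_iff_exists.1 (hgt_ne_top (I := P) (p := p) hPp)
    have h1 : hgt (P ⊔ Ideal.span {a}) q ≤ ((n - d - 1 : ℕ) : ℕ∞) ∧ d + 1 ≤ n := by
      have h2 : ∀ P' ∈ (P ⊔ Ideal.span {a}).minimalPrimes, P' ≤ q →
          hgt P' q ≤ ((n - d - 1 : ℕ) : ℕ∞) ∧ d + 1 ≤ n := fun P' hP' hP'q => by
        haveI := hP'.1.1
        obtain ⟨-, hPP', he⟩ := key P' hP' (hP'q.trans hqp)
        have h2 := hgt_add_one_le hPP' (hP'q.trans hqp)
        obtain ⟨j, hj⟩ := ENat.ne_top_iff_exists.1 (hgt_ne_top (I := P') (p := q) hP'q)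
        rw [he, ← hj, ← hd, ← hn] at h2
        rw [← hj]
        norm_cast at h2 ⊢
        omega
      obtain ⟨P', hP', hP'q⟩ := Ideal.exists_minimalPrimes_le hJq
      exact ⟨hgt_le_of_forall_minimal hJq fun P' hP' hP'q => (h2 P' hP' hP'q).1, (h2 P' hP' hP'q).2⟩
    refine (add_le_add_left ((hgt_le_hgt_sup_add_one hlt.le haq).trans (add_le_add_left h1.1 1)) _).trans ?_
    rw [← hn, ← hd]
    norm_cast
    omega

variable (𝒜) in
/-- `ht (p / I) = ht (p* / I) + ht (p / p*)` for homogeneous ideals `I`. -/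
theorem hgt_eq_add (p : Ideal R) [p.IsPrime] (I : Ideal R) (hI : I.IsHomogeneous 𝒜) (hIp : I ≤ p) :
    hgt I p = hgt I (p.homogeneousCore 𝒜).toIdeal + hgt (p.homogeneousCore 𝒜).toIdeal p := by
  have hqp := Ideal.toIdeal_homogeneousCore_le 𝒜 p
  haveI := isPrime_homogeneousCore 𝒜 p
  set q := (p.homogeneousCore 𝒜).toIdeal
  have hIq : I ≤ q := le_core hI hIp
  have mono : ∀ (P p' : Ideal R) [P.IsPrime] [p'.IsPrime], I ≤ P → P ≤ p' → hgt P p' ≤ hgt I p' := by
    intro P p' _ hp' hIP hPp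
    rw [hgt_eq_orderHeight hPp, hgt_eq_orderHeight (hIP.trans hPp)]
    refine Order.height_le fun l hl => ?_
    exact Order.length_le_height (p := l.map (fun x : PrimeSpectrum.zeroLocus (P : Set R) =>
      (⟨x.1, hIP.trans (show P ≤ x.1.asIdeal from x.2)⟩ : PrimeSpectrum.zeroLocus (I : Set R)))
      fun a b h => h) (by rw [LTSeries.last_map, hl])
  apply le_antisymm
  · refine hgt_le_of_forall_minimal hIp fun P hP hPp => ?_
    haveI := hP.1.1
    have hh := isHomogeneous_of_mem_minimalPrimes hI hP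
    rw [hgt_eq_add_of_isPrime 𝒜 p P hh hPp]
    exact add_le_add_left (mono P q hP.1.2 (le_core hh hPp)) _
  · obtain ⟨n, hn⟩ := ENat.ne_top_iff_exists.1 (hgt_ne_top (I := I) (p := p) hIp)
    obtain ⟨d, hd⟩ := ENat.ne_top_iff_exists.1 (hgt_ne_top (I := q) (p := p) hqp)
    have h2 : ∀ P ∈ I.minimalPrimes, P ≤ q → hgt P q ≤ ((n - d : ℕ) : ℕ∞) ∧ d ≤ n := fun P hP hPq => by
      haveI := hP.1.1
      have h := mono P p hP.1.2 (hPq.trans hqp)
      rw [hgt_eq_add_of_isPrime 𝒜 p P (isHomogeneous_of_mem_minimalPrimes hI hP) (hPq.trans hqp)] at h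
      obtain ⟨j, hj⟩ := ENat.ne_top_iff_exists.1 (hgt_ne_top (I := P) (p := q) hPq)
      rw [← hj, ← hd, ← hn] at h
      rw [← hj]
      norm_cast at h ⊢
      omega
    obtain ⟨P, hP, hPq⟩ := Ideal.exists_minimalPrimes_le hIq
    refine (add_le_add_left (hgt_le_of_forall_minimal hIq fun P hP hPq => (h2 P hP hPq).1) _).trans ?_
    have := (h2 P hP hPq).2
    rw [← hn, ← hd]
    norm_cast
    omega

end Core

end Groth.Agent.H4Gr
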