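import Groth.Agent.H4Gr.Torsion
import Groth.Agent.H4Gr.Primes

/-!
# Dévissage of finite graded modules; finiteness of pieces of local cohomology
-/

set_option autoImplicit false
set_option linter.unusedSectionVars false
set_option linter.style.haveILetI false

universe u

open DirectSum

namespace Groth.Agent.H4Gr

variable {ι : Type} [AddCommGroup ι] [DecidableEq ι]
variable {R : Type u} [CommRing R] {𝒜 : ι → AddSubgroup R} [GradedRing 𝒜]
variable {M : Type u} [AddCommGroup M] [Module R M] {ℳ : ι → AddSubgroup M} [Decomposition ℳ]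
  [SetLike.GradedSMul 𝒜 ℳ]

theorem proj_smul_zero_deg (r : GrLC.deg0 𝒜) (g : ι) (x : M) :
    proj ℳ g ((r : R) • x) = (r : R) • proj ℳ g x := by
  rw [proj_smul r.2, sub_zero]

/-- The component of degree `g` of `c • y`, for `y` in degree `g`. -/
theorem proj_smul_of_mem (c : R) {g : ι} {y : M} (hy : y ∈ ℳ g) :
    proj ℳ g (c • y) = proj 𝒜 0 c • y := by
  induction c using induction 𝒜 with
  | zero => simp
  | hom j r hr =>
    rw [proj_of_mem (smul_mem 𝒜 hr hy)]
    by_cases hj : j = 0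
    · subst hj; rw [if_pos (zero_add g), proj_same hr]
    · rw [if_neg (fun e => hj (add_eq_right.1 e)), proj_ne hr hj, zero_smul]
  | add a b ha hb => rw [add_smul, map_add, map_add, add_smul, ha, hb]

/-- The submodule generated by a submodule of a piece meets the piece in itself. -/
theorem mem_of_mem_span_piece {g : ι} (L : Submodule (GrLC.deg0 𝒜) (GrLC.comp 𝒜 ℳ g)) {y : GrLC.comp 𝒜 ℳ g}
    (hy : (y : M) ∈ Submodule.span R ((fun z : GrLC.comp 𝒜 ℳ g => (z : M)) '' L)) : y ∈ L := by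
  have key : ∀ x ∈ Submodule.span R ((fun z : GrLC.comp 𝒜 ℳ g => (z : M)) '' L),
      ∀ c : R, ∃ z ∈ L, (z : M) = proj ℳ g (c • x) := fun x hx => by
    induction hx using Submodule.span_induction with
    | mem w hw =>
      obtain ⟨z, hz, rfl⟩ := hw
      exact fun c => ⟨(⟨proj 𝒜 0 c, proj_mem 𝒜 0 c⟩ : GrLC.deg0 𝒜) • z, L.smul_mem _ hz,
        (proj_smul_of_mem c (show (z : M) ∈ ℳ g from z.2)).symm⟩
    | zero => exact fun c => ⟨0, zero_mem _, by simp⟩
    | add a b _ _ ha hb =>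
      intro c
      obtain ⟨z, hz, ez⟩ := ha c
      obtain ⟨w, hw, ew⟩ := hb c
      exact ⟨z + w, add_mem hz hw, by rw [smul_add, map_add, ← ez, ← ew]; rfl⟩
    | smul r a _ ha => intro c; rw [smul_smul]; exact ha (c * r)
  obtain ⟨z, hz, ez⟩ := key _ hy 1
  rw [one_smul, proj_same (show (y : M) ∈ ℳ g from y.2)] at ez
  exact Subtype.ext ez ▸ hz

theorem strictMono_span_piece (g : ι) :
    StrictMono fun L : Submodule (GrLC.deg0 𝒜) (GrLC.comp 𝒜 ℳ g) =>
      Submodule.span R ((fun z : GrLC.comp 𝒜 ℳ g => (z : M)) '' L) := fun L _ h =>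
  lt_of_le_of_ne (Submodule.span_mono (Set.image_mono h.le)) fun e => h.ne (le_antisymm h.le fun y hy =>
    mem_of_mem_span_piece L ((le_of_eq e.symm) (Submodule.subset_span ⟨y, hy, rfl⟩)))

/-- The pieces of a Noetherian graded module are finite over the degree-zero ring. -/
theorem isNoetherian_comp [IsNoetherian R M] (g : ι) : IsNoetherian (GrLC.deg0 𝒜) (GrLC.comp 𝒜 ℳ g) :=
  isNoetherian_iff'.2 (strictMono_span_piece g).wellFoundedGT

variable (𝒜) in
theorem isNoetherianRing_deg0 [IsNoetherianRing R] : IsNoetherianRing (GrLC.deg0 𝒜) := by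
  have := isNoetherian_comp (𝒜 := 𝒜) (ℳ := 𝒜) (0 : ι)
  exact isNoetherian_of_linearEquiv (show GrLC.comp 𝒜 𝒜 0 ≃ₗ[GrLC.deg0 𝒜] GrLC.deg0 𝒜 from
    { toFun := fun x => ⟨x.1, x.2⟩
      invFun := fun x => ⟨x.1, x.2⟩
      map_add' := fun _ _ => rfl
      map_smul' := fun _ _ => rfl
      left_inv := fun _ => rfl
      right_inv := fun _ => rfl })

section Devissage

variable [IsNoetherianRing R] [Module.Free ℤ ι] [Module.Finite ℤ ι]

variable (𝒜) in
/-- Dévissage for finite graded modules. -/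
theorem devissage (Q : GrLC.GMod.{u} 𝒜 → Prop)
    (hzero : ∀ X : GrLC.GMod.{u} 𝒜, Subsingleton X.carrier → Q X)
    (hext : ∀ (A B C : GrLC.GMod.{u} 𝒜) (f : A.carrier →ₗ[R] B.carrier) (π : B.carrier →ₗ[R] C.carrier),
      GSES A.gr B.gr C.gr f π 0 → Q A → Q C → Q B)
    (hcyc : ∀ (C : GrLC.GMod.{u} 𝒜) (g : ι) (z : C.carrier), z ∈ C.gr g → Submodule.span R {z} = ⊤ →
      Ideal.IsPrime (LinearMap.ker (LinearMap.toSpanSingleton R C.carrier z)) →
      (∀ (J : Ideal R) (Y : GrLC.GMod.{u} 𝒜), (LinearMap.ker (LinearMap.toSpanSingleton R C.carrier z) : Ideal R) < J →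
        Module.Finite R Y.carrier → (∀ r ∈ J, ∀ y : Y.carrier, r • y = 0) → Q Y) → Q C)
    (X : GrLC.GMod.{u} 𝒜) [Module.Finite R X.carrier] : Q X := by
  suffices key : ∀ (I : Ideal R) (X : GrLC.GMod.{u} 𝒜), Module.Finite R X.carrier →
      (∀ r ∈ I, ∀ y : X.carrier, r • y = 0) → Q X from
    key ⊥ X inferInstance fun r hr y => by rw [(Submodule.mem_bot R).1 hr, zero_smul]
  intro I
  induction I using WellFoundedGT.induction with
  | _ I ih =>
  intro X hXfin hXI
  haveI := hXfin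
  let S : Set (Submodule R X.carrier) := {P | ∃ hP : P.IsHomogeneous X.gr, Q (subMod 𝒜 P hP)}
  have hS : S.Nonempty :=
    ⟨⊥, isHomogeneous_bot (ℳ := X.gr), hzero _ (inferInstance : Subsingleton ↥(⊥ : Submodule R X.carrier))⟩
  obtain ⟨P, ⟨hP, hQP⟩, hmax⟩ := set_has_maximal_iff_noetherian.2 inferInstance S hS
  by_cases htop : P = ⊤
  · subst htop
    refine hext (subMod 𝒜 ⊤ hP) X (subMod 𝒜 (⊥ : Submodule R X.carrier) (isHomogeneous_bot (ℳ := X.gr)))
      (subIncl 𝒜 ⊤ hP) 0 ⟨isGrHomDeg_zero_iff.2 (isGrHom_subIncl ⊤ hP), Subtype.val_injective,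
        fun _ _ _ => zero_mem _, fun y => ⟨0, Subsingleton.elim (α := ↥(⊥ : Submodule R X.carrier)) _ _⟩,
        fun y => ⟨fun _ => ⟨⟨y, trivial⟩, rfl⟩, fun _ => rfl⟩⟩ hQP
      (hzero _ (inferInstance : Subsingleton ↥(⊥ : Submodule R X.carrier)))
  exfalso
  let B := quotMod 𝒜 P hP
  haveI : Nontrivial B.carrier := Submodule.Quotient.nontrivial_iff.2 htop
  obtain ⟨g, z, hz, hprime⟩ := exists_homogeneous_prime_annihilator 𝒜 B.gr
  have hz0 : z ≠ 0 := fun e => hprime.ne_top ((Ideal.eq_top_iff_one _).2 (by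
    rw [LinearMap.mem_ker, LinearMap.toSpanSingleton_apply, e, smul_zero]))
  have hspan : (Submodule.span R {z}).IsHomogeneous B.gr :=
    isHomogeneous_span 𝒜 fun w hw => ⟨g, by rw [Set.mem_singleton_iff.1 hw]; exact hz⟩
  let C := subMod 𝒜 (Submodule.span R {z}) hspan
  let zC : C.carrier := ⟨z, Submodule.mem_span_singleton_self z⟩
  have hker : (LinearMap.ker (LinearMap.toSpanSingleton R C.carrier zC) : Ideal R) =
      LinearMap.ker (LinearMap.toSpanSingleton R B.carrier z) := by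
    ext r
    exact ⟨fun h => congrArg Subtype.val h, fun h => Subtype.ext h⟩
  have hI : I ≤ (LinearMap.ker (LinearMap.toSpanSingleton R C.carrier zC) : Ideal R) := fun r hr => by
    rw [hker, LinearMap.mem_ker, LinearMap.toSpanSingleton_apply]
    obtain ⟨y, rfl⟩ := Submodule.mkQ_surjective P z
    show r • P.mkQ y = 0
    rw [← map_smul, hXI r hr y, map_zero]
  have hQC : Q C := by
    refine hcyc C g zC hz (eq_top_iff.2 fun w _ => ?_) (hker ▸ hprime) fun J Y hJ hY hYJ => ih J (hI.trans_lt hJ) Y hY hYJ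
    obtain ⟨c, hc⟩ := Submodule.mem_span_singleton.1 (Subtype.prop (show ↥(Submodule.span R {z}) from w))
    exact Submodule.mem_span_singleton.2 ⟨c, Subtype.ext hc⟩
  let P' : Submodule R X.carrier := (Submodule.span R {z}).comap (quotProj 𝒜 P hP)
  have hP' : P'.IsHomogeneous X.gr := isHomogeneous_comap (isGrHomDeg_zero_iff.2 (isGrHom_quotProj P hP)) hspan
  have hPP' : P ≤ P' := fun w hw => by
    show quotProj 𝒜 P hP w ∈ Submodule.span R {z}
    rw [show quotProj 𝒜 P hP w = 0 from (Submodule.Quotient.mk_eq_zero P).2 hw]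
    exact zero_mem _
  let f : (subMod 𝒜 P hP).carrier →ₗ[R] (subMod 𝒜 P' hP').carrier := Submodule.inclusion hPP'
  let π : (subMod 𝒜 P' hP').carrier →ₗ[R] C.carrier :=
    (quotProj 𝒜 P hP ∘ₗ P'.subtype).codRestrict (Submodule.span R {z}) fun w => w.2
  have hSES : GSES (subMod 𝒜 P hP).gr (subMod 𝒜 P' hP').gr C.gr f π 0 := by
    refine ⟨isGrHomDeg_zero_iff.2 fun j w hw => hw, Submodule.inclusion_injective hPP',
      fun j w hw => isGrHom_quotProj (𝒜 := 𝒜) P hP j _ hw, fun w => ?_, fun w => ?_⟩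
    · obtain ⟨(v : B.carrier), hv⟩ := (show ↥(Submodule.span R {z}) from w)
      obtain ⟨y, rfl⟩ := Submodule.mkQ_surjective P v
      exact ⟨⟨y, hv⟩, Subtype.ext rfl⟩
    · exact ⟨fun h => ⟨⟨w.1, (Submodule.Quotient.mk_eq_zero P).1 (congrArg Subtype.val h)⟩, rfl⟩,
        fun ⟨v, hv⟩ => hv ▸ Subtype.ext ((Submodule.Quotient.mk_eq_zero P).2 v.2)⟩
  have hlt : P < P' := by
    refine lt_of_le_of_ne hPP' fun e => hz0 ?_
    obtain ⟨y, rfl⟩ := Submodule.mkQ_surjective P z
    exact (Submodule.Quotient.mk_eq_zero P).2 (e.ge (Submodule.mem_span_singleton_self _))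
  exact hmax P' ⟨hP', hext _ _ _ f π hSES hQP hQC⟩ hlt

end Devissage

end Groth.Agent.H4Gr
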