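import Groth.Agent.H4Gr.FinPieces
import Groth.Agent.H4Gr.Dim
import Mathlib.NumberTheory.BernoulliPolynomials
import Mathlib.RingTheory.HopkinsLevitzki
import Mathlib.RingTheory.Length

/-!
# The Euler characteristic of local cohomology and the Hilbert polynomial
-/

set_option autoImplicit false
set_option linter.unusedSectionVars false
set_option linter.style.haveILetI false

universe u

open DirectSum

namespace Groth.Agent.H4Gr

/-- Every polynomial has an antidifference, of degree at most one more. -/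
theorem exists_antidiff : ∀ (k : ℕ) (q : Polynomial ℚ), q.degree < (k : ℕ) →
    ∃ p : Polynomial ℚ, p.degree < ((k + 1 : ℕ) : WithBot ℕ) ∧ ∀ x : ℚ, p.eval x - p.eval (x - 1) = q.eval x
  | 0, q, hq => ⟨0, by rw [Polynomial.degree_zero]; exact WithBot.bot_lt_coe _, fun x => by
      rw [show q = 0 from Polynomial.degree_eq_bot.1 (Nat.WithBot.lt_zero_iff.1 hq)]; simp⟩
  | k + 1, q, hq => by
    have hq' : (q.erase k).degree < ((k : ℕ) : WithBot ℕ) := by
      rw [Polynomial.degree_lt_iff_coeff_zero]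
      intro j hj
      rw [Polynomial.coeff_erase]
      split
      · rfl
      · exact (Polynomial.degree_lt_iff_coeff_zero q (k + 1)).1 hq j (by omega)
    obtain ⟨p, hp, hp'⟩ := exists_antidiff k (q.erase k) hq'
    set c := q.coeff k
    refine ⟨p + Polynomial.C (c / (k + 1)) * (Polynomial.bernoulli (k + 1)).comp (Polynomial.X + Polynomial.C 1), ?_, fun x => ?_⟩
    · refine (Polynomial.degree_add_le _ _).trans_lt (max_lt (hp.trans (by exact_mod_cast Nat.lt_succ_self (k + 1))) ?_)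
      refine lt_of_le_of_lt Polynomial.degree_le_natDegree ?_
      refine Nat.cast_lt.2 (Nat.lt_succ_of_le ?_)
      refine Polynomial.natDegree_mul_le.trans ?_
      rw [Polynomial.natDegree_C, zero_add, Polynomial.natDegree_comp, Polynomial.natDegree_X_add_C, mul_one]
      rw [Polynomial.bernoulli_def]
      refine Polynomial.natDegree_sum_le_of_forall_le _ _ fun i _ => ?_
      exact (Polynomial.natDegree_monomial_le _).trans (by simp only [Finset.mem_range] at *; omega)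
    · have h := Polynomial.bernoulli_eval_one_add (k + 1) x
      conv_rhs => rw [← Polynomial.monomial_add_erase q k, Polynomial.eval_add, ← hp' x]
      simp only [Polynomial.eval_add, Polynomial.eval_mul, Polynomial.eval_C, Polynomial.eval_comp,
        Polynomial.eval_X, Polynomial.eval_monomial, sub_add_cancel]
      rw [add_comm x 1, h]
      simp only [c, Nat.add_sub_cancel]
      push_cast
      field_simp
      ring

section Len

variable (S : Type u) [CommRing S]
variable {A B C : Type u} [AddCommGroup A] [Module S A] [AddCommGroup B] [Module S B] [AddCommGroup C] [Module S C]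

/-- Length as a rational number. -/
noncomputable def len (A : Type u) [AddCommGroup A] [Module S A] : ℚ := ((Module.length S A).toNat : ℚ)

theorem len_eq_ranges [IsArtinian S B] [IsNoetherian S B] (f : A →ₗ[S] B) (g : B →ₗ[S] C)
    (h : LinearMap.ker g = LinearMap.range f) : len S B = len S (LinearMap.range f) + len S (LinearMap.range g) := by
  have h1 := Module.length_eq_add_of_exact (LinearMap.range f).subtype g.rangeRestrict
    Subtype.val_injective g.surjective_rangeRestrict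
    (LinearMap.exact_iff.2 (by rw [LinearMap.ker_rangeRestrict, Submodule.range_subtype, h]))
  have h2 : Module.length S B ≠ ⊤ := Module.length_ne_top
  rw [h1] at h2
  obtain ⟨h3, h4⟩ := WithTop.add_ne_top.1 h2
  rw [len, h1, ENat.toNat_add h3 h4, Nat.cast_add]
  rfl

theorem len_range_eq_of_injective (f : A →ₗ[S] B) (h : Function.Injective f) :
    len S (LinearMap.range f) = len S A := by
  rw [len, len, (LinearEquiv.ofInjective f h).length_eq]

theorem len_eq_zero_of_subsingleton [Subsingleton A] : len S A = 0 := by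
  rw [len, Module.length_eq_zero]
  simp

theorem len_range_eq_zero_of_subsingleton [Subsingleton B] (f : A →ₗ[S] B) : len S (LinearMap.range f) = 0 :=
  len_eq_zero_of_subsingleton S

end Len

variable {R : Type u} [CommRing R] [IsNoetherianRing R] {𝒜 : ℤ → AddSubgroup R} [GradedRing 𝒜]
variable {L : Type u} [AddCommGroup L] [Module R L] {𝓛 : ℤ → AddSubgroup L} [Decomposition 𝓛]
  [SetLike.GradedSMul 𝒜 𝓛]
variable {M : Type u} [AddCommGroup M] [Module R M] {ℳ : ℤ → AddSubgroup M} [Decomposition ℳ]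
  [SetLike.GradedSMul 𝒜 ℳ]
variable {N : Type u} [AddCommGroup N] [Module R N] {𝒩 : ℤ → AddSubgroup N} [Decomposition 𝒩]
  [SetLike.GradedSMul 𝒜 𝒩]

/-- A homogeneous linear map on a piece. -/
def compMap {f : L →ₗ[R] M} {e : ℤ} (hf : GrLC.IsGrHomDeg 𝓛 ℳ f e) (g g' : ℤ) (h : g + e = g') :
    GrLC.comp 𝒜 𝓛 g →ₗ[GrLC.deg0 𝒜] GrLC.comp 𝒜 ℳ g' where
  toFun x := ⟨f x, h ▸ hf g x x.2⟩
  map_add' _ _ := Subtype.ext (map_add f _ _)
  map_smul' r x := Subtype.ext (map_smul f (r : R) (x : L))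

variable (m : HomogeneousIdeal 𝒜)

theorem ker_pieceMap {EL : GrLC.StarInjRes 𝒜 𝓛} {EM : GrLC.StarInjRes 𝒜 ℳ} {EN : GrLC.StarInjRes 𝒜 𝒩}
    {i j l : ℕ} {F : EL.H m i →ₗ[R] EM.H m j} {G : EM.H m j →ₗ[R] EN.H m l} {e e' : ℤ}
    (hF : GrLC.IsGrHomDeg (EL.Hgr m i) (EM.Hgr m j) F e) (hG : GrLC.IsGrHomDeg (EM.Hgr m j) (EN.Hgr m l) G e')
    (hex : Function.Exact F G) {g g' g'' : ℤ} (h : g + e = g') (h' : g' + e' = g'') :
    LinearMap.ker (pieceMap m hG g' g'' h') = LinearMap.range (pieceMap m hF g g' h) := by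
  ext y
  constructor
  · intro hy
    obtain ⟨x, hx, hxy⟩ := exists_piece_preimage m hF y.2 ((hex _).1 (congrArg Subtype.val (LinearMap.mem_ker.1 hy)))
    rw [show g' - e = g by omega] at hx
    exact ⟨⟨x, hx⟩, Subtype.ext hxy⟩
  · rintro ⟨x, rfl⟩
    exact LinearMap.mem_ker.2 (Subtype.ext (hex.apply_apply_eq_zero _))

variable [IsArtinianRing (GrLC.deg0 𝒜)]

theorem finLen_comp [Module.Finite R M] (n : ℤ) :
    IsArtinian (GrLC.deg0 𝒜) (GrLC.comp 𝒜 ℳ n) ∧ IsNoetherian (GrLC.deg0 𝒜) (GrLC.comp 𝒜 ℳ n) := by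
  have h := isNoetherian_comp (𝒜 := 𝒜) (ℳ := ℳ) n
  exact ⟨IsSemiprimaryRing.isNoetherian_iff_isArtinian.1 h, h⟩

/-- The Euler characteristic, corrected by the Hilbert function. -/
noncomputable def chi (E : GrLC.StarInjRes 𝒜 ℳ) (d : ℕ) (n : ℤ) : ℚ :=
  len (GrLC.deg0 𝒜) (GrLC.comp 𝒜 ℳ n) -
    ∑ i ∈ Finset.range (d + 1), (-1 : ℚ) ^ i * len (GrLC.deg0 𝒜) (E.Hcomp m i n)

variable (hpos : ∀ n : ℤ, n < 0 → 𝒜 n = ⊥) (hm : GrLC.IsStarLocal 𝒜 m)

include hpos hm in
theorem finLen_Hcomp [Module.Finite R M] (E : GrLC.StarInjRes 𝒜 ℳ) (i : ℕ) (n : ℤ) :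
    IsArtinian (GrLC.deg0 𝒜) (E.Hcomp m i n) ∧ IsNoetherian (GrLC.deg0 𝒜) (E.Hcomp m i n) := by
  have h := isArtinian_Hcomp hpos hm E i n
  exact ⟨h, IsSemiprimaryRing.isNoetherian_iff_isArtinian.2 h⟩

include hpos hm in
/-- Additivity of the Euler characteristic. -/
theorem chi_add [Module.Finite R L] [Module.Finite R M] [Module.Finite R N] {f : L →ₗ[R] M} {π : M →ₗ[R] N}
    {e : ℤ} (S : GSES 𝓛 ℳ 𝒩 f π e) (EL : GrLC.StarInjRes 𝒜 𝓛) (EM : GrLC.StarInjRes 𝒜 ℳ)
    (EN : GrLC.StarInjRes 𝒜 𝒩) {d : ℕ} (hd : ringKrullDim R ≤ d) (n : ℤ) :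
    chi m EM d n = chi m EL d (n - e) + chi m EN d n := by
  obtain ⟨δ, hδ, hinj, hx₁, hx₂, hx₃⟩ := S.exists_δ m EL EM EN
  let S₀ := GrLC.deg0 𝒜
  let F := fun i => pieceMap m (isGrHomDeg_hmap m EL EM f S.deg i) (n - e) n (sub_add_cancel n e)
  let G := fun i => pieceMap m (isGrHomDeg_hmap m EM EN π S.deg' i) n n (add_zero n)
  let D := fun i => pieceMap m (hδ i) n (n - e) (sub_eq_add_neg n e).symm
  have hB : ∀ i, len S₀ (EM.Hcomp m i n) = len S₀ (LinearMap.range (F i)) + len S₀ (LinearMap.range (G i)) := fun i =>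
    have h := finLen_Hcomp m hpos hm EM i n
    @len_eq_ranges _ _ _ _ _ _ _ _ _ _ _ h.1 h.2 (F i) (G i) (ker_pieceMap m _ _ (hx₁ i) _ _)
  have hC : ∀ i, len S₀ (EN.Hcomp m i n) = len S₀ (LinearMap.range (G i)) + len S₀ (LinearMap.range (D i)) := fun i =>
    have h := finLen_Hcomp m hpos hm EN i n
    @len_eq_ranges _ _ _ _ _ _ _ _ _ _ _ h.1 h.2 (G i) (D i) (ker_pieceMap m _ _ (hx₂ i) _ _)
  have hA : ∀ i, len S₀ (EL.Hcomp m (i + 1) (n - e)) =
      len S₀ (LinearMap.range (D i)) + len S₀ (LinearMap.range (F (i + 1))) := fun i =>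
    have h := finLen_Hcomp m hpos hm EL (i + 1) (n - e)
    @len_eq_ranges _ _ _ _ _ _ _ _ _ _ _ h.1 h.2 (D i) (F (i + 1)) (ker_pieceMap m _ _ (hx₃ i) _ _)
  have hA0 : len S₀ (LinearMap.range (F 0)) = len S₀ (EL.Hcomp m 0 (n - e)) :=
    len_range_eq_of_injective _ _ fun x y h => Subtype.ext (hinj (congrArg Subtype.val h))
  have hsum : ∀ k : ℕ, ∑ i ∈ Finset.range (k + 1), (-1 : ℚ) ^ i *
      (len S₀ (EM.Hcomp m i n) - len S₀ (EL.Hcomp m i (n - e)) - len S₀ (EN.Hcomp m i n)) =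
      -((-1 : ℚ) ^ k * len S₀ (LinearMap.range (D k))) := by
    intro k
    induction k with
    | zero => simp only [Finset.range_one, Finset.sum_singleton, pow_zero, one_mul, hB, hC, ← hA0, zero_add]; ring
    | succ k ih =>
      rw [Finset.sum_range_succ, ih, hB, hC, hA]
      ring
  have hlast : len S₀ (LinearMap.range (D d)) = 0 := by
    haveI : Subsingleton (EL.Hcomp m (d + 1) (n - e)) :=
      ⟨fun x y => Subtype.ext ((H_eq_zero_of_dim_lt m hd (Nat.lt_succ_self d) EL _).trans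
        (H_eq_zero_of_dim_lt m hd (Nat.lt_succ_self d) EL _).symm)⟩
    exact len_range_eq_zero_of_subsingleton _ _
  have hcomp : len S₀ (GrLC.comp 𝒜 ℳ n) = len S₀ (GrLC.comp 𝒜 𝓛 (n - e)) + len S₀ (GrLC.comp 𝒜 𝒩 n) := by
    let f₀ := compMap (𝒜 := 𝒜) S.deg (n - e) n (sub_add_cancel n e)
    let π₀ := compMap (𝒜 := 𝒜) S.deg' n n (add_zero n)
    have h := finLen_comp (𝒜 := 𝒜) (ℳ := ℳ) n
    have hker : LinearMap.ker π₀ = LinearMap.range f₀ := by
      ext y
      constructor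
      · intro hy
        obtain ⟨x, hx, hxy⟩ := exists_preimage_mem S.deg (g := n - e) (y := (y : M))
          (by rw [sub_add_cancel]; exact y.2) ((S.exact _).1 (congrArg Subtype.val (LinearMap.mem_ker.1 hy)))
        exact ⟨⟨x, hx⟩, Subtype.ext hxy⟩
      · rintro ⟨x, rfl⟩
        exact LinearMap.mem_ker.2 (Subtype.ext (S.exact.apply_apply_eq_zero _))
    have hsurj : LinearMap.range π₀ = ⊤ := LinearMap.range_eq_top.2 fun y => by
      obtain ⟨x, hx, hxy⟩ := exists_preimage_mem S.deg' (g := n) (y := (y : N))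
        (by rw [add_zero]; exact y.2) (S.surj _)
      exact ⟨⟨x, hx⟩, Subtype.ext hxy⟩
    rw [@len_eq_ranges _ _ _ _ _ _ _ _ _ _ _ h.1 h.2 f₀ π₀ hker,
      len_range_eq_of_injective _ f₀ fun x y hxy => Subtype.ext (S.inj (congrArg Subtype.val hxy))]
    congr 1
    rw [len, len, ((LinearEquiv.ofEq _ _ hsurj).trans Submodule.topEquiv).length_eq]
  have h := hsum d
  rw [hlast, mul_zero, neg_zero] at h
  simp only [mul_sub, Finset.sum_sub_distrib] at h
  simp only [chi]
  linear_combination hcomp - h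

theorem chi_eq_zero_of_subsingleton [Subsingleton M] (E : GrLC.StarInjRes 𝒜 ℳ) (d : ℕ) (n : ℤ) :
    chi m E d n = 0 := by
  have h : ∀ i, len (GrLC.deg0 𝒜) (E.Hcomp m i n) = 0 := fun i => by
    haveI : Subsingleton (E.Hcomp m i n) :=
      ⟨fun x y => Subtype.ext ((Hcomp_eq_bot_iff m).1 (Hcomp_eq_bot_of_subsingleton m E i n) _ x.2 |>.trans
        ((Hcomp_eq_bot_iff m).1 (Hcomp_eq_bot_of_subsingleton m E i n) _ y.2).symm)⟩
    exact len_eq_zero_of_subsingleton _
  haveI : Subsingleton (GrLC.comp 𝒜 ℳ n) := inferInstance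
  simp only [chi, h, len_eq_zero_of_subsingleton, mul_zero, Finset.sum_const_zero, sub_zero]

/-- `χ` is a polynomial. -/
def PolyChi (d : ℕ) (X : GrLC.GMod.{u} 𝒜) : Prop :=
  Module.Finite R X.carrier → ∃ q : Polynomial ℚ,
    (∀ (E : GrLC.StarInjRes 𝒜 X.gr) (n : ℤ), chi m E d n = q.eval (n : ℚ)) ∧
      ∀ (J : Ideal R) (k : ℕ), (∀ r ∈ J, ∀ y : X.carrier, r • y = 0) → ringKrullDim (R ⧸ J) ≤ (k : ℕ) →
        q.degree < (k : ℕ)

variable (hstd : Ideal.span (⋃ n ∈ Set.Ioi (0 : ℤ), (𝒜 n : Set R)) = Ideal.span ((𝒜 1 : AddSubgroup R) : Set R))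

include hpos hm hstd in
theorem polyChi {d : ℕ} (hd : ringKrullDim R ≤ d) (X : GrLC.GMod.{u} 𝒜) [Module.Finite R X.carrier] :
    PolyChi m d X := by
  refine devissage 𝒜 (PolyChi m d) (fun X _ _ => ⟨0, fun E n => by rw [chi_eq_zero_of_subsingleton, Polynomial.eval_zero],
      fun _ k _ _ => by rw [Polynomial.degree_zero]; exact WithBot.bot_lt_coe _⟩)
    (fun A B C f π S hA hC hBfin => ?_) (fun C g z hz hgen hprime ih _ => ?_) X
  · haveI := hBfin
    haveI : Module.Finite R A.carrier := Module.Finite.of_injective f S.inj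
    haveI : Module.Finite R C.carrier := Module.Finite.of_surjective π S.surj
    obtain ⟨EA⟩ := nonempty_starInjRes (𝒜 := 𝒜) (ℳ := A.gr)
    obtain ⟨EC⟩ := nonempty_starInjRes (𝒜 := 𝒜) (ℳ := C.gr)
    obtain ⟨qA, hqA, hdA⟩ := hA inferInstance
    obtain ⟨qC, hqC, hdC⟩ := hC inferInstance
    exact ⟨qA + qC, fun E n => by
      rw [chi_add m hpos hm S EA E EC hd, sub_zero, hqA, hqC, Polynomial.eval_add],
      fun J k hJ hk => (Polynomial.degree_add_le _ _).trans_lt (max_lt
        (hdA J k (fun r hr y => S.inj (by rw [map_smul, map_zero, hJ r hr])) hk)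
        (hdC J k (fun r hr y => by obtain ⟨w, rfl⟩ := S.surj y; rw [← map_smul, hJ r hr, map_zero]) hk))⟩
  set p : Ideal R := LinearMap.ker (LinearMap.toSpanSingleton R C.carrier z) with hp
  haveI : Module.Finite R C.carrier := ⟨⟨{z}, by simpa using hgen⟩⟩
  have hall : ∀ w : C.carrier, ∃ c : R, c • z = w := fun w => Submodule.mem_span_singleton.1 (hgen ▸ Submodule.mem_top)
  have hsmul : ∀ {r : R} {c : R}, r ∈ p → r • c • z = 0 := fun {r c} hr => by
    rw [smul_comm, show r • z = 0 from hr, smul_zero]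
  by_cases hap : m.toIdeal ≤ p
  · have htor : GrLC.gam m.toIdeal C.carrier = ⊤ := eq_top_iff.2 fun w _ => ⟨1, fun r hr => by
      obtain ⟨c, rfl⟩ := hall w
      exact hsmul (hap (by simpa using hr))⟩
    refine ⟨0, fun E n => ?_, fun _ k _ _ => by rw [Polynomial.degree_zero]; exact WithBot.bot_lt_coe _⟩
    have h0 : len (GrLC.deg0 𝒜) (E.Hcomp m 0 n) = len (GrLC.deg0 𝒜) (GrLC.comp 𝒜 C.gr n) := by
      let φ : GrLC.comp 𝒜 C.gr n →ₗ[GrLC.deg0 𝒜] E.Hcomp m 0 n :=
        { toFun := fun x => ⟨toH₀ m E ⟨x, htor ▸ Submodule.mem_top⟩, toH₀_mem E x.2⟩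
          map_add' := fun x y => Subtype.ext (map_add (toH₀ m E) ⟨(x : C.carrier), htor ▸ Submodule.mem_top⟩
            ⟨(y : C.carrier), htor ▸ Submodule.mem_top⟩)
          map_smul' := fun r x => Subtype.ext (map_smul (toH₀ m E) (r : R) ⟨(x : C.carrier), htor ▸ Submodule.mem_top⟩) }
      have hφ : Function.Bijective φ := ⟨fun x y h => Subtype.ext
          (Subtype.mk.inj (toH₀_injective E (congrArg Subtype.val h))),
        fun y => (exists_toH₀_eq E y.2).elim fun x ⟨hx, hxy⟩ => ⟨⟨x, hx⟩, Subtype.ext hxy⟩⟩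
      rw [len, len, (LinearEquiv.ofBijective φ hφ).length_eq]
    have h1 : ∀ i, len (GrLC.deg0 𝒜) (E.Hcomp m (i + 1) n) = 0 := fun i => by
      haveI : Subsingleton (E.Hcomp m (i + 1) n) :=
        ⟨fun x y => Subtype.ext ((H_succ_eq_zero_of_torsion E htor i _).trans (H_succ_eq_zero_of_torsion E htor i _).symm)⟩
      exact len_eq_zero_of_subsingleton _
    simp only [chi, Finset.sum_range_succ', h1, h0, mul_zero, Finset.sum_const_zero, pow_zero, one_mul, zero_add,
      sub_self, Polynomial.eval_zero]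
  obtain ⟨x, hx1, hxp⟩ : ∃ x, x ∈ 𝒜 1 ∧ x ∉ p := by
    by_contra hc
    push Not at hc
    have hle : Ideal.span ((𝒜 1 : AddSubgroup R) : Set R) ≤ p := Ideal.span_le.2 hc
    refine hap fun r hr => ?_
    -- degree-zero part is nilpotent modulo the positive part
    have hcore : r - proj 𝒜 0 r ∈ p := by
      have key : ∀ y : R, y - proj 𝒜 0 y ∈ Ideal.span (⋃ n ∈ Set.Ioi (0 : ℤ), (𝒜 n : Set R)) := fun y => by
        induction y using induction 𝒜 with
        | zero => simp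
        | hom j r hr =>
          rcases lt_trichotomy j 0 with hj | rfl | hj
          · rw [show r = 0 by simpa [hpos j hj] using hr, map_zero, sub_zero]; exact zero_mem _
          · rw [proj_same hr, sub_self]; exact zero_mem _
          · rw [proj_ne hr hj.ne', sub_zero]
            exact Ideal.subset_span (Set.mem_iUnion₂.2 ⟨j, hj, hr⟩)
        | add u v hu hv => rw [map_add, add_sub_add_comm]; exact add_mem hu hv
      exact hle (hstd ▸ key r)
    have h0 : proj 𝒜 0 r ∈ p := by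
      let ρ : GrLC.deg0 𝒜 →+* R := (GrLC.deg0 𝒜).subtype
      haveI hmp : (p.comap ρ).IsMaximal := Ideal.IsPrime.isMaximal' (hprime.comap ρ)
      have hle' : p.comap ρ ≤ m.toIdeal.comap ρ := fun u hu => by
        by_contra hum
        have htop : Ideal.span {(u : R)} = ⊤ := by
          by_contra ht
          exact hum (le_of_isStarLocal hm (Ideal.homogeneous_span 𝒜 {(u : R)} fun w hw =>
            ⟨0, Set.mem_singleton_iff.1 hw ▸ u.2⟩) ht (Ideal.mem_span_singleton_self _))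
        exact hprime.ne_top (eq_top_iff.2 (htop ▸ (Ideal.span_singleton_le_iff_mem _).2 hu))
      have heq := hmp.eq_of_le ((isMaximal_of_isStarLocal hpos hm).isPrime.comap ρ).ne_top hle'
      exact heq.ge (show (⟨proj 𝒜 0 r, proj_mem 𝒜 0 r⟩ : GrLC.deg0 𝒜) ∈ m.toIdeal.comap ρ from m.isHomogeneous 0 hr)
    simpa using add_mem hcore h0
  have hreg : IsSMulRegular C.carrier x := fun u v huv => by
    obtain ⟨b, rfl⟩ := hall u
    obtain ⟨c, rfl⟩ := hall v
    have h : x * (b - c) ∈ p := by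
      rw [hp, LinearMap.mem_ker, LinearMap.toSpanSingleton_apply, mul_smul, sub_smul, smul_sub, sub_eq_zero]
      exact huv
    exact sub_eq_zero.1 (by rw [← sub_smul]; exact (hprime.mem_or_mem h).resolve_left hxp)
  let P : Submodule R C.carrier := LinearMap.range (x • (LinearMap.id : C.carrier →ₗ[R] C.carrier))
  have hP : P.IsHomogeneous C.gr := isHomogeneous_range (isGrHomDeg_smul_id (ℳ := C.gr) hx1)
  let Y := quotMod 𝒜 P hP
  have S : GSES C.gr C.gr Y.gr (x • LinearMap.id) (quotProj 𝒜 P hP) 1 :=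
    ⟨isGrHomDeg_smul_id hx1, hreg, isGrHom_quotProj P hP, Submodule.mkQ_surjective P,
      LinearMap.exact_map_mkQ_range _⟩
  haveI : Module.Finite R Y.carrier := inferInstanceAs (Module.Finite R (C.carrier ⧸ P))
  obtain ⟨q, hq, hdq⟩ := ih (p ⊔ Ideal.span {x}) Y
    (left_lt_sup.2 fun h => hxp (h (Ideal.mem_span_singleton_self x))) inferInstance (fun s hs y => by
      obtain ⟨w, rfl⟩ := Submodule.mkQ_surjective P y
      obtain ⟨c, rfl⟩ := hall w
      obtain ⟨s₁, hs₁, s₂, hs₂, rfl⟩ := Submodule.mem_sup.1 hs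
      obtain ⟨b, rfl⟩ := Ideal.mem_span_singleton'.1 hs₂
      refine (Submodule.Quotient.mk_eq_zero P).2 ⟨b • c • z, ?_⟩
      show _ = (s₁ + b * x) • c • z
      rw [add_smul, hsmul hs₁, zero_add, LinearMap.smul_apply, LinearMap.id_apply, smul_smul x b, mul_comm x b])
    inferInstance
  have hkill : ∀ s ∈ p ⊔ Ideal.span {x}, ∀ y : Y.carrier, s • y = 0 := fun s hs y => by
    obtain ⟨w, rfl⟩ := Submodule.mkQ_surjective P y
    obtain ⟨c, rfl⟩ := hall w
    obtain ⟨s₁, hs₁, s₂, hs₂, rfl⟩ := Submodule.mem_sup.1 hs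
    obtain ⟨b, rfl⟩ := Ideal.mem_span_singleton'.1 hs₂
    refine (Submodule.Quotient.mk_eq_zero P).2 ⟨b • c • z, ?_⟩
    show _ = (s₁ + b * x) • c • z
    rw [add_smul, hsmul hs₁, zero_add, LinearMap.smul_apply, LinearMap.id_apply, smul_smul x b, mul_comm x b]
  have hdim : ∀ k : ℕ, ringKrullDim (R ⧸ p) ≤ (k : ℕ) → ∃ j, k = j + 1 ∧ q.degree < (j : ℕ) := fun k hk => by
    haveI := hprime
    have hx' : Ideal.Quotient.mk p x ∈ nonZeroDivisors (R ⧸ p) :=
      mem_nonZeroDivisors_of_ne_zero fun e => hxp (Ideal.Quotient.eq_zero_iff_mem.1 e)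
    have h1 := (ringKrullDim_succ_le_of_surjective (Ideal.Quotient.factor (le_sup_left : p ≤ p ⊔ Ideal.span {x}))
      (Ideal.Quotient.factor_surjective le_sup_left) hx' (Ideal.Quotient.eq_zero_iff_mem.2
        (Submodule.mem_sup_right (Ideal.mem_span_singleton_self x)))).trans hk
    have hne : p ⊔ Ideal.span {x} ≠ ⊤ := by
      refine ne_top_of_le_ne_top (isMaximal_of_isStarLocal hpos hm).ne_top (sup_le ?_
        ((Ideal.span_singleton_le_iff_mem _).2 (pos_mem_of_isStarLocal hpos hm one_pos hx1)))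
      exact le_of_isStarLocal hm (isHomogeneous_ker_toSpanSingleton 𝒜 hz) hprime.ne_top
    haveI : Nontrivial (R ⧸ p ⊔ Ideal.span {x}) := Ideal.Quotient.nontrivial_iff.2 hne
    cases k with
    | zero =>
      have h0 := (add_le_add_left (ringKrullDim_nonneg_of_nontrivial (R := R ⧸ p ⊔ Ideal.span {x})) 1).trans h1
      exact absurd h0 (by simp)
    | succ j =>
      refine ⟨j, rfl, hdq _ j hkill ?_⟩
      revert h1
      generalize ringKrullDim (R ⧸ p ⊔ Ideal.span {x}) = D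
      intro h1
      cases D with
      | bot => exact bot_le
      | coe D =>
        have h2 : D + 1 ≤ (j : ℕ∞) + 1 := by exact_mod_cast h1
        exact WithBot.coe_le_coe.2 ((ENat.add_le_add_iff_right ENat.one_ne_top).1 h2)
  obtain ⟨j₀, hj₀⟩ : ∃ j : ℕ, q.degree < (j : ℕ) := ⟨q.natDegree + 1,
    lt_of_le_of_lt Polynomial.degree_le_natDegree (by exact_mod_cast Nat.lt_succ_self q.natDegree)⟩
  classical
  have hex : ∃ j : ℕ, q.degree < (j : ℕ) := ⟨j₀, hj₀⟩
  obtain ⟨q', hdq', hq'⟩ := exists_antidiff (Nat.find hex) q (Nat.find_spec hex)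
  obtain ⟨E₀⟩ := nonempty_starInjRes (𝒜 := 𝒜) (ℳ := C.gr)
  obtain ⟨EY⟩ := nonempty_starInjRes (𝒜 := 𝒜) (ℳ := Y.gr)
  have hstep : ∀ (E E' : GrLC.StarInjRes 𝒜 C.gr) (n : ℤ), chi m E d n = chi m E' d (n - 1) + q.eval (n : ℚ) :=
    fun E E' n => by rw [chi_add m hpos hm S E' E EY hd, hq]
  refine ⟨q' + Polynomial.C (chi m E₀ d 0 - q'.eval 0), fun E n => ?_, fun J k hJ hk => ?_⟩
  have hconst : ∀ k : ℤ, chi m E₀ d k - q'.eval (k : ℚ) = chi m E₀ d 0 - q'.eval 0 := by
    have hs : ∀ k : ℤ, chi m E₀ d k - q'.eval (k : ℚ) = chi m E₀ d (k - 1) - q'.eval ((k - 1 : ℤ) : ℚ) := fun k => by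
      rw [hstep E₀ E₀ k, ← hq' (k : ℚ)]; push_cast; ring
    intro k
    induction k using Int.induction_on with
    | zero => simp
    | succ j ihj => rw [hs, add_sub_cancel_right, ihj]
    | pred j ihj => rw [← hs, ihj]
  have hE : chi m E d n = chi m E₀ d n := by rw [hstep E E₀ n, hstep E₀ E₀ n]
  rw [hE, Polynomial.eval_add, Polynomial.eval_C, ← hconst n]
  ring
  · obtain ⟨j, rfl, hj⟩ := hdim k ((ringKrullDim_le_of_surjective (Ideal.Quotient.factor
      (show J ≤ p from fun r hr => LinearMap.mem_ker.2 (hJ r hr z))) (Ideal.Quotient.factor_surjective _)).trans hk)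
    refine (Polynomial.degree_add_le _ _).trans_lt (max_lt ?_ (Polynomial.degree_C_le.trans_lt (by exact_mod_cast Nat.succ_pos j)))
    exact hdq'.trans_le (by exact_mod_cast Nat.succ_le_succ (Nat.find_min' hex hj))

include hpos hm hstd in
/-- The Hilbert polynomial is the Euler characteristic of local cohomology. -/
theorem chi_eq_hilbert {d : ℕ} (hd : ringKrullDim R ≤ d) [Module.Finite R M] (E : GrLC.StarInjRes 𝒜 ℳ)
    (P : Polynomial ℚ) (hP : ∃ N : ℤ, ∀ n : ℤ, N ≤ n → P.eval (n : ℚ) = len (GrLC.deg0 𝒜) (GrLC.comp 𝒜 ℳ n))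
    (n : ℤ) : chi m E d n = P.eval (n : ℚ) := by
  haveI : Module.Finite R (GrLC.GMod.of 𝒜 M ℳ).carrier := inferInstanceAs (Module.Finite R M)
  obtain ⟨q, hq, -⟩ := polyChi m hpos hm hstd hd (GrLC.GMod.of 𝒜 M ℳ) inferInstance
  obtain ⟨N, hN⟩ := hP
  have hb : ∀ i, ∃ N : ℤ, ∀ k : ℤ, N ≤ k → E.Hcomp m i k = ⊥ := fun i => exists_forall_Hcomp_eq_bot hpos hm E i
  choose B hB using hb
  have hqP : q = P := by
    refine Polynomial.eq_of_infinite_eval_eq q P (Set.infinite_of_injective_forall_mem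
      (f := fun j : ℕ => ((N.natAbs + ∑ i ∈ Finset.range (d + 1), (B i).natAbs + j : ℕ) : ℚ))
      (fun a b h => by simpa using h) fun j => ?_)
    set k : ℤ := ((N.natAbs + ∑ i ∈ Finset.range (d + 1), (B i).natAbs + j : ℕ) : ℤ) with hk
    show q.eval _ = P.eval _
    rw [show ((N.natAbs + ∑ i ∈ Finset.range (d + 1), (B i).natAbs + j : ℕ) : ℚ) = (k : ℚ) by simp [hk]]
    rw [hN k (by omega), ← hq E k, chi, Finset.sum_eq_zero, sub_zero]
    · rfl
    intro i hi
    have hBi := Finset.single_le_sum (f := fun i => (B i).natAbs) (fun _ _ => Nat.zero_le _) hi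
    haveI : Subsingleton (E.Hcomp m i k) := ⟨fun x y => Subtype.ext
      (((Hcomp_eq_bot_iff m).1 (hB i k (by omega)) x x.2).trans ((Hcomp_eq_bot_iff m).1 (hB i k (by omega)) y y.2).symm)⟩
    exact mul_eq_zero_of_right _ (len_eq_zero_of_subsingleton (A := E.Hcomp m i k) _)
  exact (hq E n).trans (by rw [hqP])

end Groth.Agent.H4Gr
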