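import Groth.Agent.H4Gr.Basic
import Mathlib.RingTheory.Localization.Ideal
import Mathlib.RingTheory.Localization.AtPrime.Basic
import Mathlib.RingTheory.Ideal.Quotient.Operations
import Mathlib.LinearAlgebra.Finsupp.LSum
import Mathlib.Order.Zorn

/-!
# Graded modules killed by a graded prime are free after localisation
-/

set_option autoImplicit false
set_option linter.unusedSectionVars false

universe u

open DirectSum

namespace Groth.Agent.H4Gr

variable {ι : Type} [AddCommGroup ι] [DecidableEq ι]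
variable {R : Type u} [CommRing R] {𝒜 : ι → AddSubgroup R} [GradedRing 𝒜]
variable {Y : Type u} [AddCommGroup Y] [Module R Y] {𝒴 : ι → AddSubgroup Y} [Decomposition 𝒴]
  [SetLike.GradedSMul 𝒜 𝒴]

/-- `b` is free modulo `q` and generates up to elements outside `p`. -/
structure IsFreeFamily (q : Ideal R) {N : Type u} [AddCommGroup N] [Module R N] {κ : Type u} (b : κ → N) :
    Prop where
  indep : ∀ c : κ →₀ R, Finsupp.linearCombination R b c = 0 → ∀ k, c k ∈ q
  span : ∀ (p : Ideal R) [p.IsPrime], (∀ g, ∀ x ∈ 𝒜 g, x ∈ p → x ∈ q) →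
    ∀ e : N, ∃ s, s ∉ p ∧ s • e ∈ Submodule.span R (Set.range b)

variable (𝒜 𝒴) in
include 𝒴 in
theorem exists_isFreeFamily_homogeneous (q : Ideal R) (hqY : ∀ r ∈ q, ∀ y : Y, r • y = 0) :
    ∃ (κ : Type u) (b : κ → Y), IsFreeFamily (𝒜 := 𝒜) q b ∧ ∀ k, ∃ g, b k ∈ 𝒴 g := by
  classical
  let Good : Set (Set Y) := {S | (∀ y ∈ S, ∃ g, y ∈ 𝒴 g) ∧
    ∀ c : Y →₀ R, (c.support : Set Y) ⊆ S → Finsupp.linearCombination R id c = 0 → ∀ y, c y ∈ q}
  obtain ⟨S, hS, hSmax⟩ : ∃ S, Maximal (· ∈ Good) S := by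
    refine zorn_subset Good fun C hC hchain => ⟨⋃₀ C, ⟨fun y hy => ?_, fun c hc hc0 => ?_⟩, fun s hs =>
      Set.subset_sUnion_of_mem hs⟩
    · obtain ⟨s, hs, hys⟩ := hy
      exact (hC hs).1 y hys
    · rcases C.eq_empty_or_nonempty with rfl | hne
      · intro y
        have : c.support = ∅ := by
          rw [Set.sUnion_empty, Set.subset_empty_iff] at hc
          exact_mod_cast hc
        rw [Finsupp.notMem_support_iff.1 (by rw [this]; exact Finset.notMem_empty y)]
        exact q.zero_mem
      · obtain ⟨s, hs, hcs⟩ := hchain.directedOn.exists_mem_subset_of_finset_subset_biUnion hne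
          (f := id) (s := c.support) (by simpa [Set.sUnion_eq_biUnion] using hc)
        exact (hC hs).2 c hcs hc0
  refine ⟨S, Subtype.val, ⟨fun c hc => ?_, fun p _ hpq e => ?_⟩, fun k => hS.1 k.1 k.2⟩
  · intro k
    have h := hS.2 (c.mapDomain Subtype.val) (by
      intro y hy
      obtain ⟨x, -, rfl⟩ := Finset.mem_image.1 (Finsupp.mapDomain_support hy)
      exact x.2) (by rw [Finsupp.linearCombination_mapDomain]; exact hc) k.1
    rwa [Finsupp.mapDomain_apply Subtype.val_injective] at h
  · rw [Subtype.range_coe]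
    have hspan := isHomogeneous_span (𝒜 := 𝒜) (ℳ := 𝒴) (s := S) hS.1
    have h1 : (1 : R) ∉ p := fun h => Ideal.IsPrime.ne_top ‹_› ((Ideal.eq_top_iff_one p).2 h)
    induction e using induction 𝒴 with
    | zero => exact ⟨1, h1, by simp⟩
    | add x y hx hy =>
      obtain ⟨s, hs, hsx⟩ := hx
      obtain ⟨t, ht, hty⟩ := hy
      refine ⟨s * t, fun h => (Ideal.IsPrime.mem_or_mem ‹_› h).elim hs ht, ?_⟩
      rw [smul_add]
      exact add_mem (by rw [mul_comm, mul_smul]; exact Submodule.smul_mem _ _ hsx)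
        (by rw [mul_smul]; exact Submodule.smul_mem _ _ hty)
    | hom g x hx =>
      by_cases hxS : x ∈ S
      · exact ⟨1, h1, by rw [one_smul]; exact Submodule.subset_span hxS⟩
      have hbad : ¬ (insert x S ∈ Good) := fun h => hxS (hSmax h (Set.subset_insert x S) (Set.mem_insert x S))
      have hhom : ∀ y ∈ insert x S, ∃ g, y ∈ 𝒴 g := by
        rintro y (rfl | hy)
        exacts [⟨g, hx⟩, hS.1 y hy]
      simp only [Good, Set.mem_setOf_eq, not_and] at hbad
      obtain ⟨c, hc, hc0, hcq⟩ : ∃ c : Y →₀ R, (c.support : Set Y) ⊆ insert x S ∧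
          Finsupp.linearCombination R id c = 0 ∧ ∃ y, c y ∉ q := by
        by_contra h
        push Not at h
        exact hbad hhom h
      have hsplit : Finsupp.linearCombination R id (c.erase x) + c x • x = 0 := by
        rw [← hc0]
        conv_rhs => rw [← Finsupp.single_add_erase x c, map_add, Finsupp.linearCombination_single]
        rw [add_comm]; rfl
      have hmem : Finsupp.linearCombination R id (c.erase x) ∈ Submodule.span R S := by
        rw [Finsupp.linearCombination_apply]
        refine sum_mem fun y hy => Submodule.smul_mem _ _ (Submodule.subset_span ?_)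
        have hy' := Finset.mem_erase.1 (Finsupp.support_erase (f := c) (a := x) ▸ hy)
        exact (hc hy'.2).resolve_left hy'.1
      have hcx : c x ∉ q := fun hcx => by
        obtain ⟨y, hy⟩ := hcq
        refine hy ?_
        by_cases hyx : y = x
        · exact hyx ▸ hcx
        have h := hS.2 (c.erase x) (fun z hz => ?_) ?_ y
        · rwa [Finsupp.erase_ne hyx] at h
        · have hz' := Finset.mem_erase.1 (Finsupp.support_erase (f := c) (a := x) ▸ hz)
          exact (hc hz'.2).resolve_left hz'.1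
        · rwa [hqY _ hcx, add_zero] at hsplit
      obtain ⟨h, hh⟩ : ∃ h, proj 𝒜 h (c x) ∉ q := by
        by_contra hc'
        push Not at hc'
        obtain ⟨s, hs, -⟩ := exists_sum_proj 𝒜 (c x)
        exact hcx (hs ▸ sum_mem fun i _ => hc' i)
      refine ⟨proj 𝒜 h (c x), fun hp => hh (hpq h _ (proj_mem 𝒜 h _) hp), ?_⟩
      have hcxx : c x • x ∈ Submodule.span R S := by
        rw [eq_neg_of_add_eq_zero_right hsplit]; exact neg_mem hmem
      have := hspan (h + g) hcxx
      obtain ⟨s, hs, hs0⟩ := exists_sum_proj 𝒜 (c x)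
      have e : proj 𝒴 (h + g) (c x • x) = proj 𝒜 h (c x) • x := by
        rw [← hs, Finset.sum_smul, map_sum, hs, Finset.sum_eq_single h (fun j _ hjh => ?_) (fun hh' => ?_)]
        · rw [proj_same (smul_mem 𝒜 (proj_mem 𝒜 h _) hx)]
        · exact proj_ne (smul_mem 𝒜 (proj_mem 𝒜 j _) hx) fun e => hjh (add_right_cancel e)
        · rw [hs0 h hh', zero_smul, map_zero]
      exact e ▸ this

variable (𝒜 𝒴) in
include 𝒴 in
theorem exists_isFreeFamily (q : Ideal R) (hqY : ∀ r ∈ q, ∀ y : Y, r • y = 0) :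
    ∃ (κ : Type u) (b : κ → Y), IsFreeFamily (𝒜 := 𝒜) q b := by
  obtain ⟨κ, b, hb, -⟩ := exists_isFreeFamily_homogeneous 𝒜 𝒴 q hqY
  exact ⟨κ, b, hb⟩

end Groth.Agent.H4Gr
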