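import Groth.Agent.H4Gr.Family
import Groth.Agent.H3CAlg.ExtLoc
import Mathlib.RingTheory.Length

/-!
# Localised modules with a free family
-/

set_option autoImplicit false
set_option linter.unusedSectionVars false

universe u

open CategoryTheory

namespace Groth.Agent.H4Gr

variable {ι : Type} [AddCommGroup ι] [DecidableEq ι]
variable {R : Type u} [CommRing R] {𝒜 : ι → AddSubgroup R}
variable {N : Type u} [AddCommGroup N] [Module R N] {q : Ideal R} {κ : Type u} {b : κ → N}

theorem IsFreeFamily.of_linearEquiv {N' : Type u} [AddCommGroup N'] [Module R N'] (e : N ≃ₗ[R] N')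
    (hb : IsFreeFamily (𝒜 := 𝒜) q b) : IsFreeFamily (𝒜 := 𝒜) q (e ∘ b) where
  indep c hc := hb.indep c (e.injective (by
    have h := Finsupp.apply_linearCombination R e.toLinearMap b c
    rw [map_zero, ← LinearEquiv.coe_coe, h]
    exact hc))
  span p _ hp x := by
    obtain ⟨s, hs, hsx⟩ := hb.span p hp (e.symm x)
    refine ⟨s, hs, ?_⟩
    have h := Submodule.mem_map_of_mem (f := e.toLinearMap) hsx
    rw [Submodule.map_span, ← Set.range_comp] at h
    simpa using h

variable (p : Ideal R) [p.IsPrime] {Z : Type u} [AddCommGroup Z] [Module (Localization.AtPrime p) Z]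
variable (m : N →+ Z)

local notation "L" => Localization.AtPrime p
local notation "al" => algebraMap R (Localization.AtPrime p)

/-- `m` exhibits `Z` as the localisation of `N` at `p`. -/
structure IsLocMap : Prop where
  map_smul : ∀ (r : R) e, m (r • e) = al r • m e
  surj : ∀ z, ∃ e, ∃ s : p.primeCompl, al (s : R) • z = m e
  ker : ∀ e, m e = 0 → ∃ s : p.primeCompl, (s : R) • e = 0

variable {m}

theorem IsLocMap.smul_eq_zero (hm : IsLocMap p m) (hqN : ∀ r ∈ q, ∀ e : N, r • e = 0)
    {l : L} (hl : l ∈ q.map al) (z : Z) : l • z = 0 := by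
  have key : q.map al ≤ Module.annihilator L Z := by
    rw [Ideal.map_le_iff_le_comap]
    intro r hr
    rw [Ideal.mem_comap, Module.mem_annihilator]
    intro z
    obtain ⟨e, s, hs⟩ := hm.surj z
    refine (IsLocalization.map_units L s).smul_left_cancel.mp ?_
    rw [smul_zero, smul_comm, hs, ← hm.map_smul, hqN r hr, map_zero]
  exact Module.mem_annihilator.1 (key hl) z

theorem nonempty_equiv_finsupp [q.IsPrime] (hqp : q ≤ p) (hqN : ∀ r ∈ q, ∀ e : N, r • e = 0)
    (hq : ∀ g, ∀ x ∈ 𝒜 g, x ∈ p → x ∈ q) (hb : IsFreeFamily (𝒜 := 𝒜) q b) (hm : IsLocMap p m) :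
    Nonempty (Z ≃ₗ[L] (κ →₀ (L ⧸ q.map al))) := by
  classical
  let J := q.map al
  let Φ : (κ →₀ L) →ₗ[L] Z := Finsupp.linearCombination L (m ∘ b)
  have hmc : ∀ a : κ →₀ R, m (Finsupp.linearCombination R b a) = Φ (a.mapRange al (map_zero _)) := by
    intro a
    induction a using Finsupp.induction_linear with
    | zero => simp
    | add f g hf hg => rw [map_add, map_add, hf, hg, Finsupp.mapRange_add (map_add al), map_add]
    | single k r => simp [Φ, hm.map_smul]
  have hsurj : Function.Surjective Φ := fun z => by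
    obtain ⟨e, s, hs⟩ := hm.surj z
    obtain ⟨t, ht, hte⟩ := hb.span p hq e
    rw [Finsupp.mem_span_range_iff_exists_finsupp] at hte
    obtain ⟨a, ha⟩ := hte
    have hu : IsUnit (al (t * s.1)) := IsLocalization.map_units L ⟨t * s.1, p.primeCompl.mul_mem ht s.2⟩
    refine ⟨(hu.unit⁻¹ : Lˣ) • a.mapRange al (map_zero _), ?_⟩
    rw [LinearMap.map_smul_of_tower, ← hmc, Finsupp.linearCombination_apply, ha, hm.map_smul, ← hs, ← mul_smul,
      ← map_mul, inv_smul_eq_iff]
    rfl
  let ψ : (κ →₀ L) →ₗ[L] (κ →₀ (L ⧸ J)) := Finsupp.mapRange.linearMap J.mkQ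
  have hψ : Function.Surjective ψ := Finsupp.mapRange_surjective _ (map_zero _) (Submodule.mkQ_surjective J)
  have hker : LinearMap.ker Φ = LinearMap.ker ψ := by
    ext c
    have h2 : c ∈ LinearMap.ker ψ ↔ ∀ k, c k ∈ J := by
      rw [LinearMap.mem_ker, Finsupp.ext_iff]
      exact forall_congr' fun k => Submodule.Quotient.mk_eq_zero J
    rw [h2, LinearMap.mem_ker]
    constructor
    · intro hc k
      obtain ⟨d, hd⟩ := IsLocalization.exist_integer_multiples p.primeCompl c.support c
      choose a ha using hd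
      let a' : κ →₀ R := Finsupp.onFinset c.support
        (fun k => if h : k ∈ c.support then a k h else 0) (fun k hk => by by_contra h; simp [h] at hk)
      have ha' : a'.mapRange al (map_zero _) = al (d : R) • c := by
        ext k
        rw [Finsupp.mapRange_apply, Finsupp.onFinset_apply, Finsupp.smul_apply, smul_eq_mul]
        split_ifs with h
        · rw [ha k h, Algebra.smul_def]
        · rw [Finsupp.notMem_support_iff.1 h, map_zero, mul_zero]
      have h0 : m (Finsupp.linearCombination R b a') = 0 := by rw [hmc, ha', map_smul, hc, smul_zero]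
      obtain ⟨t, ht⟩ := hm.ker _ h0
      rw [← map_smul] at ht
      have h1 := hb.indep _ ht k
      rw [Finsupp.smul_apply, smul_eq_mul] at h1
      have h3 : al (d : R) * c k ∈ J := by
        have := congrArg (fun f => f k) ha'
        simp only [Finsupp.mapRange_apply, Finsupp.smul_apply, smul_eq_mul] at this
        rw [← this]
        exact Ideal.mem_map_of_mem al ((Ideal.IsPrime.mem_or_mem ‹q.IsPrime› h1).resolve_left fun h => t.2 (hqp h))
      exact (Ideal.unit_mul_mem_iff_mem J (IsLocalization.map_units L d)).1 h3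
    · intro hc
      rw [Finsupp.linearCombination_apply]
      exact Finset.sum_eq_zero fun k _ => hm.smul_eq_zero p hqN (hc k) _
  exact ⟨((Φ.quotKerEquivOfSurjective hsurj).symm.trans (Submodule.quotEquivOfEq _ _ hker)).trans
    (ψ.quotKerEquivOfSurjective hψ)⟩

/-- `Ext` localises. -/
theorem isLocMap_ext [IsNoetherianRing R] (A B : ModuleCat.{u} R) [Module.Finite R A] (i : ℕ) :
    IsLocMap p ((ModuleCat.localizedModuleFunctor.{u} p.primeCompl).mapExtAddHom A B i) where
  map_smul r e := by
    simp only [Functor.mapExtAddHom_coe]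
    rw [Abelian.Ext.smul_eq_comp_mk₀, Abelian.Ext.mapExactFunctor_comp, Abelian.Ext.mapExactFunctor_mk₀,
      H3CAlg.localizedModuleMap_smul_id, ← Abelian.Ext.smul_eq_comp_mk₀]
  surj z := (H3CAlg.ext_localization p.primeCompl B i A inferInstance).1 z
  ker e he := (H3CAlg.ext_localization p.primeCompl B i A inferInstance).2 e he

end Groth.Agent.H4Gr
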