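import Groth.Agent.H4Gr.Cofree
import Groth.Prelude.Def_Wider
import Mathlib.Algebra.Category.ModuleCat.EnoughInjectives
import Mathlib.Algebra.Category.ModuleCat.Injective
import Mathlib.Order.Zorn

/-!
# *injective graded modules, *essential extensions, *injective envelopes
-/

set_option autoImplicit false
set_option linter.unusedSectionVars false

universe u

open DirectSum

namespace Groth.Agent.H4Gr

variable {ι : Type} [AddCommGroup ι] [DecidableEq ι]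
variable {R : Type u} [CommRing R] {𝒜 : ι → AddSubgroup R} [GradedRing 𝒜]

section Essential

variable {N : Type u} [AddCommGroup N] [Module R N] {𝒩 : ι → AddSubgroup N} [Decomposition 𝒩]
  [SetLike.GradedSMul 𝒜 𝒩]

variable (𝒜) in
include 𝒜 in
theorem exists_smul_mem_of_homogeneous {P : Submodule R N}
    (hP : ∀ Q : Submodule R N, Q.IsHomogeneous 𝒩 → Q ≠ ⊥ → Q ⊓ P ≠ ⊥) (hPh : P.IsHomogeneous 𝒩)
    {g : ι} {x : N} (hx : x ∈ 𝒩 g) (hx0 : x ≠ 0) :
    ∃ i, ∃ r ∈ 𝒜 i, r • x ∈ P ∧ r • x ≠ 0 := by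
  have hsp : (Submodule.span R {x}).IsHomogeneous 𝒩 :=
    isHomogeneous_span 𝒜 fun y hy => ⟨g, by rw [Set.mem_singleton_iff.1 hy]; exact hx⟩
  obtain ⟨j, z, hz, hzP, hz0⟩ := exists_homogeneous_ne_zero (isHomogeneous_inf hsp hPh)
    (hP _ hsp (by simpa [Submodule.span_singleton_eq_bot] using hx0))
  obtain ⟨c, rfl⟩ := Submodule.mem_span_singleton.1 hzP.1
  have key : ∀ c : R, proj 𝒩 j (c • x) = proj 𝒜 (j - g) c • x := by
    intro c
    induction c using induction 𝒜 with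
    | zero => simp
    | hom i r hr =>
      rw [proj_smul hr, proj_of_mem hr, proj_of_mem hx]
      by_cases e : i = j - g
      · rw [if_pos e, if_pos (by rw [e]; abel)]
      · rw [if_neg e, if_neg (fun e' => e (by rw [e']; abel)), smul_zero, zero_smul]
    | add a b ha hb => rw [add_smul, map_add, map_add, ha, hb, add_smul]
  have hc : proj 𝒜 (j - g) c • x = c • x := by rw [← key, proj_same hz]
  exact ⟨j - g, _, proj_mem 𝒜 _ c, by rw [hc]; exact hzP.2, by rw [hc]; exact hz0⟩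

variable (𝒜) in
include 𝒜 in
/-- Essentiality against homogeneous submodules implies essentiality. -/
theorem exists_smul_mem {P : Submodule R N}
    (hP : ∀ Q : Submodule R N, Q.IsHomogeneous 𝒩 → Q ≠ ⊥ → Q ⊓ P ≠ ⊥) (hPh : P.IsHomogeneous 𝒩)
    {x : N} (hx : x ≠ 0) : ∃ i, ∃ r ∈ 𝒜 i, r • x ∈ P ∧ r • x ≠ 0 := by
  classical
  suffices H : ∀ (n : ℕ) (x : N) (s : Finset ι), s.card ≤ n → (∀ g ∉ s, proj 𝒩 g x = 0) → x ≠ 0 →
      ∃ i, ∃ r ∈ 𝒜 i, r • x ∈ P ∧ r • x ≠ 0 by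
    obtain ⟨s, -, hs⟩ := exists_sum_proj 𝒩 x
    exact H s.card x s le_rfl hs hx
  intro n
  induction n with
  | zero =>
    intro x s hs hsupp hx
    obtain rfl : s = ∅ := by simpa using hs
    exact absurd (ext_proj 𝒩 fun g => by rw [map_zero, hsupp g (by simp)]) hx
  | succ n ih =>
    intro x s hs hsupp hx
    obtain ⟨a, ha⟩ : ∃ a, proj 𝒩 a x ≠ 0 := by
      by_contra h
      push Not at h
      exact hx (ext_proj 𝒩 fun g => by rw [map_zero, h g])
    have has : a ∈ s := by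
      by_contra h
      exact ha (hsupp a h)
    obtain ⟨i, r, hr, hrP, hr0⟩ := exists_smul_mem_of_homogeneous 𝒜 hP hPh (proj_mem 𝒩 a x) ha
    let y := r • x - r • proj 𝒩 a x
    by_cases hy : y = 0
    · have : r • x = r • proj 𝒩 a x := sub_eq_zero.1 hy
      exact ⟨i, r, hr, this ▸ hrP, this ▸ hr0⟩
    have hya : proj 𝒩 (i + a) y = 0 := by
      simp only [y, map_sub, proj_smul hr, add_sub_cancel_left, proj_same (proj_mem 𝒩 a x), sub_self]
    obtain ⟨i', r', hr', hyP, hy0⟩ := ih y ((s.erase a).image (i + ·))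
      (Finset.card_image_le.trans (by rw [Finset.card_erase_of_mem has]; omega))
      (fun g hg => by
        by_cases e : g = i + a
        · rw [e]; exact hya
        · simp only [y, map_sub, proj_smul hr]
          rw [proj_ne (proj_mem 𝒩 a x) (fun e' => e (by rw [e']; abel)), smul_zero, sub_zero,
            hsupp (g - i) (fun hs' => hg (Finset.mem_image.2 ⟨g - i, Finset.mem_erase.2
              ⟨fun e' => e (by rw [← e']; abel), hs'⟩, by abel⟩)), smul_zero]) hy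
    have heq : (r' * r) • x = r' • (r • proj 𝒩 a x) + r' • y := by
      simp only [y, smul_sub, smul_smul]; abel
    refine ⟨i' + i, r' * r, SetLike.mul_mem_graded hr' hr, heq ▸ add_mem (P.smul_mem r' hrP) hyP,
      fun h0 => hy0 (ext_proj 𝒩 fun g => ?_)⟩
    rw [map_zero]
    by_cases e : g = i' + (i + a)
    · rw [e, proj_smul hr', add_sub_cancel_left, hya, smul_zero]
    · have := congrArg (proj 𝒩 g) (heq.symm.trans h0)
      rwa [map_add, map_zero, proj_ne (smul_mem 𝒜 hr' (smul_mem 𝒜 hr (proj_mem 𝒩 a x)))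
        (fun e' => e e'.symm), zero_add] at this

variable {M : Type u} [AddCommGroup M] [Module R M] {ℳ : ι → AddSubgroup M} [Decomposition ℳ]

variable (𝒜) in
include 𝒜 in
/-- A *essential extension is an essential extension. -/
theorem isEssentialInj_of_isStarEss {f : M →ₗ[R] N} (hf : GrLC.IsStarEss ℳ 𝒩 f) :
    InjHull.IsEssentialInj f := by
  have hh : (LinearMap.range f).IsHomogeneous 𝒩 := isHomogeneous_range (isGrHomDeg_zero_iff.2 hf.grHom)
  refine ⟨hf.injective, fun Q hQ h => ?_⟩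
  obtain ⟨x, hx, hx0⟩ := Submodule.exists_mem_ne_zero_of_ne_bot hQ
  obtain ⟨i, r, -, hrP, hr0⟩ := exists_smul_mem 𝒜 hf.essential hh hx0
  exact hr0 ((Submodule.mem_bot R).1 (h ▸ ⟨Q.smul_mem r hx, hrP⟩))

end Essential

section StarInj

variable {I : Type u} [AddCommGroup I] [Module R I] {ℐ : ι → AddSubgroup I} [Decomposition ℐ]
  [SetLike.GradedSMul 𝒜 ℐ]
variable {A : Type u} [AddCommGroup A] [Module R A] {𝒢 : ι → AddSubgroup A} [Decomposition 𝒢]
  [SetLike.GradedSMul 𝒜 𝒢]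
variable {B : Type u} [AddCommGroup B] [Module R B] {ℬ : ι → AddSubgroup B} [Decomposition ℬ]
  [SetLike.GradedSMul 𝒜 ℬ]

theorem extend (hI : GrLC.IsStarInj 𝒜 ℐ) {f : A →ₗ[R] B} (hf : GrLC.IsGrHom 𝒢 ℬ f)
    (hfi : Function.Injective f) {g : A →ₗ[R] I} (hg : GrLC.IsGrHom 𝒢 ℐ g) :
    ∃ h : B →ₗ[R] I, GrLC.IsGrHom ℬ ℐ h ∧ h ∘ₗ f = g :=
  hI (GrLC.GMod.of 𝒜 A 𝒢) (GrLC.GMod.of 𝒜 B ℬ) f hf hfi g hg

/-- Extension for maps of arbitrary degrees. -/
theorem extend_deg (hI : GrLC.IsStarInj 𝒜 ℐ) {f : A →ₗ[R] B} {e : ι} (hf : GrLC.IsGrHomDeg 𝒢 ℬ f e)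
    (hfi : Function.Injective f) {g : A →ₗ[R] I} {d : ι} (hg : GrLC.IsGrHomDeg 𝒢 ℐ g d) :
    ∃ h : B →ₗ[R] I, GrLC.IsGrHomDeg ℬ ℐ h (d - e) ∧ h ∘ₗ f = g := by
  obtain ⟨h, hh, hhf⟩ := hI (shiftMod 𝒜 𝒢 (-d)) (shiftMod 𝒜 ℬ (e - d)) f
    (fun j m hm => by
      show f m ∈ ℬ (j + (e - d))
      rw [show j + (e - d) = j + -d + e by abel]
      exact hf _ m hm) hfi g (fun j m hm => by
      have := hg _ m (show m ∈ 𝒢 (j + -d) from hm)
      rwa [neg_add_cancel_right] at this)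
  refine ⟨h, fun j m hm => hh (j + (d - e)) m ?_, hhf⟩
  show m ∈ ℬ (j + (d - e) + (e - d))
  rwa [show j + (d - e) + (e - d) = j by abel]

theorem isStarInj_of_retraction (hI : GrLC.IsStarInj 𝒜 ℐ) (i : A →ₗ[R] I) (r : I →ₗ[R] A)
    (hi : GrLC.IsGrHom 𝒢 ℐ i) (hr : GrLC.IsGrHom ℐ 𝒢 r) (hri : r ∘ₗ i = LinearMap.id) :
    GrLC.IsStarInj 𝒜 𝒢 := by
  intro X Y f hf hfi g hg
  obtain ⟨h, hh, hhf⟩ := hI X Y f hf hfi (i ∘ₗ g) (isGrHom_comp hi hg)
  exact ⟨r ∘ₗ h, isGrHom_comp hr hh, by rw [LinearMap.comp_assoc, hhf, ← LinearMap.comp_assoc, hri, LinearMap.id_comp]⟩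

theorem exists_retraction (hA : GrLC.IsStarInj 𝒜 𝒢) {i : A →ₗ[R] I} (hi : GrLC.IsGrHom 𝒢 ℐ i)
    (hii : Function.Injective i) : ∃ r : I →ₗ[R] A, GrLC.IsGrHom ℐ 𝒢 r ∧ r ∘ₗ i = LinearMap.id :=
  extend hA hi hii isGrHom_id

theorem injective_of_comp_injective {f : A →ₗ[R] B} (hf : GrLC.IsStarEss 𝒢 ℬ f) {h : B →ₗ[R] I} {d : ι}
    (hh : GrLC.IsGrHomDeg ℬ ℐ h d) (hhf : Function.Injective (h ∘ₗ f)) : Function.Injective h := by
  rw [← LinearMap.ker_eq_bot]
  by_contra hne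
  refine hf.essential _ (isHomogeneous_ker hh) hne (eq_bot_iff.2 ?_)
  rintro _ ⟨hx, y, rfl⟩
  have : y = 0 := hhf (by simpa using hx)
  simp [this]

/-- A *injective module has no proper *essential extension. -/
theorem surjective_of_isStarEss (hA : GrLC.IsStarInj 𝒜 𝒢) {f : A →ₗ[R] B}
    (hf : GrLC.IsStarEss 𝒢 ℬ f) : Function.Surjective f := by
  obtain ⟨r, hr, hrf⟩ := exists_retraction hA hf.grHom hf.injective
  have := injective_of_comp_injective hf (isGrHomDeg_zero_iff.2 hr) (by rw [hrf]; exact fun _ _ h => h)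
  intro b
  exact ⟨r b, this (LinearMap.congr_fun hrf (r b))⟩

end StarInj

section Zorn

variable {N : Type u} [AddCommGroup N] [Module R N] {𝒩 : ι → AddSubgroup N} [Decomposition 𝒩]
  [SetLike.GradedSMul 𝒜 𝒩]

theorem isHomogeneous_sSup {c : Set (Submodule R N)} (hc : ∀ p ∈ c, p.IsHomogeneous 𝒩) :
    (sSup c).IsHomogeneous 𝒩 := by
  rw [sSup_eq_iSup']
  exact isHomogeneous_iSup fun p => hc p p.2

/-- A maximal homogeneous submodule disjoint from `p`. -/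
theorem exists_maximal_disjoint (p : Submodule R N) :
    ∃ C : Submodule R N, C.IsHomogeneous 𝒩 ∧ C ⊓ p = ⊥ ∧
      ∀ D : Submodule R N, D.IsHomogeneous 𝒩 → D ⊓ p = ⊥ → C ≤ D → D = C := by
  obtain ⟨C, -, hC, hmax⟩ := zorn_le_nonempty₀ {C : Submodule R N | C.IsHomogeneous 𝒩 ∧ C ⊓ p = ⊥}
    (fun c hc hchain y hy => ⟨sSup c, ⟨isHomogeneous_sSup fun q hq => (hc hq).1, eq_bot_iff.2 fun x hx => by
      obtain ⟨q, hq, hxq⟩ := (Submodule.mem_sSup_of_directed ⟨y, hy⟩ hchain.directedOn).1 hx.1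
      exact (hc hq).2.le ⟨hxq, hx.2⟩⟩, fun z hz => le_sSup hz⟩) ⊥ ⟨isHomogeneous_bot, bot_inf_eq p⟩
  exact ⟨C, hC.1, hC.2, fun D hD hDp hle => le_antisymm (hmax ⟨hD, hDp⟩ hle) hle⟩

variable (𝒜) in
/-- Dividing by a maximal disjoint submodule gives a *essential extension. -/
theorem exists_isStarEss_quotient {M : Type u} [AddCommGroup M] [Module R M] {ℳ : ι → AddSubgroup M}
    [Decomposition ℳ]
    {f : M →ₗ[R] N} (hf : GrLC.IsGrHom ℳ 𝒩 f) (hfi : Function.Injective f) :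
    ∃ (C : Submodule R N) (hC : C.IsHomogeneous 𝒩),
      GrLC.IsStarEss ℳ (quotMod 𝒜 C hC).gr (quotProj 𝒜 C hC ∘ₗ f) := by
  obtain ⟨C, hC, hCp, hmax⟩ := exists_maximal_disjoint (𝒩 := 𝒩) (LinearMap.range f)
  refine ⟨C, hC, ?_, isGrHom_comp (isGrHom_quotProj C hC) hf, fun P hP hP0 h => hP0 ?_⟩
  · rw [← LinearMap.ker_eq_bot, LinearMap.ker_eq_bot']
    intro m hm
    have : f m ∈ C ⊓ LinearMap.range f := ⟨(Submodule.Quotient.mk_eq_zero C).1 hm, m, rfl⟩
    rw [hCp, Submodule.mem_bot] at this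
    exact hfi (by rw [this, map_zero])
  let π := quotProj 𝒜 C hC
  let D := P.comap π
  have hD : D.IsHomogeneous 𝒩 :=
    isHomogeneous_comap (isGrHomDeg_zero_iff.2 (isGrHom_quotProj C hC)) hP
  have hCD : C ≤ D := fun x hx => by
    show π x ∈ P
    rw [show π x = 0 from (Submodule.Quotient.mk_eq_zero C).2 hx]
    exact zero_mem P
  have hDf : D ⊓ LinearMap.range f = ⊥ := by
    refine eq_bot_iff.2 ?_
    rintro _ ⟨hx, m, rfl⟩
    have h' : π (f m) ∈ P ⊓ LinearMap.range (π ∘ₗ f) := ⟨hx, m, rfl⟩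
    rw [h, Submodule.mem_bot] at h'
    have : f m ∈ C ⊓ LinearMap.range f := ⟨(Submodule.Quotient.mk_eq_zero C).1 h', m, rfl⟩
    rwa [hCp] at this
  have hsurj : Function.Surjective π := C.mkQ_surjective
  rw [← Submodule.map_comap_eq_of_surjective hsurj P, show P.comap π = C from hmax D hD hDf hCD]
  exact Submodule.mkQ_map_self C

end Zorn

section Hull

variable {M : Type u} [AddCommGroup M] [Module R M] {ℳ : ι → AddSubgroup M} [Decomposition ℳ]
  [SetLike.GradedSMul 𝒜 ℳ]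

theorem exists_injective_module (M : Type u) [AddCommGroup M] [Module R M] :
    ∃ (I : Type u) (_ : AddCommGroup I) (_ : Module R I), Module.Injective R I ∧
      ∃ e : M →ₗ[R] I, Function.Injective e := by
  obtain ⟨⟨J, hJ, f, hf⟩⟩ := CategoryTheory.EnoughInjectives.presentation (ModuleCat.of R M)
  exact ⟨J, inferInstance, inferInstance, Module.injective_module_of_injective_object R J,
    f.hom, (ModuleCat.mono_iff_injective f).mp hf⟩

/-- *injective iff no proper *essential extension. -/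
theorem isStarInj_iff : GrLC.IsStarInj 𝒜 ℳ ↔
    ∀ (N : GrLC.GMod.{u} 𝒜) (f : M →ₗ[R] N.carrier), GrLC.IsStarEss ℳ N.gr f → Function.Surjective f := by
  refine ⟨fun h N f hf => surjective_of_isStarEss h hf, fun h => ?_⟩
  obtain ⟨I, _, _, hI, e, he⟩ := exists_injective_module (R := R) M
  let f : M →ₗ[R] (cofreeMod 𝒜 I).carrier := toCofree 𝒜 I ℳ e
  obtain ⟨C, hC, hess⟩ := exists_isStarEss_quotient 𝒜 (𝒩 := (cofreeMod 𝒜 I).gr) (f := f)
    (isGrHom_toCofree e) (toCofree_injective he)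
  let φ : M ≃ₗ[R] (quotMod 𝒜 C hC).carrier :=
    LinearEquiv.ofBijective _ ⟨hess.injective, h _ _ hess⟩
  refine isStarInj_of_retraction (isStarInj_cofree 𝒜 I) f (φ.symm.toLinearMap ∘ₗ quotProj 𝒜 C hC) (isGrHom_toCofree e)
    (isGrHom_comp (isGrHom_symm (e := φ) hess.grHom) (isGrHom_quotProj C hC)) ?_
  exact LinearMap.ext fun m => φ.symm_apply_apply m

/-- *injective envelopes exist, inside any injective module containing `M`. -/
theorem exists_isStarInjHull (I : Type u) [AddCommGroup I] [Module R I] [Module.Injective R I]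
    (e : M →ₗ[R] I) (he : Function.Injective e) :
    ∃ (E : GrLC.GMod.{u} 𝒜) (f : M →ₗ[R] E.carrier), GrLC.IsStarInjHull 𝒜 ℳ E.gr f ∧
      ∃ j : E.carrier →ₗ[R] I, Function.Injective j ∧ j ∘ₗ f = e := by
  let G := cofreeMod 𝒜 I
  let f₀ : M →ₗ[R] G.carrier := toCofree 𝒜 I ℳ e
  have hf₀ : GrLC.IsGrHom ℳ G.gr f₀ := isGrHom_toCofree e
  let P := LinearMap.range f₀
  have hP : P.IsHomogeneous G.gr := isHomogeneous_range (isGrHomDeg_zero_iff.2 hf₀)
  let S : Set (Submodule R G.carrier) := {X | X.IsHomogeneous G.gr ∧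
    ∀ Q : Submodule R G.carrier, Q.IsHomogeneous G.gr → Q ≤ X → Q ≠ ⊥ → Q ⊓ P ≠ ⊥}
  obtain ⟨X, hPX, ⟨hX, hXe⟩, hmax⟩ := zorn_le_nonempty₀ S
    (fun c hc hchain y hy => ⟨sSup c, ⟨isHomogeneous_sSup fun q hq => (hc hq).1, fun Q hQ hle hQ0 => by
      obtain ⟨g, z, hz, hzQ, hz0⟩ := exists_homogeneous_ne_zero hQ hQ0
      obtain ⟨q, hq, hzq⟩ := (Submodule.mem_sSup_of_directed ⟨y, hy⟩ hchain.directedOn).1 (hle hzQ)
      intro h
      refine (hc hq).2 (Submodule.span R {z}) (isHomogeneous_span 𝒜 fun w hw => ⟨g, by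
        rw [Set.mem_singleton_iff.1 hw]; exact hz⟩) ((Submodule.span_singleton_le_iff_mem _ _).2 hzq)
        (by simpa [Submodule.span_singleton_eq_bot] using hz0) (eq_bot_iff.2 (h ▸ ?_))
      exact inf_le_inf_right P ((Submodule.span_singleton_le_iff_mem _ _).2 hzQ)⟩,
      fun z hz => le_sSup hz⟩) P ⟨hP, fun Q _ hle hQ0 h => hQ0 (by rwa [inf_eq_left.2 hle] at h)⟩
  let E := subMod 𝒜 X hX
  let f : M →ₗ[R] E.carrier := f₀.codRestrict X fun m => hPX ⟨m, rfl⟩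
  let J : E.carrier →ₗ[R] G.carrier := subIncl 𝒜 X hX
  have hJi : Function.Injective J := Subtype.val_injective
  have hsub : GrLC.IsGrHom E.gr G.gr J := isGrHom_subIncl X hX
  have hEss : GrLC.IsStarEss ℳ E.gr f := by
    refine ⟨fun a b h => toCofree_injective he (congrArg Subtype.val h), fun g m hm => hf₀ g m hm,
      fun Q hQ hQ0 h => ?_⟩
    refine hXe (Q.map J) (isHomogeneous_map (isGrHomDeg_zero_iff.2 hsub) hQ)
      (by rintro _ ⟨w, -, rfl⟩; exact w.2)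
      (fun e => hQ0 (Submodule.map_injective_of_injective hJi (by rw [e, Submodule.map_bot])))
      (eq_bot_iff.2 ?_)
    rintro _ ⟨⟨w, hw, rfl⟩, m, hm⟩
    have : w ∈ Q ⊓ LinearMap.range f := ⟨hw, m, Subtype.ext hm⟩
    rw [h, Submodule.mem_bot] at this
    simp [this]
  have hEinj : GrLC.IsStarInj 𝒜 E.gr := by
    rw [isStarInj_iff]
    intro N φ hφ
    obtain ⟨h, hh, hhφ⟩ := extend (A := E.carrier) (B := N.carrier) (isStarInj_cofree 𝒜 I) hφ.grHom
      hφ.injective hsub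
    have hhi : Function.Injective h := injective_of_comp_injective hφ (isGrHomDeg_zero_iff.2 hh)
      (by rw [hhφ]; exact hJi)
    have hXh : X ≤ LinearMap.range h := fun x hx =>
      ⟨φ ⟨x, hx⟩, LinearMap.congr_fun hhφ ⟨x, hx⟩⟩
    have hS : LinearMap.range h ∈ S := by
      refine ⟨isHomogeneous_range (isGrHomDeg_zero_iff.2 hh), fun Q hQ hle hQ0 h0 => ?_⟩
      have hQ'0 : Q.comap h ≠ ⊥ := fun e => hQ0 (by
        rw [← Submodule.map_comap_eq_of_le hle, e, Submodule.map_bot])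
      have hQ' := isHomogeneous_comap (isGrHomDeg_zero_iff.2 hh) hQ
      obtain ⟨y, ⟨hy, w, hw⟩, hy0⟩ := Submodule.exists_mem_ne_zero_of_ne_bot (hφ.essential _ hQ' hQ'0)
      subst hw
      have hhw : h (φ w) = J w := LinearMap.congr_fun hhφ w
      have hw0 : J w ≠ 0 := fun e => hy0 (by rw [hJi (e.trans (map_zero J).symm), map_zero])
      have hsp : Q ⊓ X ≠ ⊥ := fun e => hw0 ((Submodule.mem_bot R).1 (e.le ⟨hhw ▸ hy, (show J w ∈ X from w.2)⟩))
      exact hXe (Q ⊓ X) (isHomogeneous_inf hQ hX) inf_le_right hsp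
        (eq_bot_iff.2 (h0 ▸ inf_le_inf_right P inf_le_left))
    have hle : LinearMap.range h ≤ X := hmax hS hXh
    intro n
    exact ⟨⟨h n, hle ⟨n, rfl⟩⟩, hhi (LinearMap.congr_fun hhφ ⟨h n, hle ⟨n, rfl⟩⟩)⟩
  refine ⟨E, f, ⟨hEss, hEinj⟩, sumHom 𝒜 I ∘ₗ J, ?_, ?_⟩
  · rw [← LinearMap.ker_eq_bot]
    by_contra hne
    refine (isEssentialInj_of_isStarEss 𝒜 hEss).2 _ hne (eq_bot_iff.2 ?_)
    rintro _ ⟨hx, m, rfl⟩
    have : e m = 0 := (LinearMap.congr_fun (sumHom_comp_toCofree (ℳ := ℳ) e) m).symm.trans hx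
    have : m = 0 := he (by rw [this, map_zero])
    simp [this]
  · exact LinearMap.ext fun m => LinearMap.congr_fun (sumHom_comp_toCofree (ℳ := ℳ) e) m

/-- Uniqueness of *injective envelopes. -/
theorem isStarInjHull_unique {E₁ : Type u} [AddCommGroup E₁] [Module R E₁] {𝓔₁ : ι → AddSubgroup E₁}
    [Decomposition 𝓔₁] [SetLike.GradedSMul 𝒜 𝓔₁] {E₂ : Type u} [AddCommGroup E₂] [Module R E₂]
    {𝓔₂ : ι → AddSubgroup E₂} [Decomposition 𝓔₂] [SetLike.GradedSMul 𝒜 𝓔₂] {f₁ : M →ₗ[R] E₁}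
    {f₂ : M →ₗ[R] E₂} (h₁ : GrLC.IsStarInjHull 𝒜 ℳ 𝓔₁ f₁) (h₂ : GrLC.IsStarInjHull 𝒜 ℳ 𝓔₂ f₂) :
    ∃ β : E₁ ≃ₗ[R] E₂, GrLC.IsGrHom 𝓔₁ 𝓔₂ β.toLinearMap ∧ β.toLinearMap ∘ₗ f₁ = f₂ := by
  obtain ⟨β, hβ, hβf⟩ := extend h₂.starInj h₁.grHom h₁.injective h₂.grHom
  have hinj : Function.Injective β := injective_of_comp_injective h₁.toIsStarEss
    (isGrHomDeg_zero_iff.2 hβ) (by rw [hβf]; exact h₂.injective)
  have hess : GrLC.IsStarEss 𝓔₁ 𝓔₂ β := ⟨hinj, hβ, fun P hP hP0 h => h₂.essential P hP hP0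
    (eq_bot_iff.2 (h ▸ inf_le_inf_left P (by rw [← hβf]; exact LinearMap.range_comp_le_range _ _)))⟩
  exact ⟨LinearEquiv.ofBijective β ⟨hinj, surjective_of_isStarEss h₁.starInj hess⟩, hβ, hβf⟩

/-- Every graded module has a *injective resolution. -/
theorem nonempty_starInjRes : Nonempty (GrLC.StarInjRes 𝒜 ℳ) := by
  have enough : ∀ X : GrLC.GMod.{u} 𝒜, ∃ (Y : GrLC.GMod.{u} 𝒜) (f : X.carrier →ₗ[R] Y.carrier),
      GrLC.IsStarInj 𝒜 Y.gr ∧ GrLC.IsGrHom X.gr Y.gr f ∧ Function.Injective f := fun X => by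
    obtain ⟨I, _, _, hI, e, he⟩ := exists_injective_module (R := R) X.carrier
    exact ⟨cofreeMod 𝒜 I, toCofree 𝒜 I X.gr e, isStarInj_cofree 𝒜 I, isGrHom_toCofree e, toCofree_injective he⟩
  choose nxt emb hinj hgr hinj' using enough
  let St := Σ' (X : GrLC.GMod.{u} 𝒜) (Y : GrLC.GMod.{u} 𝒜), {f : X.carrier →ₗ[R] Y.carrier // GrLC.IsGrHom X.gr Y.gr f}
  let coker : St → GrLC.GMod.{u} 𝒜 := fun s =>
    quotMod 𝒜 (LinearMap.range s.2.2.1) (isHomogeneous_range (isGrHomDeg_zero_iff.2 s.2.2.2))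
  let step : St → St := fun s => ⟨s.2.1, nxt (coker s),
    ⟨(emb (coker s)) ∘ₗ (LinearMap.range s.2.2.1).mkQ, isGrHom_comp (hgr _) (isGrHom_mkQ _)⟩⟩
  let s0 : St := ⟨GrLC.GMod.of 𝒜 M ℳ, nxt (GrLC.GMod.of 𝒜 M ℳ), ⟨emb _, hgr _⟩⟩
  let seq : ℕ → St := fun n => n.rec s0 fun _ s => step s
  have hker : ∀ s : St, LinearMap.ker (step s).2.2.1 = LinearMap.range s.2.2.1 := fun s => by
    show LinearMap.ker (emb (coker s) ∘ₗ (LinearMap.range s.2.2.1).mkQ) = _
    rw [LinearMap.ker_comp, LinearMap.ker_eq_bot.2 (hinj' (coker s)), Submodule.comap_bot, Submodule.ker_mkQ]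
  exact ⟨{ X := fun n => (seq n).2.1
           d := fun n => (seq (n + 1)).2.2.1
           ε := emb (GrLC.GMod.of 𝒜 M ℳ)
           d_grHom := fun n => (seq (n + 1)).2.2.2
           ε_grHom := hgr (GrLC.GMod.of 𝒜 M ℳ)
           ε_injective := hinj' _
           exact_zero := hker s0
           exact_succ := fun n => hker (seq (n + 1))
           starInj := fun n => by cases n <;> exact hinj _ }⟩

end Hull

end Groth.Agent.H4Gr
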