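import Groth.Agent.H4Gr.Torsion

/-!
# The Koszul complex on degree-one elements and regularity
-/

set_option autoImplicit false
set_option linter.unusedSectionVars false
set_option linter.style.haveILetI false

universe u

open DirectSum

namespace Groth.Agent.H4Gr

variable {R : Type u} [CommRing R] [IsNoetherianRing R] {𝒜 : ℤ → AddSubgroup R} [GradedRing 𝒜]

variable (𝒜) in
/-- A complex of graded modules, homologically indexed. -/
structure Kx : Type (u + 1) where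
  /-- the terms -/
  X : ℕ → GrLC.GMod.{u} 𝒜
  /-- the differentials -/
  d : ∀ n : ℕ, (X (n + 1)).carrier →ₗ[R] (X n).carrier
  d_grHom : ∀ n : ℕ, GrLC.IsGrHom (X (n + 1)).gr (X n).gr (d n)
  d_d : ∀ (n : ℕ) (x : (X (n + 2)).carrier), d n (d (n + 1) x) = 0

/-- Cycles. -/
def Kx.cyc (K : Kx 𝒜) : (n : ℕ) → Submodule R (K.X n).carrier
  | 0 => ⊤
  | n + 1 => LinearMap.ker (K.d n)

/-- The homology is torsion for `y`. -/
def Kx.Killed (K : Kx 𝒜) (y : R) : Prop :=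
  ∀ (n : ℕ), ∀ z ∈ K.cyc n, ∃ k : ℕ, y ^ k • z ∈ LinearMap.range (K.d n)

section Cone

variable (K : Kx 𝒜) (x : R) (hx : x ∈ 𝒜 1)

/-- The terms of the cone. -/
@[reducible]
noncomputable def coneX : ℕ → GrLC.GMod.{u} 𝒜
  | 0 => K.X 0
  | n + 1 => prodMod (K.X (n + 1)) (shiftMod 𝒜 (K.X n).gr (-1))

/-- The differential of the cone. -/
noncomputable def coneD : ∀ n : ℕ, (coneX K (n + 1)).carrier →ₗ[R] (coneX K n).carrier
  | 0 => (K.d 0).coprod (x • (LinearMap.id : (K.X 0).carrier →ₗ[R] (K.X 0).carrier))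
  | n + 1 => ((K.d (n + 1)).coprod (x • (LinearMap.id : (K.X (n + 1)).carrier →ₗ[R] (K.X (n + 1)).carrier))).prod
      (-(K.d n ∘ₗ LinearMap.snd R (K.X (n + 2)).carrier (K.X (n + 1)).carrier))

theorem coneD_zero (u : (K.X 1).carrier) (v : (K.X 0).carrier) : coneD K x 0 (u, v) = K.d 0 u + x • v := rfl

theorem coneD_succ (n : ℕ) (u : (K.X (n + 2)).carrier) (v : (K.X (n + 1)).carrier) :
    coneD K x (n + 1) (u, v) = (K.d (n + 1) u + x • v, -K.d n v) := rfl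

include hx in
theorem coneD_grHom : ∀ n : ℕ, GrLC.IsGrHom (coneX K (n + 1)).gr (coneX K n).gr (coneD K x n)
  | 0 => fun g m hm => by
    obtain ⟨u, v⟩ := m
    exact add_mem (K.d_grHom 0 g u hm.1) (by simpa using mem_of_smul_one (show v ∈ (K.X 0).gr (g + -1) from hm.2) hx)
  | n + 1 => fun g m hm => by
    obtain ⟨u, v⟩ := m
    exact ⟨add_mem (K.d_grHom (n + 1) g u hm.1)
      (by simpa using mem_of_smul_one (show v ∈ (K.X (n + 1)).gr (g + -1) from hm.2) hx),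
      show -K.d n v ∈ (K.X n).gr (g + -1) from neg_mem (K.d_grHom n (g + -1) v hm.2)⟩

/-- The cone of multiplication by a degree-one element. -/
noncomputable def Kx.cone : Kx 𝒜 where
  X := coneX K
  d := coneD K x
  d_grHom := coneD_grHom K x hx
  d_d n m := by
    cases n with
    | zero =>
      obtain ⟨(u : (K.X 2).carrier), (v : (K.X 1).carrier)⟩ := m
      show coneD K x 0 (coneD K x 1 (u, v)) = 0
      rw [coneD_succ, coneD_zero, map_add, map_smul, K.d_d, zero_add, smul_neg, add_neg_cancel]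
    | succ n =>
      obtain ⟨(u : (K.X (n + 3)).carrier), (v : (K.X (n + 2)).carrier)⟩ := m
      show coneD K x (n + 1) (coneD K x (n + 2) (u, v)) = 0
      rw [coneD_succ, coneD_succ]
      refine Prod.ext ?_ ?_
      · show K.d (n + 1) (K.d (n + 2) u + x • v) + x • -K.d (n + 1) v = 0
        rw [map_add, map_smul, K.d_d, zero_add, smul_neg, add_neg_cancel]
      · show -K.d n (-K.d (n + 1) v) = 0
        rw [map_neg, K.d_d, neg_zero, neg_zero]

theorem killed_cone_self : (K.cone x hx).Killed x := by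
  rintro (_ | n) z hz
  · refine ⟨1, ((0 : (K.X 1).carrier), z), ?_⟩
    show coneD K x 0 ((0 : (K.X 1).carrier), z) = _
    rw [coneD_zero, map_zero, zero_add, pow_one]
    rfl
  · obtain ⟨(u : (K.X (n + 1)).carrier), (v : (K.X n).carrier)⟩ := z
    refine ⟨1, ((0 : (K.X (n + 2)).carrier), u), ?_⟩
    have h : coneD K x n (u, v) = 0 := hz
    show coneD K x (n + 1) ((0 : (K.X (n + 2)).carrier), u) = x ^ 1 • (u, v)
    rw [coneD_succ, map_zero, zero_add, pow_one]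
    refine Prod.ext rfl ?_
    show -K.d n u = x • v
    cases n with
    | zero => rw [coneD_zero] at h; exact neg_eq_of_add_eq_zero_right h
    | succ n => rw [coneD_succ] at h; exact neg_eq_of_add_eq_zero_right (Prod.mk_eq_zero.1 h).1

theorem killed_cone {y : R} (hy : K.Killed y) : (K.cone x hx).Killed y := by
  rintro (_ | n) z hz
  · obtain ⟨k, w, hw⟩ := hy 0 z trivial
    refine ⟨k, (w, (0 : (K.X 0).carrier)), ?_⟩
    show coneD K x 0 (w, (0 : (K.X 0).carrier)) = _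
    rw [coneD_zero, smul_zero, add_zero, hw]
    rfl
  · obtain ⟨(u : (K.X (n + 1)).carrier), (v : (K.X n).carrier)⟩ := z
    have h : coneD K x n (u, v) = 0 := hz
    have hdu : K.d n u + x • v = 0 := by
      cases n with
      | zero => exact h
      | succ n => exact (Prod.mk_eq_zero.1 h).1
    have hv : v ∈ K.cyc n := by
      cases n with
      | zero => trivial
      | succ n => exact LinearMap.mem_ker.2 (neg_eq_zero.1 (Prod.mk_eq_zero.1 h).2)
    obtain ⟨k, v', hv'⟩ := hy n v hv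
    have hu : y ^ k • u + x • v' ∈ K.cyc (n + 1) := LinearMap.mem_ker.2 (by
      rw [map_add, map_smul, map_smul, hv', smul_comm x, ← smul_add, hdu, smul_zero])
    obtain ⟨l, u', hu'⟩ := hy (n + 1) _ hu
    refine ⟨l + k, (u', -(y ^ l • v')), ?_⟩
    show coneD K x (n + 1) (u', -(y ^ l • v')) = y ^ (l + k) • (u, v)
    rw [coneD_succ]
    refine Prod.ext ?_ ?_
    · show K.d (n + 1) u' + x • -(y ^ l • v') = y ^ (l + k) • u
      rw [hu', smul_neg, smul_add, smul_smul, ← pow_add, smul_comm x]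
      abel
    · show -K.d n (-(y ^ l • v')) = y ^ (l + k) • v
      rw [map_neg, neg_neg, map_smul, hv', smul_smul, ← pow_add]

end Cone

section Koszul

variable {M : Type u} [AddCommGroup M] [Module R M] {ℳ : ℤ → AddSubgroup M} [Decomposition ℳ]
  [SetLike.GradedSMul 𝒜 ℳ]

variable (ℳ) in
/-- The terms of a module in degree zero. -/
@[reducible]
noncomputable def baseX (𝒜 : ℤ → AddSubgroup R) [GradedRing 𝒜] [SetLike.GradedSMul 𝒜 ℳ] : ℕ → GrLC.GMod.{u} 𝒜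
  | 0 => GrLC.GMod.of 𝒜 M ℳ
  | _ + 1 => subMod 𝒜 (⊥ : Submodule R M) (isHomogeneous_bot (ℳ := ℳ))

variable (𝒜 ℳ) in
/-- A module in degree zero. -/
noncomputable def Kx.base : Kx 𝒜 where
  X := baseX ℳ 𝒜
  d _ := 0
  d_grHom _ _ _ _ := zero_mem _
  d_d _ _ := rfl

variable (ℳ) in
/-- The Koszul complex on a list of degree-one elements. -/
noncomputable def kos : List {x : R // x ∈ 𝒜 1} → Kx 𝒜
  | [] => Kx.base 𝒜 ℳ
  | x :: l => (kos l).cone x.1 x.2

theorem killed_kos : ∀ (l : List {x : R // x ∈ 𝒜 1}), ∀ y ∈ l, (kos ℳ l).Killed y.1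
  | x :: l, y, hy => by
    rcases List.mem_cons.1 hy with rfl | hy
    · exact killed_cone_self _ _ _
    · exact killed_cone _ _ _ (killed_kos l y hy)

theorem kos_X_zero : ∀ (l : List {x : R // x ∈ 𝒜 1}), (kos ℳ l).X 0 = GrLC.GMod.of 𝒜 M ℳ
  | [] => rfl
  | _ :: l => kos_X_zero l

theorem subsingleton_kos : ∀ (l : List {x : R // x ∈ 𝒜 1}) (n : ℕ), l.length < n →
    Subsingleton ((kos ℳ l).X n).carrier
  | [], 0, h => absurd h (lt_irrefl 0)
  | [], n + 1, _ => inferInstanceAs (Subsingleton ↥(⊥ : Submodule R M))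
  | _ :: _, 0, h => absurd h (Nat.not_lt_zero _)
  | x :: l, n + 1, h => by
    have h₁ := subsingleton_kos l (n + 1) (Nat.lt_of_lt_of_le (Nat.lt_succ_self _) h.le)
    have h₂ := subsingleton_kos l n (Nat.lt_of_succ_lt_succ h)
    exact inferInstanceAs (Subsingleton (((kos ℳ l).X (n + 1)).carrier × ((kos ℳ l).X n).carrier))

variable {a : HomogeneousIdeal 𝒜}

theorem Hcomp_prodMod_eq_bot (A B : GrLC.GMod.{u} 𝒜) (E : GrLC.StarInjRes 𝒜 (prodMod A B).gr) {j : ℕ} {g : ℤ}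
    (hA : ∀ EA : GrLC.StarInjRes 𝒜 A.gr, EA.Hcomp a j g = ⊥)
    (hB : ∀ EB : GrLC.StarInjRes 𝒜 B.gr, EB.Hcomp a j g = ⊥) : E.Hcomp a j g = ⊥ := by
  obtain ⟨EA⟩ := nonempty_starInjRes (𝒜 := 𝒜) (ℳ := A.gr)
  obtain ⟨EB⟩ := nonempty_starInjRes (𝒜 := 𝒜) (ℳ := B.gr)
  have S : GSES A.gr (prodMod A B).gr B.gr (LinearMap.inl R A.carrier B.carrier)
      (LinearMap.snd R A.carrier B.carrier) 0 :=
    ⟨fun j m hm => by rw [add_zero]; exact ⟨hm, zero_mem _⟩, LinearMap.inl_injective, fun j m hm => hm.2,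
      LinearMap.snd_surjective, LinearMap.exact_iff.2 (LinearMap.range_inl R A.carrier B.carrier).symm⟩
  exact S.middle_eq_bot a EA E EB (by rw [sub_zero]; exact hA EA) (hB EB)

variable (EM : GrLC.StarInjRes 𝒜 ℳ)

theorem Hcomp_kos_eq_bot : ∀ (l : List {x : R // x ∈ 𝒜 1}) (n j : ℕ) (g : ℤ),
    EM.Hcomp a j (g - n) = ⊥ → ∀ E : GrLC.StarInjRes 𝒜 ((kos ℳ l).X n).gr, E.Hcomp a j g = ⊥
  | [], 0, j, g, h, E => Hcomp_eq_bot_congr EM E (by simpa using h)
  | [], n + 1, j, g, _, E => by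
    haveI : Subsingleton ((kos (𝒜 := 𝒜) ℳ []).X (n + 1)).carrier := subsingleton_kos [] (n + 1) (Nat.succ_pos n)
    exact Hcomp_eq_bot_of_subsingleton a E j g
  | x :: l, 0, j, g, h, E => Hcomp_kos_eq_bot l 0 j g h E
  | x :: l, n + 1, j, g, h, E => by
    obtain ⟨EX⟩ := nonempty_starInjRes (𝒜 := 𝒜) (ℳ := ((kos ℳ l).X n).gr)
    refine Hcomp_prodMod_eq_bot _ _ E (fun EA => Hcomp_kos_eq_bot l (n + 1) j g h EA) fun EB => ?_
    exact Hcomp_eq_bot_of_bijective a (L := ((kos ℳ l).X n).carrier) (𝓛 := (shiftMod 𝒜 ((kos ℳ l).X n).gr (-1)).gr) (φ := (LinearMap.id : ((kos ℳ l).X n).carrier →ₗ[R] _)) (e := -1)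
      (fun j m hm => hm) Function.bijective_id EB EX
      (Hcomp_kos_eq_bot l n j (g + -1) (by
        rwa [show g + -1 - (n : ℤ) = g - ((n + 1 : ℕ) : ℤ) by push_cast; ring]) EX)

section Chase

variable (K : Kx 𝒜)

theorem isHomogeneous_cyc : ∀ n, (K.cyc n).IsHomogeneous (K.X n).gr
  | 0 => isHomogeneous_top
  | n + 1 => isHomogeneous_ker (isGrHomDeg_zero_iff.2 (K.d_grHom n))

theorem range_le_cyc : ∀ n, LinearMap.range (K.d n) ≤ K.cyc n
  | 0 => le_top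
  | n + 1 => by rintro _ ⟨x, rfl⟩; exact LinearMap.mem_ker.2 (K.d_d n x)

/-- The boundaries as a graded module. -/
@[reducible]
noncomputable def Kx.bd (n : ℕ) : GrLC.GMod.{u} 𝒜 :=
  subMod 𝒜 (LinearMap.range (K.d n)) (isHomogeneous_range (isGrHomDeg_zero_iff.2 (K.d_grHom n)))

/-- Torsion homology carries vanishing from the boundaries to the cycles, and on to the next boundaries. -/
theorem Hcomp_bd_eq_bot (htor : ∀ n, ∀ z ∈ K.cyc n, ∃ N : ℕ, ∀ r ∈ a.toIdeal ^ N, r • z ∈ LinearMap.range (K.d n))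
    (g : ℤ) {s : ℕ} (hs : ∀ n, s < n → Subsingleton (K.X n).carrier) (i : ℕ)
    (hK : ∀ n, ∀ E : GrLC.StarInjRes 𝒜 (K.X (n + 1)).gr, E.Hcomp a (i + n) g = ⊥) :
    ∀ (k n : ℕ), s ≤ n + k → ∀ E : GrLC.StarInjRes 𝒜 (K.bd n).gr, E.Hcomp a (i + n) g = ⊥ := by
  intro k
  induction k with
  | zero =>
    intro n hn E
    haveI : Subsingleton (K.bd n).carrier := by
      refine ⟨?_⟩
      rintro ⟨_, p, rfl⟩ ⟨_, q, rfl⟩
      apply Subtype.ext
      haveI := hs (n + 1) (by omega)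
      rw [Subsingleton.elim p q]
    exact Hcomp_eq_bot_of_subsingleton a E _ g
  | succ k ih =>
    intro n hn E
    let B₁ := K.bd (n + 1)
    let Z := subMod 𝒜 (LinearMap.ker (K.d n)) (isHomogeneous_cyc K (n + 1))
    let jB : B₁.carrier →ₗ[R] Z.carrier := Submodule.inclusion (range_le_cyc K (n + 1))
    have hjB : GrLC.IsGrHom B₁.gr Z.gr jB := fun j m hm => hm
    let Q := quotMod 𝒜 (LinearMap.range jB) (isHomogeneous_range (isGrHomDeg_zero_iff.2 hjB))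
    obtain ⟨EB⟩ := nonempty_starInjRes (𝒜 := 𝒜) (ℳ := B₁.gr)
    obtain ⟨EZ⟩ := nonempty_starInjRes (𝒜 := 𝒜) (ℳ := Z.gr)
    obtain ⟨EQ⟩ := nonempty_starInjRes (𝒜 := 𝒜) (ℳ := Q.gr)
    obtain ⟨EX⟩ := nonempty_starInjRes (𝒜 := 𝒜) (ℳ := (K.X (n + 1)).gr)
    have S₁ : GSES B₁.gr Z.gr Q.gr jB (quotProj 𝒜 _ (isHomogeneous_range (isGrHomDeg_zero_iff.2 hjB))) 0 :=
      ⟨isGrHomDeg_zero_iff.2 hjB, Submodule.inclusion_injective _, isGrHom_quotProj _ _,
        Submodule.mkQ_surjective _, LinearMap.exact_map_mkQ_range jB⟩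
    have hQ : GrLC.gam a.toIdeal Q.carrier = ⊤ := by
      refine eq_top_iff.2 fun q _ => ?_
      obtain ⟨⟨z, hz⟩, rfl⟩ := Submodule.mkQ_surjective (LinearMap.range jB) q
      obtain ⟨N, hN⟩ := htor (n + 1) z hz
      exact ⟨N, fun r hr => (Submodule.Quotient.mk_eq_zero _).2 ⟨⟨r • z, hN r hr⟩, rfl⟩⟩
    have hZ : EZ.Hcomp a (i + n + 1) g = ⊥ :=
      S₁.middle_eq_bot a EB EZ EQ (by rw [sub_zero]; exact ih (n + 1) (by omega) EB)
        (Hcomp_succ_eq_bot_of_torsion EQ hQ (i + n) g)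
    have S₂ : GSES Z.gr (K.X (n + 1)).gr (K.bd n).gr (LinearMap.ker (K.d n)).subtype
        (K.d n).rangeRestrict 0 :=
      ⟨isGrHomDeg_zero_iff.2 (isGrHom_subtype _), Subtype.val_injective, fun j m hm => K.d_grHom n j m hm,
        LinearMap.surjective_rangeRestrict _, LinearMap.exact_iff.2 (by
          rw [LinearMap.ker_rangeRestrict, Submodule.range_subtype])⟩
    exact S₂.right_eq_bot a EZ EX E (hK n EX) (by rw [sub_zero]; exact hZ)

end Chase

theorem range_d_zero_le (l : List {x : R // x ∈ 𝒜 1}) (hl : ∀ x ∈ l, x.1 ∈ a.toIdeal) :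
    LinearMap.range ((kos ℳ l).d 0) ≤ a.toIdeal • ⊤ := by
  induction l with
  | nil => rintro _ ⟨w, rfl⟩; exact zero_mem _
  | cons x l ih =>
    rintro _ ⟨⟨(u : ((kos ℳ l).X 1).carrier), (v : ((kos ℳ l).X 0).carrier)⟩, rfl⟩
    exact add_mem (ih (fun y hy => hl y (List.mem_cons_of_mem _ hy)) ⟨u, rfl⟩)
      (Submodule.smul_mem_smul (hl x List.mem_cons_self) Submodule.mem_top)

theorem htor_kos (l : List {x : R // x ∈ 𝒜 1}) (ha : a.toIdeal = Ideal.span {y | ∃ x ∈ l, x.1 = y}) :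
    ∀ n, ∀ z ∈ (kos ℳ l).cyc n, ∃ N : ℕ, ∀ r ∈ a.toIdeal ^ N, r • z ∈ LinearMap.range ((kos ℳ l).d n) := by
  intro n z hz
  have : (LinearMap.range ((kos ℳ l).d n)).mkQ z ∈ GrLC.gam a.toIdeal _ := ha ▸ mem_gam_span _ _ (by
    rintro _ ⟨x, hx, rfl⟩
    obtain ⟨k, hk⟩ := killed_kos l x hx n z hz
    exact ⟨k, (Submodule.Quotient.mk_eq_zero _).2 hk⟩)
  obtain ⟨N, hN⟩ := this
  exact ⟨N, fun r hr => (Submodule.Quotient.mk_eq_zero _).1 (hN r hr)⟩

/-- The chase in the bottom spot of the Koszul complex. -/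
theorem estimate_aux (l : List {x : R // x ∈ 𝒜 1}) (ha : a.toIdeal = Ideal.span {y | ∃ x ∈ l, x.1 = y})
    (X : GrLC.GMod.{u} 𝒜) (hX : (kos ℳ l).X 0 = X) (E : GrLC.StarInjRes 𝒜 X.gr) (g : ℤ) :
    (∀ i, (∀ n : ℕ, EM.Hcomp a (i + 1 + n) (g - (n + 1 : ℕ)) = ⊥) → E.Hcomp a (i + 1) g = ⊥) ∧
      ((∀ n : ℕ, EM.Hcomp a (1 + n) (g - (n + 1 : ℕ)) = ⊥) → E.Hcomp a 0 g = ⊥ →
        ∀ x ∈ X.gr g, x ∈ a.toIdeal • (⊤ : Submodule R X.carrier)) := by
  subst hX
  let K := kos ℳ l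
  have hbd : ∀ i, (∀ n : ℕ, EM.Hcomp a (i + n) (g - (n + 1 : ℕ)) = ⊥) →
      ∀ E' : GrLC.StarInjRes 𝒜 (K.bd 0).gr, E'.Hcomp a i g = ⊥ := fun i h =>
    Hcomp_bd_eq_bot K (htor_kos l ha) g (fun n hn => subsingleton_kos l n hn) i
      (fun n => Hcomp_kos_eq_bot EM l (n + 1) (i + n) g (h n)) l.length 0 (by omega)
  let j : (K.bd 0).carrier →ₗ[R] (K.X 0).carrier := (LinearMap.range (K.d 0)).subtype
  let P := LinearMap.range (K.d 0)
  have hP : P.IsHomogeneous (K.X 0).gr := isHomogeneous_range (isGrHomDeg_zero_iff.2 (K.d_grHom 0))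
  let Q := quotMod 𝒜 P hP
  obtain ⟨EB⟩ := nonempty_starInjRes (𝒜 := 𝒜) (ℳ := (K.bd 0).gr)
  obtain ⟨EQ⟩ := nonempty_starInjRes (𝒜 := 𝒜) (ℳ := Q.gr)
  have S : GSES (K.bd 0).gr (K.X 0).gr Q.gr j (quotProj 𝒜 P hP) 0 :=
    ⟨isGrHomDeg_zero_iff.2 (isGrHom_subtype _), Subtype.val_injective, isGrHom_quotProj _ _,
      Submodule.mkQ_surjective _, LinearMap.exact_subtype_mkQ _⟩
  have hQ : GrLC.gam a.toIdeal Q.carrier = ⊤ := by
    refine eq_top_iff.2 fun q _ => ?_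
    obtain ⟨z, rfl⟩ := Submodule.mkQ_surjective P q
    obtain ⟨N, hN⟩ := htor_kos l ha 0 z trivial
    exact ⟨N, fun r hr => (Submodule.Quotient.mk_eq_zero _).2 (hN r hr)⟩
  refine ⟨fun i h => S.middle_eq_bot a EB E EQ (by rw [sub_zero]; exact hbd (i + 1) h EB)
    (Hcomp_succ_eq_bot_of_torsion EQ hQ i g), fun h h₀ x hx => ?_⟩
  have h1 : EQ.Hcomp a 0 g = ⊥ :=
    S.right_eq_bot a EB E EQ h₀ (by rw [sub_zero]; exact hbd 1 h EB)
  have hxQ : quotProj 𝒜 P hP x = 0 := (Hcomp_zero_eq_bot_iff EQ g).1 h1 _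
    (isGrHom_quotProj P hP g x hx) (hQ ▸ Submodule.mem_top)
  exact range_d_zero_le l (fun y hy => ha ▸ Ideal.subset_span ⟨y, hy, rfl⟩) ((Submodule.Quotient.mk_eq_zero P).1 hxQ)

theorem exists_list (ha : a.toIdeal = Ideal.span ((𝒜 1 : AddSubgroup R) : Set R)) :
    ∃ l : List {x : R // x ∈ 𝒜 1}, a.toIdeal = Ideal.span {y | ∃ x ∈ l, x.1 = y} := by
  classical
  obtain ⟨t, ht, hts⟩ := (Submodule.fg_span_iff_fg_span_finset_subset _).1
    (IsNoetherian.noetherian (Submodule.span R ((𝒜 1 : AddSubgroup R) : Set R)))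
  refine ⟨t.attach.toList.map fun x => ⟨x.1, ht x.2⟩, ?_⟩
  rw [ha]
  refine (show Submodule.span R _ = Submodule.span R _ from hts).trans (congrArg Ideal.span ?_)
  ext y
  simpa using fun hy => ht hy

variable (ha : a.toIdeal = Ideal.span ((𝒜 1 : AddSubgroup R) : Set R))

include ha in
/-- Vanishing along a shifted antidiagonal forces vanishing on the next one. -/
theorem Hcomp_eq_bot_of_diag {i : ℕ} {g : ℤ} (hi : 1 ≤ i)
    (h : ∀ n : ℕ, EM.Hcomp a (i + n) (g - (n + 1 : ℕ)) = ⊥) : EM.Hcomp a i g = ⊥ := by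
  obtain ⟨l, hl⟩ := exists_list ha
  obtain ⟨j, rfl⟩ := Nat.exists_eq_add_of_le' hi
  exact (estimate_aux EM l hl (GrLC.GMod.of 𝒜 M ℳ) (kos_X_zero l) EM g).1 j h

include ha in
/-- Vanishing along an antidiagonal bounds the degrees of generators. -/
theorem mem_smul_top_of_diag {g : ℤ} (h₀ : EM.Hcomp a 0 g = ⊥)
    (h : ∀ n : ℕ, EM.Hcomp a (1 + n) (g - (n + 1 : ℕ)) = ⊥) {x : M} (hx : x ∈ ℳ g) :
    x ∈ a.toIdeal • (⊤ : Submodule R M) := by
  obtain ⟨l, hl⟩ := exists_list ha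
  exact (estimate_aux EM l hl (GrLC.GMod.of 𝒜 M ℳ) (kos_X_zero l) EM g).2 h h₀ x hx

end Koszul

end Groth.Agent.H4Gr
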