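import Groth.Agent.H4Gr.Acyclic

/-!
# Comparison of resolutions in the graded category
-/

set_option autoImplicit false
set_option linter.unusedSectionVars false

universe u

open DirectSum

namespace Groth.Agent.H4Gr

variable {ι : Type} [AddCommGroup ι] [DecidableEq ι]
variable {R : Type u} [CommRing R] {𝒜 : ι → AddSubgroup R} [GradedRing 𝒜]
variable {M : Type u} [AddCommGroup M] [Module R M] {ℳ : ι → AddSubgroup M} [Decomposition ℳ]
  [SetLike.GradedSMul 𝒜 ℳ]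
variable {N : Type u} [AddCommGroup N] [Module R N] {𝒩 : ι → AddSubgroup N} [Decomposition 𝒩]
  [SetLike.GradedSMul 𝒜 𝒩]

section Step

variable {A B I : GrLC.GMod.{u} 𝒜}

/-- Into a *injective module, a homogeneous map factors through a homogeneous map with smaller kernel. -/
theorem exists_step (hI : GrLC.IsStarInj 𝒜 I.gr) (a : A.carrier →ₗ[R] B.carrier)
    (ha : GrLC.IsGrHom A.gr B.gr a) (g : A.carrier →ₗ[R] I.carrier) {e : ι}
    (hg : GrLC.IsGrHomDeg A.gr I.gr g e) (hker : LinearMap.ker a ≤ LinearMap.ker g) :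
    ∃ h : B.carrier →ₗ[R] I.carrier, GrLC.IsGrHomDeg B.gr I.gr h e ∧ h ∘ₗ a = g := by
  have hp : (LinearMap.ker a).IsHomogeneous A.gr := isHomogeneous_ker (isGrHomDeg_zero_iff.2 ha)
  let a₁ : (quotMod 𝒜 (LinearMap.ker a) hp).carrier →ₗ[R] B.carrier :=
    (LinearMap.ker a).liftQ a le_rfl
  let g₁ : (quotMod 𝒜 (LinearMap.ker a) hp).carrier →ₗ[R] I.carrier :=
    (LinearMap.ker a).liftQ g hker
  have ha₁ : GrLC.IsGrHomDeg (quotMod 𝒜 (LinearMap.ker a) hp).gr B.gr a₁ 0 := by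
    rintro j _ ⟨x, hx, rfl⟩
    exact (add_zero j).symm ▸ ha j x hx
  have hg₁ : GrLC.IsGrHomDeg (quotMod 𝒜 (LinearMap.ker a) hp).gr I.gr g₁ e := by
    rintro j _ ⟨x, hx, rfl⟩
    exact hg j x hx
  obtain ⟨h, hh, hha⟩ := extend_deg hI ha₁
    (LinearMap.ker_eq_bot.1 ((LinearMap.ker a).ker_liftQ_eq_bot a le_rfl le_rfl)) hg₁
  exact ⟨h, sub_zero e ▸ hh, LinearMap.ext fun x => LinearMap.congr_fun hha ((LinearMap.ker a).mkQ x)⟩

theorem isGrHomDeg_sub {f g : A.carrier →ₗ[R] B.carrier} {e : ι} (hf : GrLC.IsGrHomDeg A.gr B.gr f e)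
    (hg : GrLC.IsGrHomDeg A.gr B.gr g e) : GrLC.IsGrHomDeg A.gr B.gr (f - g) e :=
  fun j m hm => sub_mem (hf j m hm) (hg j m hm)

end Step

variable (𝒜 ℳ) in
/-- An exact augmented complex of graded modules. -/
structure Res : Type (u + 1) where
  /-- the terms -/
  X : ℕ → GrLC.GMod.{u} 𝒜
  /-- the differentials -/
  d : ∀ n : ℕ, (X n).carrier →ₗ[R] (X (n + 1)).carrier
  /-- the augmentation -/
  ε : M →ₗ[R] (X 0).carrier
  d_grHom : ∀ n : ℕ, GrLC.IsGrHom (X n).gr (X (n + 1)).gr (d n)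
  ε_grHom : GrLC.IsGrHom ℳ (X 0).gr ε
  ε_injective : Function.Injective ε
  exact_zero : LinearMap.ker (d 0) = LinearMap.range ε
  exact_succ : ∀ n : ℕ, LinearMap.ker (d (n + 1)) = LinearMap.range (d n)

/-- A *injective resolution is an exact augmented complex. -/
abbrev Res.ofStar (E : GrLC.StarInjRes 𝒜 ℳ) : Res 𝒜 ℳ :=
  ⟨E.X, E.d, E.ε, E.d_grHom, E.ε_grHom, E.ε_injective, E.exact_zero, E.exact_succ⟩

theorem Res.d_d (P : Res 𝒜 ℳ) (n : ℕ) (x : (P.X n).carrier) : P.d (n + 1) (P.d n x) = 0 :=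
  LinearMap.mem_ker.1 ((P.exact_succ n).ge ⟨x, rfl⟩)

theorem Res.d_ε (P : Res 𝒜 ℳ) (x : M) : P.d 0 (P.ε x) = 0 :=
  LinearMap.mem_ker.1 (P.exact_zero.ge ⟨x, rfl⟩)

/-- A chain map of degree `e` over `f`. -/
structure IsLift (P : Res 𝒜 ℳ) (Q : Res 𝒜 𝒩) (f : M →ₗ[R] N) (e : ι)
    (φ : ∀ n, (P.X n).carrier →ₗ[R] (Q.X n).carrier) : Prop where
  deg : ∀ n, GrLC.IsGrHomDeg (P.X n).gr (Q.X n).gr (φ n) e
  comm₀ : ∀ x, φ 0 (P.ε x) = Q.ε (f x)
  comm : ∀ n x, φ (n + 1) (P.d n x) = Q.d n (φ n x)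

variable (P : Res 𝒜 ℳ) (Q : Res 𝒜 𝒩) (hQ : ∀ n, GrLC.IsStarInj 𝒜 (Q.X n).gr)

include hQ in
/-- Chain maps over a given map exist. -/
theorem exists_lift (f : M →ₗ[R] N) {e : ι} (hf : GrLC.IsGrHomDeg ℳ 𝒩 f e) :
    ∃ φ, IsLift P Q f e φ := by
  obtain ⟨φ₀, hφ₀, hφ₀ε⟩ := exists_step (A := GrLC.GMod.of 𝒜 M ℳ) (hQ 0) P.ε P.ε_grHom (Q.ε ∘ₗ f)
    (e := e) (fun j m hm => by
      show Q.ε (f m) ∈ _
      exact Q.ε_grHom _ _ (hf j m hm))
    (fun x hx => by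
      rw [show x = 0 from P.ε_injective ((LinearMap.mem_ker.1 hx).trans (map_zero P.ε).symm)]
      exact map_zero _)
  have step : ∀ (n : ℕ) (g : (P.X n).carrier →ₗ[R] (Q.X n).carrier),
      ∃ h : (P.X (n + 1)).carrier →ₗ[R] (Q.X (n + 1)).carrier,
        GrLC.IsGrHomDeg (P.X n).gr (Q.X n).gr g e → LinearMap.ker (P.d n) ≤ LinearMap.ker (Q.d n ∘ₗ g) →
          GrLC.IsGrHomDeg (P.X (n + 1)).gr (Q.X (n + 1)).gr h e ∧ h ∘ₗ P.d n = Q.d n ∘ₗ g := fun n g => by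
    by_cases hg : GrLC.IsGrHomDeg (P.X n).gr (Q.X n).gr g e ∧
        LinearMap.ker (P.d n) ≤ LinearMap.ker (Q.d n ∘ₗ g)
    · obtain ⟨h, hh⟩ := exists_step (hQ (n + 1)) (P.d n) (P.d_grHom n) (Q.d n ∘ₗ g)
        (fun j m hm => Q.d_grHom n _ _ (hg.1 j m hm)) hg.2
      exact ⟨h, fun _ _ => hh⟩
    · exact ⟨0, fun h₁ h₂ => absurd ⟨h₁, h₂⟩ hg⟩
  choose next hnext using step
  let φ : ∀ n, (P.X n).carrier →ₗ[R] (Q.X n).carrier := fun n => n.rec φ₀ next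
  have key : ∀ n, GrLC.IsGrHomDeg (P.X n).gr (Q.X n).gr (φ n) e ∧
      LinearMap.ker (P.d n) ≤ LinearMap.ker (Q.d n ∘ₗ φ n) := fun n => by
    induction n with
    | zero =>
      refine ⟨hφ₀, ?_⟩
      rw [P.exact_zero]
      rintro _ ⟨x, rfl⟩
      exact (congrArg (Q.d 0) (LinearMap.congr_fun hφ₀ε x)).trans (Q.d_ε _)
    | succ n ih =>
      refine ⟨(hnext n _ ih.1 ih.2).1, ?_⟩
      rw [P.exact_succ n]
      rintro _ ⟨x, rfl⟩
      exact (congrArg (Q.d (n + 1)) (LinearMap.congr_fun (hnext n _ ih.1 ih.2).2 x)).trans (Q.d_d n _)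
  exact ⟨φ, ⟨fun n => (key n).1, LinearMap.congr_fun hφ₀ε,
    fun n => LinearMap.congr_fun (hnext n _ (key n).1 (key n).2).2⟩⟩

include hQ in
/-- Two chain maps over the same map are homotopic. -/
theorem exists_homotopy {f : M →ₗ[R] N} {e : ι} {φ ψ : ∀ n, (P.X n).carrier →ₗ[R] (Q.X n).carrier}
    (hφ : IsLift P Q f e φ) (hψ : IsLift P Q f e ψ) :
    ∃ s : ∀ n, (P.X (n + 1)).carrier →ₗ[R] (Q.X n).carrier,
      (∀ x, φ 0 x - ψ 0 x = s 0 (P.d 0 x)) ∧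
        ∀ n x, φ (n + 1) x - ψ (n + 1) x = s (n + 1) (P.d (n + 1) x) + Q.d n (s n x) := by
  let δ := fun n => φ n - ψ n
  have hδ : ∀ n, GrLC.IsGrHomDeg (P.X n).gr (Q.X n).gr (δ n) e :=
    fun n => isGrHomDeg_sub (hφ.deg n) (hψ.deg n)
  obtain ⟨s₀, hs₀, hs₀d⟩ := exists_step (hQ 0) (P.d 0) (P.d_grHom 0) (δ 0) (hδ 0) (by
    rw [P.exact_zero]
    rintro _ ⟨x, rfl⟩
    show φ 0 (P.ε x) - ψ 0 (P.ε x) = 0
    rw [hφ.comm₀, hψ.comm₀, sub_self])
  have step : ∀ (n : ℕ) (g : (P.X (n + 1)).carrier →ₗ[R] (Q.X n).carrier),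
      ∃ h : (P.X (n + 2)).carrier →ₗ[R] (Q.X (n + 1)).carrier,
        GrLC.IsGrHomDeg (P.X (n + 1)).gr (Q.X n).gr g e →
        LinearMap.ker (P.d (n + 1)) ≤ LinearMap.ker (δ (n + 1) - Q.d n ∘ₗ g) →
          GrLC.IsGrHomDeg (P.X (n + 2)).gr (Q.X (n + 1)).gr h e ∧
            h ∘ₗ P.d (n + 1) = δ (n + 1) - Q.d n ∘ₗ g := fun n g => by
    by_cases hg : GrLC.IsGrHomDeg (P.X (n + 1)).gr (Q.X n).gr g e ∧
        LinearMap.ker (P.d (n + 1)) ≤ LinearMap.ker (δ (n + 1) - Q.d n ∘ₗ g)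
    · obtain ⟨h, hh⟩ := exists_step (hQ (n + 1)) (P.d (n + 1)) (P.d_grHom (n + 1)) (δ (n + 1) - Q.d n ∘ₗ g)
        (e := e) (isGrHomDeg_sub (hδ (n + 1)) fun j m hm => Q.d_grHom n _ _ (hg.1 j m hm)) hg.2
      exact ⟨h, fun _ _ => hh⟩
    · exact ⟨0, fun h₁ h₂ => absurd ⟨h₁, h₂⟩ hg⟩
  choose next hnext using step
  let s : ∀ n, (P.X (n + 1)).carrier →ₗ[R] (Q.X n).carrier := fun n => n.rec s₀ next
  have comm : ∀ n x, δ (n + 1) (P.d n x) = Q.d n (δ n x) := fun n x => by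
    show φ (n + 1) (P.d n x) - ψ (n + 1) (P.d n x) = Q.d n (φ n x - ψ n x)
    rw [hφ.comm, hψ.comm, map_sub]
  have key : ∀ n, GrLC.IsGrHomDeg (P.X (n + 1)).gr (Q.X n).gr (s n) e ∧
      LinearMap.ker (P.d (n + 1)) ≤ LinearMap.ker (δ (n + 1) - Q.d n ∘ₗ s n) := fun n => by
    induction n with
    | zero =>
      refine ⟨hs₀, ?_⟩
      rw [P.exact_succ 0]
      rintro _ ⟨x, rfl⟩
      refine LinearMap.mem_ker.2 ((LinearMap.sub_apply ..).trans ?_)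
      rw [comm, LinearMap.comp_apply, show s 0 (P.d 0 x) = δ 0 x from LinearMap.congr_fun hs₀d x, sub_self]
    | succ n ih =>
      refine ⟨(hnext n _ ih.1 ih.2).1, ?_⟩
      rw [P.exact_succ (n + 1)]
      rintro _ ⟨x, rfl⟩
      refine LinearMap.mem_ker.2 ((LinearMap.sub_apply ..).trans ?_)
      rw [comm, LinearMap.comp_apply, show s (n + 1) (P.d (n + 1) x) = _ from
        LinearMap.congr_fun (hnext n _ ih.1 ih.2).2 x]
      show Q.d (n + 1) (δ (n + 1) x) - Q.d (n + 1) (δ (n + 1) x - Q.d n (s n x)) = 0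
      rw [map_sub, Q.d_d, sub_zero, sub_self]
  refine ⟨s, fun x => (LinearMap.congr_fun hs₀d x).symm, fun n x => ?_⟩
  exact sub_eq_iff_eq_add.1 (LinearMap.congr_fun (hnext n _ (key n).1 (key n).2).2 x).symm

section Prod

variable (A B : GrLC.GMod.{u} 𝒜)

/-- The pieces of a product. -/
def prodPieces (g : ι) : AddSubgroup (A.carrier × B.carrier) := (A.gr g).prod (B.gr g)

theorem isInternal_prodPieces : DirectSum.IsInternal (prodPieces A B) :=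
  isInternal_of _ (fun g => AddMonoidHom.prodMap (proj A.gr g) (proj B.gr g))
    (fun g x => ⟨proj_mem A.gr g x.1, proj_mem B.gr g x.2⟩)
    (fun g x hx h => by
      refine Prod.ext ?_ ?_
      · show proj A.gr h x.1 = _
        rw [proj_of_mem hx.1]; split_ifs <;> rfl
      · show proj B.gr h x.2 = _
        rw [proj_of_mem hx.2]; split_ifs <;> rfl)
    fun x => by
      rw [show x = (x.1, 0) + (0, x.2) by simp]
      refine add_mem ?_ ?_
      · induction x.1 using induction A.gr with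
        | zero => exact zero_mem _
        | hom g a ha => exact AddSubgroup.mem_iSup_of_mem g ⟨ha, zero_mem _⟩
        | add a b ha hb => simpa using add_mem ha hb
      · induction x.2 using induction B.gr with
        | zero => exact zero_mem _
        | hom g a ha => exact AddSubgroup.mem_iSup_of_mem g ⟨zero_mem _, ha⟩
        | add a b ha hb => simpa using add_mem ha hb

theorem gradedSMul_prodPieces : SetLike.GradedSMul 𝒜 (prodPieces A B) :=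
  ⟨fun {_ _ _ _} ha hx => ⟨SetLike.GradedSMul.smul_mem (B := A.gr) ha hx.1,
    SetLike.GradedSMul.smul_mem (B := B.gr) ha hx.2⟩⟩

/-- The product of two graded modules. -/
@[implicit_reducible]
noncomputable def prodMod : GrLC.GMod.{u} 𝒜 :=
  { carrier := A.carrier × B.carrier
    gr := prodPieces A B
    dec := (isInternal_prodPieces A B).chooseDecomposition
    gsmul := gradedSMul_prodPieces A B }

theorem isStarInj_prodMod (hA : GrLC.IsStarInj 𝒜 A.gr) (hB : GrLC.IsStarInj 𝒜 B.gr) :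
    GrLC.IsStarInj 𝒜 (prodMod A B).gr := by
  intro X Y f hf hfi g hg
  obtain ⟨h₁, hh₁, e₁⟩ := hA X Y f hf hfi ((LinearMap.fst R A.carrier B.carrier) ∘ₗ g) fun j m hm => (hg j m hm).1
  obtain ⟨h₂, hh₂, e₂⟩ := hB X Y f hf hfi ((LinearMap.snd R A.carrier B.carrier) ∘ₗ g) fun j m hm => (hg j m hm).2
  exact ⟨h₁.prod h₂, fun j m hm => ⟨hh₁ j m hm, hh₂ j m hm⟩,
    LinearMap.ext fun x => Prod.ext (LinearMap.congr_fun e₁ x) (LinearMap.congr_fun e₂ x)⟩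

theorem isStarInj_shiftMod (hA : GrLC.IsStarInj 𝒜 A.gr) (d : ι) :
    GrLC.IsStarInj 𝒜 (shiftMod 𝒜 A.gr d).gr := by
  intro X Y f hf hfi g hg
  obtain ⟨h, hh, e⟩ := extend_deg (ℐ := A.gr) hA (isGrHomDeg_zero_iff.2 hf) hfi (g := g) (d := d)
    fun j m hm => hg j m hm
  exact ⟨h, fun j m hm => (sub_zero d ▸ hh) j m hm, e⟩

end Prod

end Groth.Agent.H4Gr
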