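import Groth.Agent.H4Gr.PolyRing

/-!
# Linear systems of parameters over an infinite residue field
-/

set_option autoImplicit false
set_option linter.unusedSectionVars false
set_option linter.style.haveILetI false

universe u

open DirectSum
open scoped Pointwise

namespace Groth.Agent.H4Gr

section Indep

variable {A : Type u} [CommRing A]

/-- A regular sequence over `A` is algebraically independent when `A` embeds modulo it. -/
theorem aeval_injective_of_isWeaklyRegular : ∀ (n : ℕ) (B : Type u) [CommRing B] [Algebra A B] (y : Fin n → B),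
    RingTheory.Sequence.IsWeaklyRegular B (List.ofFn y) →
    (∀ c : A, algebraMap A B c ∈ Ideal.ofList (List.ofFn y) → c = 0) →
    Function.Injective (MvPolynomial.aeval (R := A) y) := by
  intro n
  induction n with
  | zero =>
    intro B _ _ y _ hA
    rw [injective_iff_map_eq_zero]
    intro p hp
    obtain ⟨c, rfl⟩ := MvPolynomial.C_surjective (R := A) (Fin 0) p
    rw [MvPolynomial.aeval_C] at hp
    rw [hA c (by rw [hp]; exact zero_mem _), map_zero]
  | succ n ih =>
    intro B _ _ y hreg hA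
    let I : Ideal B := Ideal.span {y 0}
    let y' : Fin n → B := fun i => y i.succ
    let φ := MvPolynomial.aeval (R := A) y'
    have hl : List.ofFn y = y 0 :: List.ofFn y' := List.ofFn_succ
    rw [hl, RingTheory.Sequence.isWeaklyRegular_cons_iff] at hreg
    have hreg' : RingTheory.Sequence.IsWeaklyRegular (B ⧸ I) (List.ofFn fun i => Ideal.Quotient.mk I (y' i)) := by
      have e : (y 0 • ⊤ : Submodule B B) = I :=
        (Submodule.ideal_span_singleton_smul _ _).symm.trans (Ideal.mul_top _)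
      have h := ((Submodule.quotEquivOfEq _ _ e).isWeaklyRegular_congr _).1 hreg.2
      have h2 := (RingTheory.Sequence.isWeaklyRegular_map_algebraMap_iff (S := B ⧸ I) (M := B ⧸ I)
        (List.ofFn y')).2 h
      rwa [List.map_ofFn] at h2
    have hinj := ih (B ⧸ I) (fun i => Ideal.Quotient.mk I (y' i)) hreg' fun c hc => hA c (by
      rw [hl, Ideal.ofList_cons]
      rw [← Ideal.Quotient.mk_algebraMap] at hc
      rw [show (List.ofFn fun i => Ideal.Quotient.mk I (y' i)) = (List.ofFn y').map (Ideal.Quotient.mk I) from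
        (List.map_ofFn).symm, ← Ideal.map_ofList, ← Ideal.mem_comap,
        Ideal.comap_map_of_surjective _ Ideal.Quotient.mk_surjective, ← RingHom.ker_eq_comap_bot,
        Ideal.mk_ker] at hc
      rwa [sup_comm])
    have key : ∀ (k : ℕ) (P : Polynomial (MvPolynomial (Fin n) A)), P.natDegree ≤ k →
        Polynomial.eval₂ φ.toRingHom (y 0) P = 0 → P = 0 := by
      intro k
      induction k using Nat.strong_induction_on with
      | _ k ihk =>
        intro P hk hP
        rw [← Polynomial.X_mul_divX_add P, Polynomial.eval₂_add, Polynomial.eval₂_mul, Polynomial.eval₂_X,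
          Polynomial.eval₂_C] at hP
        have h0 : P.coeff 0 = 0 := hinj (by
          rw [map_zero, show MvPolynomial.aeval (R := A) (fun i => Ideal.Quotient.mk I (y' i)) (P.coeff 0) =
            Ideal.Quotient.mk I (φ (P.coeff 0)) from
              (MvPolynomial.comp_aeval_apply y' (Ideal.Quotient.mkₐ A I) (P.coeff 0)).symm,
            Ideal.Quotient.eq_zero_iff_mem, eq_neg_of_add_eq_zero_right (show _ + φ (P.coeff 0) = 0 from hP)]
          exact neg_mem (I.mul_mem_right _ (Ideal.mem_span_singleton_self _)))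
        rw [h0, map_zero, add_zero] at hP
        have hd : Polynomial.eval₂ φ.toRingHom (y 0) P.divX = 0 := hreg.1 (hP.trans (smul_zero _).symm)
        by_cases hz : P.natDegree = 0
        · rw [Polynomial.eq_C_of_natDegree_eq_zero hz, h0, Polynomial.C_0]
        have hlt : P.divX.natDegree < k := by
          rw [Polynomial.natDegree_divX_eq_natDegree_tsub_one]; omega
        rw [← Polynomial.X_mul_divX_add P, ihk _ hlt _ le_rfl hd, h0]
        simp
    rw [injective_iff_map_eq_zero]
    intro p hp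
    refine (MvPolynomial.finSuccEquiv A n).injective ?_
    rw [map_zero]
    refine key _ _ le_rfl ?_
    have e : ((Polynomial.eval₂RingHom φ.toRingHom (y 0)).comp (MvPolynomial.finSuccEquiv A n).toRingEquiv.toRingHom) =
        (MvPolynomial.aeval (R := A) y).toRingHom := by
      refine MvPolynomial.ringHom_ext (fun c => ?_) (fun i => ?_)
      · simp [φ, MvPolynomial.finSuccEquiv_apply]
      · cases i using Fin.cases with
        | zero => simp [φ, MvPolynomial.finSuccEquiv_apply]
        | succ i => simp [φ, y', MvPolynomial.finSuccEquiv_apply]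
    exact (RingHom.congr_fun e p).trans hp

end Indep

variable {R : Type u} [CommRing R] [IsNoetherianRing R] {𝒜 : ℤ → AddSubgroup R} [GradedRing 𝒜]
variable (hpos : ∀ n : ℤ, n < 0 → 𝒜 n = ⊥) (m : HomogeneousIdeal 𝒜)

/-- Avoid finitely many primes inside the degree-one piece. -/
theorem exists_linear_avoiding (hm : m.toIdeal.IsMaximal) (hinf : Infinite (R ⧸ m.toIdeal))
    (hres : ∀ x : R, ∃ c : GrLC.deg0 𝒜, x - (c : R) ∈ m.toIdeal) (S : Finset (Ideal R))
    (hS : ∀ p ∈ S, p.IsPrime ∧ (∃ y ∈ 𝒜 1, y ∉ p) ∧ ∀ c : R, c ∈ 𝒜 0 → c ∉ m.toIdeal → c ∉ p) :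
    ∃ x ∈ 𝒜 1, ∀ p ∈ S, x ∉ p := by
  classical
  induction S using Finset.induction with
  | empty => exact ⟨0, zero_mem _, fun p hp => absurd hp (Finset.notMem_empty p)⟩
  | @insert q S hq ih =>
    obtain ⟨x, hx, hxS⟩ := ih fun p hp => hS p (Finset.mem_insert_of_mem hp)
    obtain ⟨-, ⟨y, hy, hyq⟩, -⟩ := hS q (Finset.mem_insert_self q S)
    choose c hc using hres
    let bad : Set (R ⧸ m.toIdeal) := {t | ∃ p ∈ insert q S, ∃ r : R, Ideal.Quotient.mk m.toIdeal r = t ∧
      x + (c r : R) * y ∈ p}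
    have hbad : bad.Finite := by
      refine Set.Finite.subset (Set.Finite.biUnion (Finset.finite_toSet (insert q S))
        (t := fun p => {t | ∃ r : R, Ideal.Quotient.mk m.toIdeal r = t ∧ x + (c r : R) * y ∈ p}) fun p hp => ?_)
        fun t ⟨p, hp, r, hr⟩ => Set.mem_biUnion hp ⟨r, hr⟩
      refine Set.Subsingleton.finite fun t₁ ⟨r₁, h₁, e₁⟩ t₂ ⟨r₂, h₂, e₂⟩ => by_contra fun hne => ?_
      obtain ⟨hp', -, hunit⟩ := hS p hp
      have hdiff : (c r₁ : R) - c r₂ ∉ m.toIdeal := fun h => hne (by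
        rw [← h₁, ← h₂, Ideal.Quotient.eq,
          show r₁ - r₂ = (r₁ - (c r₁ : R)) - (r₂ - (c r₂ : R)) + ((c r₁ : R) - c r₂) by ring]
        exact add_mem (sub_mem (hc r₁) (hc r₂)) h)
      have hyp : y ∈ p := by
        have : ((c r₁ : R) - c r₂) * y ∈ p := by
          rw [sub_mul, show (c r₁ : R) * y - c r₂ * y = (x + c r₁ * y) - (x + c r₂ * y) by ring]
          exact sub_mem e₁ e₂
        exact (hp'.mem_or_mem this).resolve_left (hunit _ (sub_mem (c r₁).2 (c r₂).2) hdiff)
      have hxp : x ∈ p := by simpa using sub_mem e₁ (p.mul_mem_left (c r₁ : R) hyp)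
      rcases Finset.mem_insert.1 hp with rfl | hpS
      · exact hyq hyp
      · exact hxS p hpS hxp
    obtain ⟨t, ht⟩ := hbad.infinite_compl.nonempty
    obtain ⟨r, rfl⟩ := Ideal.Quotient.mk_surjective t
    refine ⟨x + (c r : R) * y, add_mem hx ?_, fun p hp hmem => ht ⟨p, hp, r, rfl, hmem⟩⟩
    have := SetLike.mul_mem_graded (show (c r : R) ∈ 𝒜 0 from (c r).2) hy
    rwa [zero_add] at this

variable (hm : GrLC.IsStarLocal 𝒜 m)
  (hstd : Ideal.span (⋃ n ∈ Set.Ioi (0 : ℤ), (𝒜 n : Set R)) = Ideal.span ((𝒜 1 : AddSubgroup R) : Set R))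
  [IsArtinianRing (GrLC.deg0 𝒜)]

include hpos hm hstd in
/-- A homogeneous prime contains `m` as soon as it contains the degree-one piece. -/
theorem le_of_prime_of_linear {p : Ideal R} [hp : p.IsPrime] (h : ∀ y ∈ 𝒜 1, y ∈ p) : m.toIdeal ≤ p := by
  intro r hr
  have hcore : r - proj 𝒜 0 r ∈ p :=
    (Ideal.span_le.2 h : Ideal.span ((𝒜 1 : AddSubgroup R) : Set R) ≤ p) (hstd ▸ sub_proj_zero_mem hpos r)
  let ρ : GrLC.deg0 𝒜 →+* R := (GrLC.deg0 𝒜).subtype
  haveI hmp : (p.comap ρ).IsMaximal := Ideal.IsPrime.isMaximal' (hp.comap ρ)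
  have hle' : p.comap ρ ≤ m.toIdeal.comap ρ := fun u hu => mem_of_isStarLocal hm (p := p) 0 (u : R) u.2 hu
  have heq := hmp.eq_of_le ((isMaximal_of_isStarLocal hpos hm).isPrime.comap ρ).ne_top hle'
  have h0 : proj 𝒜 0 r ∈ p :=
    heq.ge (show (⟨proj 𝒜 0 r, proj_mem 𝒜 0 r⟩ : GrLC.deg0 𝒜) ∈ m.toIdeal.comap ρ from m.isHomogeneous 0 hr)
  simpa using add_mem hcore h0

include hpos hm hstd in
theorem le_of_ass {M : Type u} [AddCommGroup M] [Module R M] {p : Ideal R} (hp : p ∈ associatedPrimes R M)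
    (h : ∀ y ∈ 𝒜 1, y ∈ p) : ∃ z : M, z ≠ 0 ∧ z ∈ GrLC.gam m.toIdeal M := by
  obtain ⟨hpr, z, hz⟩ := isAssociatedPrime_iff.1 (show IsAssociatedPrime p M from hp)
  haveI := hpr
  have hle := le_of_prime_of_linear hpos m hm hstd h
  refine ⟨z, fun e => hpr.ne_top ((Ideal.eq_top_iff_one p).2 ?_), ⟨1, fun r hr => ?_⟩⟩
  · rw [hz, e, Submodule.mem_colon_singleton, Submodule.mem_bot, smul_zero]
  · have := hle (by simpa using hr)
    rw [hz, Submodule.mem_colon_singleton, Submodule.mem_bot] at this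
    exact this

include hpos hm hstd in
/-- Linear systems of parameters. -/
theorem exists_linear_sop (hinf : Infinite (R ⧸ m.toIdeal)) : ∀ (k : ℕ) (X : GrLC.GMod.{u} 𝒜) (J : Ideal R)
    (π : R →ₗ[R] X.carrier), GrLC.IsGrHom 𝒜 X.gr π → Function.Surjective π → LinearMap.ker π = J →
    (∀ E : GrLC.StarInjRes 𝒜 X.gr, ∀ j < k, ∀ y : E.H m j, y = 0) → ringKrullDim (R ⧸ J) ≤ (k : ℕ) →
    ∃ l : List R, l.length = k ∧ (∀ y ∈ l, y ∈ 𝒜 1) ∧ RingTheory.Sequence.IsWeaklyRegular X.carrier l ∧
      ringKrullDim (R ⧸ (J ⊔ Ideal.ofList l)) ≤ (0 : ℕ) := by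
  intro k
  induction k with
  | zero =>
    intro X J π _ _ _ _ hdim
    exact ⟨[], rfl, fun y hy => absurd hy List.not_mem_nil, .nil R X.carrier, by
      rwa [Ideal.ofList_nil, sup_bot_eq]⟩
  | succ k ih =>
    intro X J π hπ hπs hker hH hdim
    obtain ⟨E⟩ := nonempty_starInjRes (𝒜 := 𝒜) (ℳ := X.gr)
    haveI : Module.Finite R X.carrier := Module.Finite.of_surjective π hπs
    have hmax := isMaximal_of_isStarLocal hpos hm
    have hnotor : ∀ z : X.carrier, z ∈ GrLC.gam m.toIdeal X.carrier → z = 0 := fun z hz =>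
      congrArg Subtype.val (toH₀_injective E (a₁ := ⟨z, hz⟩) (a₂ := 0) (by
        rw [map_zero]; exact hH E 0 k.succ_pos _))
    obtain ⟨x, hx, hxp⟩ := exists_linear_avoiding m hmax hinf
      (fun r => ⟨⟨proj 𝒜 0 r, proj_mem 𝒜 0 r⟩, (Ideal.span_le.2 fun z hz => by
        obtain ⟨n, hn, hzn⟩ := Set.mem_iUnion₂.1 hz
        exact pos_mem_of_isStarLocal hpos hm hn hzn :
          Ideal.span (⋃ n ∈ Set.Ioi (0 : ℤ), (𝒜 n : Set R)) ≤ m.toIdeal) (sub_proj_zero_mem hpos r)⟩)
      (associatedPrimes.finite R X.carrier).toFinset fun p hp => by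
        rw [Set.Finite.mem_toFinset] at hp
        haveI : p.IsPrime := IsAssociatedPrime.isPrime hp
        refine ⟨inferInstance, ?_, fun c hc hcm hcp => hcm (mem_of_isStarLocal hm 0 c hc hcp)⟩
        by_contra hc
        push Not at hc
        obtain ⟨z, hz0, hz⟩ := le_of_ass hpos m hm hstd hp hc
        exact hz0 (hnotor z hz)
    have hreg : IsSMulRegular X.carrier x := by
      intro u v huv
      by_contra hne
      have hmem : x ∈ ⋃ p ∈ associatedPrimes R X.carrier, (p : Set R) := by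
        rw [biUnion_associatedPrimes_eq_zero_divisors]
        exact ⟨u - v, sub_ne_zero.2 hne, by rw [smul_sub, sub_eq_zero]; exact huv⟩
      obtain ⟨p, hp, hxp'⟩ := Set.mem_iUnion₂.1 hmem
      exact hxp p ((Set.Finite.mem_toFinset _).2 hp) hxp'
    let P : Submodule R X.carrier := LinearMap.range (x • (LinearMap.id : X.carrier →ₗ[R] X.carrier))
    have hP : P.IsHomogeneous X.gr := isHomogeneous_range (isGrHomDeg_smul_id (ℳ := X.gr) hx)
    let X' := quotMod 𝒜 P hP
    let q : X.carrier →ₗ[R] X'.carrier := P.mkQ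
    have hqg : GrLC.IsGrHom X.gr X'.gr q := isGrHom_mkQ P
    have hqs : Function.Surjective q := Submodule.mkQ_surjective P
    have hkx : LinearMap.ker q = P := Submodule.ker_mkQ P
    have hH' : ∀ E' : GrLC.StarInjRes 𝒜 X'.gr, ∀ j < k, ∀ y : E'.H m j, y = 0 := fun E' j hj =>
      H_quot_eq_zero hpos m hx hreg hqg hqs hkx E E' j (hH E j (by omega)) (hH E (j + 1) (by omega))
    have hker' : LinearMap.ker (q ∘ₗ π) = J ⊔ Ideal.span {x} := by
      ext r
      rw [LinearMap.ker_comp, Submodule.mem_comap, hkx]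
      constructor
      · rintro ⟨w, hw⟩
        obtain ⟨c, rfl⟩ := hπs w
        refine Submodule.mem_sup.2 ⟨r - x * c, ?_, x * c, Ideal.mem_span_singleton'.2 ⟨c, mul_comm c x⟩, sub_add_cancel _ _⟩
        rw [← hker, LinearMap.mem_ker, map_sub, ← smul_eq_mul, map_smul, sub_eq_zero]
        exact hw.symm
      · intro h
        obtain ⟨s, hs, t, ht, rfl⟩ := Submodule.mem_sup.1 h
        obtain ⟨c, rfl⟩ := Ideal.mem_span_singleton'.1 ht
        refine ⟨π c, ?_⟩
        rw [map_add, show π s = 0 from LinearMap.mem_ker.1 (hker.ge hs), zero_add, mul_comm, ← smul_eq_mul, map_smul]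
        rfl
    have hxJ : Ideal.Quotient.mk J x ∈ nonZeroDivisors (R ⧸ J) := by
      rw [mem_nonZeroDivisors_iff_right]
      intro w hw
      obtain ⟨c, rfl⟩ := Ideal.Quotient.mk_surjective w
      rw [← map_mul, Ideal.Quotient.eq_zero_iff_mem, ← hker, LinearMap.mem_ker, mul_comm, ← smul_eq_mul,
        map_smul] at hw
      rw [Ideal.Quotient.eq_zero_iff_mem, ← hker, LinearMap.mem_ker]
      exact hreg (hw.trans (smul_zero x).symm)
    have hdim' : ringKrullDim (R ⧸ (J ⊔ Ideal.span {x})) ≤ (k : ℕ) := by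
      have h1 := (ringKrullDim_succ_le_of_surjective (Ideal.Quotient.factor (le_sup_left : J ≤ J ⊔ Ideal.span {x}))
        (Ideal.Quotient.factor_surjective le_sup_left) hxJ (Ideal.Quotient.eq_zero_iff_mem.2
          (Submodule.mem_sup_right (Ideal.mem_span_singleton_self x)))).trans hdim
      revert h1
      generalize ringKrullDim (R ⧸ J ⊔ Ideal.span {x}) = D
      intro h1
      cases D with
      | bot => exact bot_le
      | coe D =>
        have h2 : D + 1 ≤ (k : ℕ∞) + 1 := by exact_mod_cast h1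
        exact WithBot.coe_le_coe.2 ((ENat.add_le_add_iff_right ENat.one_ne_top).1 h2)
    obtain ⟨l, hl, hl1, hlreg, hldim⟩ := ih X' (J ⊔ Ideal.span {x}) (q ∘ₗ π) (isGrHom_comp hqg hπ)
      (hqs.comp hπs) hker' hH' hdim'
    have hPe : x • (⊤ : Submodule R X.carrier) = P := by
      ext y
      simp only [P, LinearMap.mem_range, LinearMap.smul_apply, LinearMap.id_apply,
        Submodule.mem_smul_pointwise_iff_exists, Submodule.mem_top, true_and]
    refine ⟨x :: l, by rw [List.length_cons, hl], List.forall_mem_cons.2 ⟨hx, hl1⟩, ?_, ?_⟩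
    · rw [RingTheory.Sequence.isWeaklyRegular_cons_iff]
      exact ⟨hreg, ((Submodule.quotEquivOfEq _ _ hPe).isWeaklyRegular_congr _).2 hlreg⟩
    · rwa [Ideal.ofList_cons, ← sup_assoc]

end Groth.Agent.H4Gr
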