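import Groth.Agent.H4Gr.Euler
import Groth.Agent.H4Gr.AInv
import Groth.Agent.H4Gr.RegApps
import Mathlib.RingTheory.KrullDimension.NonZeroDivisors
import Mathlib.RingTheory.KrullDimension.Polynomial
import Mathlib.RingTheory.MvPolynomial.Ideal

/-!
# Standard graded rings with a polynomial structure
-/

set_option autoImplicit false
set_option linter.unusedSectionVars false
set_option linter.style.haveILetI false

universe u

open DirectSum MvPolynomial

namespace Groth.Agent.H4Gr

/-- The variables form a weakly regular sequence. -/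
theorem isWeaklyRegular_vars (A : Type u) [CommRing A] (n : ℕ) :
    RingTheory.Sequence.IsWeaklyRegular (MvPolynomial (Fin n) A)
      (List.ofFn fun i : Fin n => (X i : MvPolynomial (Fin n) A)) := by
  rw [RingTheory.Sequence.isWeaklyRegular_iff]
  intro j hj
  rw [show Ideal.ofList ((List.ofFn fun i : Fin n => (X i : MvPolynomial (Fin n) A)).take j) •
    (⊤ : Submodule (MvPolynomial (Fin n) A) (MvPolynomial (Fin n) A)) = _ from Ideal.mul_top _,
    isSMulRegular_quotient_iff_mem_of_smul_mem]
  intro x hx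
  rw [List.length_ofFn] at hj
  have hspan : Ideal.ofList ((List.ofFn fun i : Fin n => (X i : MvPolynomial (Fin n) A)).take j) =
      Ideal.span (X '' {i : Fin n | i.1 < j}) := by
    refine congrArg Ideal.span (Set.ext fun p => ?_)
    simp only [Set.mem_ofPred_eq, Set.mem_image, List.mem_take_iff_getElem]
    constructor
    · rintro ⟨i, hi, rfl⟩
      rw [List.length_ofFn] at hi
      exact ⟨⟨i, by omega⟩, show i < j by omega, (List.getElem_ofFn _).symm⟩
    · rintro ⟨i, hi, rfl⟩
      exact ⟨i.1, by rw [List.length_ofFn]; omega, List.getElem_ofFn _⟩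
  rw [List.getElem_ofFn, smul_eq_mul, hspan] at hx
  rw [hspan]
  rw [mem_ideal_span_X_image] at hx ⊢
  intro m hm
  obtain ⟨i, hi, hne⟩ := hx (Finsupp.single ⟨j, hj⟩ 1 + m) (by
    rw [mem_support_iff, coeff_X_mul]
    exact mem_support_iff.1 hm)
  refine ⟨i, hi, fun h => hne ?_⟩
  have : i ≠ ⟨j, hj⟩ := fun e => by subst e; exact lt_irrefl j hi
  simp [h, this.symm]

variable {R : Type u} [CommRing R] [IsNoetherianRing R] {𝒜 : ℤ → AddSubgroup R} [GradedRing 𝒜]
variable (hpos : ∀ n : ℤ, n < 0 → 𝒜 n = ⊥)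

include hpos in
theorem sub_proj_zero_mem (y : R) :
    y - proj 𝒜 0 y ∈ Ideal.span (⋃ n ∈ Set.Ioi (0 : ℤ), (𝒜 n : Set R)) := by
  induction y using induction 𝒜 with
  | zero => simp
  | hom j r hr =>
    rcases lt_trichotomy j 0 with hj | rfl | hj
    · rw [show r = 0 by simpa [hpos j hj] using hr, map_zero, sub_zero]; exact zero_mem _
    · rw [proj_same hr, sub_self]; exact zero_mem _
    · rw [proj_ne hr hj.ne', sub_zero]
      exact Ideal.subset_span (Set.mem_iUnion₂.2 ⟨j, hj, hr⟩)
  | add u v hu hv => rw [map_add, add_sub_add_comm]; exact add_mem hu hv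

include hpos in
/-- The degree-one component of a product. -/
theorem proj_one_mul (y z : R) :
    proj 𝒜 1 (y * z) = proj 𝒜 0 y * proj 𝒜 1 z + proj 𝒜 1 y * proj 𝒜 0 z := by
  induction y using induction 𝒜 with
  | zero => simp
  | hom j r hr =>
    rw [← smul_eq_mul, proj_smul (ℳ := 𝒜) hr, smul_eq_mul]
    by_cases h0 : j = 0
    · subst h0; rw [sub_zero, proj_same hr, proj_ne hr zero_ne_one, zero_mul, add_zero]
    · rw [proj_ne hr h0, zero_mul, zero_add]
      by_cases h1 : j = 1
      · subst h1; rw [sub_self, proj_same hr]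
      · rw [proj_ne hr h1, zero_mul]
        rcases lt_or_ge j 0 with hj | hj
        · rw [show r = 0 by simpa [hpos j hj] using hr, zero_mul]
        · rw [show proj 𝒜 (1 - j) z = 0 from (by
            have := proj_mem 𝒜 (1 - j) z
            rwa [hpos (1 - j) (by omega), AddSubgroup.mem_bot] at this), mul_zero]
  | add u v hu hv => rw [add_mul, map_add, hu, hv, map_add, map_add]; ring

/-- A nonzero element has a top component. -/
theorem exists_top {x : R} (hx : x ≠ 0) : ∃ g, proj 𝒜 g x ≠ 0 ∧ ∀ j, g < j → proj 𝒜 j x = 0 := by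
  classical
  obtain ⟨s, hs, hout⟩ := exists_sum_proj 𝒜 x
  have hne : (s.filter fun g => proj 𝒜 g x ≠ 0).Nonempty := by
    by_contra h
    rw [Finset.not_nonempty_iff_eq_empty] at h
    exact hx (hs ▸ Finset.sum_eq_zero fun g hg => by_contra fun hc => by
      have : g ∈ s.filter fun g => proj 𝒜 g x ≠ 0 := Finset.mem_filter.2 ⟨hg, hc⟩
      rw [h] at this
      exact Finset.notMem_empty g this)
  refine ⟨_, (Finset.mem_filter.1 (Finset.max'_mem _ hne)).2, fun j hj => by_contra fun hc => ?_⟩
  have hjs : j ∈ s := by_contra fun h => hc (hout j h)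
  have := Finset.le_max' (s.filter fun g => proj 𝒜 g x ≠ 0) j (Finset.mem_filter.2 ⟨hjs, hc⟩)
  omega

include hpos in
/-- The units of a positively graded domain have degree zero. -/
theorem mem_zero_of_isUnit [IsDomain R] {x : R} (hx : IsUnit x) : x ∈ 𝒜 0 := by
  classical
  obtain ⟨y, hy⟩ := hx.exists_right_inv
  obtain ⟨g, hg, hgt⟩ := exists_top (𝒜 := 𝒜) hx.ne_zero
  obtain ⟨h, hh, hht⟩ := exists_top (𝒜 := 𝒜) (x := y) (fun e => by simp [e] at hy)
  have hnn : ∀ {j : ℤ} {z : R}, proj 𝒜 j z ≠ 0 → 0 ≤ j := fun {j z} hz => by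
    by_contra hj
    have := proj_mem 𝒜 j z
    rw [hpos j (by omega), AddSubgroup.mem_bot] at this
    exact hz this
  obtain ⟨s, hs, hout⟩ := exists_sum_proj 𝒜 x
  have hmul : proj 𝒜 (g + h) (x * y) = proj 𝒜 g x * proj 𝒜 h y := by
    conv_lhs => rw [← hs, Finset.sum_mul, map_sum]
    rw [Finset.sum_eq_single g]
    · rw [← smul_eq_mul, proj_smul (ℳ := 𝒜) (proj_mem 𝒜 g x), add_sub_cancel_left, smul_eq_mul]
    · intro i _ hig
      rw [← smul_eq_mul, proj_smul (ℳ := 𝒜) (proj_mem 𝒜 i x), smul_eq_mul]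
      rcases lt_or_gt_of_ne hig with hlt | hlt
      · rw [hht _ (by omega), mul_zero]
      · rw [hgt i hlt, zero_mul]
    · intro hgs
      rw [hout g hgs, zero_mul, map_zero]
  have h0 : g + h = 0 := by
    by_contra hne
    rw [hy, proj_ne (SetLike.one_mem_graded 𝒜) (Ne.symm hne)] at hmul
    exact mul_ne_zero hg hh hmul.symm
  have hg0 := hnn hg
  have hh0 := hnn hh
  rw [← hs]
  refine sum_mem fun i _ => ?_
  rcases eq_or_ne i 0 with rfl | hi
  · exact proj_mem 𝒜 0 x
  · rw [show proj 𝒜 i x = 0 from by_contra fun hc => hi (by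
      have := hnn hc
      have : ¬ g < i := fun hlt => hc (hgt i hlt)
      omega)]
    exact zero_mem _

variable {a : HomogeneousIdeal 𝒜} (ha : a.toIdeal = Ideal.span ((𝒜 1 : AddSubgroup R) : Set R))
  (ha' : ∀ n : ℤ, 0 < n → ∀ r ∈ 𝒜 n, r ∈ a.toIdeal)

include hpos ha ha' in
/-- A ring generated in degree one is a quotient of a polynomial ring. -/
theorem aeval_surjective {r : ℕ} (v : Fin r → R) (hv : ∀ x ∈ 𝒜 1, x ∈ Submodule.span (GrLC.deg0 𝒜) (Set.range v)) :
    Function.Surjective (aeval (R := GrLC.deg0 𝒜) v) := by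
  have key : ∀ (k : ℕ), ∀ x ∈ 𝒜 (k : ℤ), x ∈ (aeval (R := GrLC.deg0 𝒜) v).range := by
    intro k
    induction k with
    | zero => exact fun x hx => ⟨C ⟨x, hx⟩, by simp; rfl⟩
    | succ k ih =>
      intro x hx
      have hxa : x ∈ Ideal.span ((𝒜 1 : AddSubgroup R) : Set R) := ha ▸ ha' _ (by omega) x hx
      have hgen : ∀ y ∈ Ideal.span ((𝒜 1 : AddSubgroup R) : Set R), ∀ c : R,
          proj 𝒜 ((k + 1 : ℕ) : ℤ) (y * c) ∈ (aeval (R := GrLC.deg0 𝒜) v).range := fun y hy => by
        induction hy using Submodule.span_induction with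
        | mem z hz =>
          intro c
          rw [← smul_eq_mul, proj_smul (ℳ := 𝒜) hz, smul_eq_mul]
          refine mul_mem ?_ (ih _ (by rw [show ((k + 1 : ℕ) : ℤ) - 1 = (k : ℤ) by push_cast; ring]; exact proj_mem 𝒜 _ _))
          have hz' := hv z hz
          clear hz
          induction hz' using Submodule.span_induction with
          | mem w hw => obtain ⟨i, rfl⟩ := hw; exact ⟨X i, by simp⟩
          | zero => exact zero_mem _
          | add p q _ _ hp hq => exact add_mem hp hq
          | smul c p _ hp => exact Subalgebra.smul_mem _ hp c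
        | zero => intro c; rw [zero_mul, map_zero]; exact zero_mem _
        | add y z _ _ hy hz => intro c; rw [add_mul, map_add]; exact add_mem (hy c) (hz c)
        | smul s y _ hy => intro c; rw [smul_eq_mul, mul_assoc, mul_left_comm]; exact hy (s * c)
      have h := hgen x hxa 1
      rwa [mul_one, proj_same hx] at h
  intro x
  obtain ⟨s, hs, -⟩ := exists_sum_proj 𝒜 x
  refine AlgHom.mem_range _ |>.1 (hs ▸ sum_mem fun g _ => ?_)
  rcases lt_or_ge g 0 with hg | hg
  · have := proj_mem 𝒜 g x
    rw [hpos g hg, AddSubgroup.mem_bot] at this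
    rw [this]; exact zero_mem _
  · obtain ⟨k, rfl⟩ := Int.eq_ofNat_of_zero_le hg
    exact key k _ (proj_mem 𝒜 _ x)

include hpos ha ha' in
/-- Over a field, `r` linear generators in dimension `r` are algebraically independent. -/
theorem aeval_bijective (h0 : IsField (GrLC.deg0 𝒜)) {r : ℕ} (hr : ringKrullDim R = r) (v : Fin r → R)
    (hv : ∀ x ∈ 𝒜 1, x ∈ Submodule.span (GrLC.deg0 𝒜) (Set.range v)) :
    Function.Bijective (aeval (R := GrLC.deg0 𝒜) v) := by
  letI := h0.toField
  have hs := aeval_surjective hpos ha ha' v hv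
  refine ⟨(injective_iff_map_eq_zero _).2 fun p hp => by_contra fun hp0 => ?_, hs⟩
  haveI : Nontrivial R := (GrLC.deg0 𝒜).subtype_injective.nontrivial
  have h := ringKrullDim_succ_le_of_surjective (aeval (R := GrLC.deg0 𝒜) v).toRingHom hs
    (mem_nonZeroDivisors_of_ne_zero hp0) hp
  rw [MvPolynomial.ringKrullDim_of_isNoetherianRing, ringKrullDim_eq_zero_of_field, hr, zero_add] at h
  simp at h
  norm_cast at h
  omega

end Groth.Agent.H4Gr
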