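import Groth.Prelude.Def_GrSyz
import Groth.Prelude.Def_CAlg
import Groth.Agent.H4Depth.Regular
import Groth.Agent.H1CAlg.Serre
import Groth.Agent.H05EGA4.Equidim
import Groth.Agent.H02CA.GorRing
import Groth.Agent.H3CAlg.Syz.Std
import Groth.Agent.H4Goren.Hull
import Mathlib.RingTheory.GradedAlgebra.Radical
import Mathlib.RingTheory.RegularLocalRing.Polynomial

/-!
# Cohen–Macaulay quotients of polynomial rings by homogeneous ideals are unmixed
-/

set_option autoImplicit false
set_option linter.style.haveILetI false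
set_option linter.unusedSectionVars false

universe u

open MvPolynomial GrSyz DirectSum IsLocalRing

namespace Groth.Agent.H4Gr.PolyUnmixed

variable {K : Type u} [Field K] {σ : Type} [Finite σ]

local notation "𝐑" => MvPolynomial σ K
local notation "𝒮" => GrSyz.stdGr K σ

/-- The maximal ideal of the origin. -/
noncomputable abbrev origin (K : Type u) [Field K] (σ : Type) : Ideal (MvPolynomial σ K) :=
  RingHom.ker (constantCoeff : MvPolynomial σ K →+* K)

instance origin_isMaximal : (origin K σ).IsMaximal :=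
  RingHom.ker_isMaximal_of_surjective _ fun a => ⟨C a, constantCoeff_C σ a⟩

theorem le_origin {I : Ideal 𝐑} (hI : I.IsHomogeneous 𝒮) (hne : I ≠ ⊤) : I ≤ origin K σ := by
  classical
  intro x hx
  rw [RingHom.mem_ker]
  by_contra hc
  refine hne (Ideal.eq_top_of_isUnit_mem I (x := (DirectSum.decompose 𝒮 x 0 : 𝐑)) (hI 0 hx) ?_)
  rcases H3CAlg.Syz.isUnit_of_mem_stdGr_zero (DirectSum.decompose 𝒮 x 0 : 𝐑) (DirectSum.decompose 𝒮 x 0).2 with h | h
  · have h1 := H3CAlg.Syz.P_zero_eq x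
    exact absurd ((C_injective σ K) (((show (DirectSum.decompose 𝒮 x 0 : 𝐑) = C (constantCoeff x) from h1).symm.trans h).trans (map_zero C).symm)) hc
  · exact h

theorem isHomogeneous_minimalPrimes {I P : Ideal 𝐑} (hI : I.IsHomogeneous 𝒮) (hP : P ∈ I.minimalPrimes) :
    P.IsHomogeneous 𝒮 := by
  classical
  have hle : I ≤ (P.homogeneousCore 𝒮).toIdeal := by
    conv_lhs => rw [← hI.toIdeal_homogeneousCore_eq_self]
    exact Ideal.homogeneousCore_mono _ hP.1.2
  have he : P = (P.homogeneousCore 𝒮).toIdeal :=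
    le_antisymm (hP.2 ⟨Ideal.IsPrime.homogeneousCore hP.1.1, hle⟩ (Ideal.toIdeal_homogeneousCore_le 𝒮 P))
      (Ideal.toIdeal_homogeneousCore_le 𝒮 P)
  rw [he]
  exact HomogeneousIdeal.isHomogeneous _

theorem isCohenMacaulayRing_of_isGorensteinRing (S : Type u) [CommRing S] [LocCoh.IsGorensteinRing S] :
    LocCoh.IsCohenMacaulayRing S :=
  { isCohenMacaulayLocalRing_localization := fun p _ =>
      haveI := LocCoh.IsGorensteinRing.isGorensteinLocalRing_localization (A := S) p
      H4Goren.isCohenMacaulayLocalRing _ }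

theorem hasSk_one_of_cm (S : Type u) [CommRing S] [LocCoh.IsCohenMacaulayRing S] : LocCoh.HasSk 1 S S := fun p _ => by
  obtain ⟨e⟩ := H4Depth.exists_localizedModule_self_equiv p
  have hcm : LocCoh.IsCohenMacaulayLocalRing (Localization.AtPrime p) :=
    LocCoh.IsCohenMacaulayRing.isCohenMacaulayLocalRing_localization p
  have h := hcm.supportDim_eq_depth
  rw [Module.supportDim_eq_of_equiv e, H4Depth.depth_congr e, h]
  exact min_le_right _ _

theorem minimal_of_mem_associatedPrimes (I : Ideal 𝐑) [LocCoh.IsCohenMacaulayRing (𝐑 ⧸ I)] {P : Ideal 𝐑}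
    (hP : P ∈ associatedPrimes 𝐑 (𝐑 ⧸ I)) : P ∈ I.minimalPrimes := by
  obtain ⟨hPp, z, hz⟩ := isAssociatedPrime_iff.mp hP
  have hIP : I ≤ P := fun a ha => by
    rw [hz, Submodule.mem_colon_singleton, Submodule.mem_bot]
    obtain ⟨w, rfl⟩ := Ideal.Quotient.mk_surjective z
    exact Ideal.Quotient.eq_zero_iff_mem.2 (I.mul_mem_right w ha)
  haveI := hPp
  have hker : RingHom.ker (Ideal.Quotient.mk I) ≤ P := by rwa [Ideal.mk_ker]
  haveI : (P.map (Ideal.Quotient.mk I)).IsPrime := Ideal.map_isPrime_of_surjective Ideal.Quotient.mk_surjective hker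
  have hmap : P.map (Ideal.Quotient.mk I) ∈ associatedPrimes (𝐑 ⧸ I) (𝐑 ⧸ I) := by
    refine isAssociatedPrime_iff.mpr ⟨inferInstance, z, ?_⟩
    ext a
    obtain ⟨a, rfl⟩ := Ideal.Quotient.mk_surjective a
    rw [Submodule.mem_colon_singleton, Submodule.mem_bot]
    show _ ↔ a • z = 0
    rw [← Ideal.mem_comap, Ideal.comap_map_of_surjective' _ Ideal.Quotient.mk_surjective, Ideal.mk_ker,
      sup_eq_left.2 hIP]
    conv_lhs => rw [hz]
    rw [Submodule.mem_colon_singleton, Submodule.mem_bot]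
  have hmin := H1CAlg.hasSk_one_self_iff.1 (hasSk_one_of_cm (𝐑 ⧸ I)) _ hmap
  rw [H05EGA4.mem_minimalPrimes_bot_map_iff, Ideal.comap_map_of_surjective' _ Ideal.Quotient.mk_surjective,
    Ideal.mk_ker, sup_eq_left.2 hIP] at hmin
  exact hmin

theorem cmLocal_polynomial (P : Ideal 𝐑) [P.IsPrime] : LocCoh.IsCohenMacaulayLocalRing (Localization.AtPrime P) :=
  H4Depth.isCohenMacaulayLocalRing_of_regular (Localization.AtPrime P)

/-- All minimal primes of a homogeneous ideal with Cohen–Macaulay quotient have the same height. -/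
theorem height_minimalPrimes_eq (I : Ideal 𝐑) (hI : I.IsHomogeneous 𝒮) [LocCoh.IsCohenMacaulayRing (𝐑 ⧸ I)]
    {P : Ideal 𝐑} (hP : P ∈ I.minimalPrimes) : P.height = I.height := by
  have hIne : I ≠ ⊤ := fun h => hP.1.1.ne_top (top_le_iff.1 (h ▸ hP.1.2))
  set o := origin K σ
  let L := Localization.AtPrime o
  haveI : LocCoh.IsCohenMacaulayLocalRing L := cmLocal_polynomial o
  have hIo : RingHom.ker (Ideal.Quotient.mk I) ≤ o := by rw [Ideal.mk_ker]; exact le_origin hI hIne
  haveI : (o.map (Ideal.Quotient.mk I)).IsPrime := Ideal.map_isPrime_of_surjective Ideal.Quotient.mk_surjective hIo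
  haveI := LocCoh.IsCohenMacaulayRing.isCohenMacaulayLocalRing_localization (o.map (Ideal.Quotient.mk I))
  have hoc : (o.map (Ideal.Quotient.mk I)).comap (Ideal.Quotient.mk I) = o := by
    rw [Ideal.comap_map_of_surjective' _ Ideal.Quotient.mk_surjective, sup_eq_left.2 hIo]
  haveI : IsLocalization ((o.map (Ideal.Quotient.mk I)).comap (Ideal.Quotient.mk I)).primeCompl L :=
    IsLocalization.of_le_of_exists_dvd o.primeCompl _ (fun x hx h => hx (hoc ▸ h)) fun x hx =>
      ⟨x, fun h => hx (by rw [← hoc] at h; exact h), dvd_rfl⟩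
  obtain ⟨e⟩ := H02CA.GorFlat.nonempty_equiv_quot (Ideal.Quotient.mk I) Ideal.Quotient.mk_surjective (o.map (Ideal.Quotient.mk I)) L
  have heq : EGA4.IsEquidim (L ⧸ (RingHom.ker (Ideal.Quotient.mk I)).map (algebraMap 𝐑 L)) :=
    H05EGA4.isEquidim_of_ringEquiv e.symm
      (H05EGA4.isCatenary_and_isEquidim_of_isCohenMacaulay (Localization.AtPrime (o.map (Ideal.Quotient.mk I)))).2
  rw [Ideal.mk_ker, H05EGA4.isEquidim_quotient_iff] at heq
  obtain ⟨d, hd⟩ := H4Depth.exists_nat_ringKrullDim_eq (R := L)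
  obtain ⟨e', he'⟩ : ∃ e' : ℕ, ringKrullDim (L ⧸ I.map (algebraMap 𝐑 L)) = e' := by
    haveI : Nontrivial (L ⧸ I.map (algebraMap 𝐑 L)) := Ideal.Quotient.nontrivial_iff.2 fun h => by
      have h1 := h ▸ Ideal.map_mono (f := algebraMap 𝐑 L) (show I ≤ o from le_origin hI hIne)
      rw [Localization.AtPrime.map_eq_maximalIdeal] at h1
      exact (maximalIdeal.isMaximal L).ne_top (top_le_iff.1 h1)
    obtain ⟨e', he'⟩ := H4Depth.exists_nat_supportDim_eq (R := L) (M := L ⧸ I.map (algebraMap 𝐑 L))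
    exact ⟨e', by rwa [Module.supportDim_quotient_eq_ringKrullDim] at he'⟩
  have key : ∀ Q ∈ I.minimalPrimes, (Q.height : WithBot ℕ∞) + e' = d := by
    intro Q hQ
    haveI := hQ.1.1
    have hQo : Q ≤ o := le_origin (isHomogeneous_minimalPrimes hI hQ) hQ.1.1.ne_top
    have hdisj : Disjoint (o.primeCompl : Set 𝐑) (Q : Set 𝐑) := Set.disjoint_left.2 fun x hx hxQ => hx (hQo hxQ)
    haveI := IsLocalization.isPrime_of_isPrime_disjoint o.primeCompl L Q hQ.1.1 hdisj
    have hQL : Q.map (algebraMap 𝐑 L) ∈ (I.map (algebraMap 𝐑 L)).minimalPrimes := by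
      refine ⟨⟨inferInstance, Ideal.map_mono hQ.1.2⟩, fun T ⟨hT, hIT⟩ hTQ => ?_⟩
      rw [Ideal.map_le_iff_le_comap]
      refine hQ.2 ⟨hT.comap _, Ideal.map_le_iff_le_comap.1 hIT⟩ ?_
      exact (Ideal.comap_mono hTQ).trans (IsLocalization.comap_map_of_isPrime_disjoint o.primeCompl L hQ.1.1 hdisj).le
    have h1 := H05EGA4.height_add_dim_eq_of_isCohenMacaulay L (Q.map (algebraMap 𝐑 L))
    rw [heq _ hQL, he', hd] at h1
    have hh : (Q.map (algebraMap 𝐑 L)).height = Q.height :=
      (IsLocalization.height_comap o.primeCompl (Q.map (algebraMap 𝐑 L))).symm.trans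
        (congrArg Ideal.height (IsLocalization.comap_map_of_isPrime_disjoint o.primeCompl L hQ.1.1 hdisj))
    rwa [hh] at h1
  refine le_antisymm ?_ (Ideal.height_mono hP.1.2)
  conv_rhs => rw [Ideal.height_eq_inf_minimalPrimes]
  refine le_iInf₂ fun Q hQ => ?_
  haveI := hQ.1.1
  haveI := hP.1.1
  obtain ⟨a, ha⟩ := H05EGA4.exists_nat_height_eq P
  obtain ⟨b, hb⟩ := H05EGA4.exists_nat_height_eq Q
  have h1 := key P hP
  have h2 := key Q hQ
  rw [ha] at h1 ⊢
  rw [hb] at h2 ⊢
  have h1' : a + e' = d := by exact_mod_cast h1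
  have h2' : b + e' = d := by exact_mod_cast h2
  exact_mod_cast (show a ≤ b by omega)

/-- Associated primes of a Cohen–Macaulay homogeneous quotient. -/
theorem height_associatedPrimes (I : Ideal 𝐑) (hI : I.IsHomogeneous 𝒮) [LocCoh.IsCohenMacaulayRing (𝐑 ⧸ I)]
    {P : Ideal 𝐑} (hP : P ∈ associatedPrimes 𝐑 (𝐑 ⧸ I)) : P.height = I.height :=
  height_minimalPrimes_eq I hI (minimal_of_mem_associatedPrimes I hP)

end Groth.Agent.H4Gr.PolyUnmixed
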