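import Groth.Agent.H4Gr.CoreHeight
import Groth.Agent.H4Depth.SupportLoc
import Mathlib.RingTheory.KrullDimension.Module

/-!
# Dimension of localized graded modules
-/

set_option autoImplicit false

universe u

open DirectSum

namespace Groth.Agent.H4Gr

variable {R : Type u} [CommRing R]

theorem supportDim_localization_eq_hgt (p : Ideal R) [hp : p.IsPrime] (M : Type u) [AddCommGroup M] [Module R M]
    [Module.Finite R M] (hann : Module.annihilator R M ≤ p) :
    Module.supportDim (Localization.AtPrime p) (LocalizedModule p.primeCompl M) =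
      (hgt (Module.annihilator R M) p : WithBot ℕ∞) := by
  rw [hgt_eq_orderHeight hann, Order.height_eq_krullDim_Iic]
  have key : ∀ Q : PrimeSpectrum (Localization.AtPrime p),
      Q ∈ Module.support (Localization.AtPrime p) (LocalizedModule p.primeCompl M) ↔
        PrimeSpectrum.comap (algebraMap R (Localization.AtPrime p)) Q ∈
          PrimeSpectrum.zeroLocus (Module.annihilator R M : Set R) := fun Q => by
    rw [H4Depth.mem_support_localizedModule_iff p.primeCompl (Localization.AtPrime p)
      (LocalizedModule.mkLinearMap p.primeCompl M) Q, Module.support_eq_zeroLocus]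
  let e := IsLocalization.AtPrime.primeSpectrumOrderIso (Localization.AtPrime p) p
  refine Order.krullDim_eq_of_orderIso
    { toFun := fun Q => ⟨⟨(e Q.1).1, (key Q.1).1 Q.2⟩, (e Q.1).2⟩
      invFun := fun x => ⟨e.symm ⟨x.1.1, x.2⟩, (key _).2 (by
        have h := congrArg Subtype.val (e.apply_symm_apply ⟨x.1.1, x.2⟩)
        exact (congrArg (fun y => y ∈ PrimeSpectrum.zeroLocus _) h).mpr x.1.2)⟩
      left_inv := fun Q => Subtype.ext (by exact e.symm_apply_apply Q.1)
      right_inv := fun x => by
        have h := congrArg Subtype.val (e.apply_symm_apply ⟨x.1.1, x.2⟩)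
        exact Subtype.ext (Subtype.ext h)
      map_rel_iff' := fun {a b} => e.map_rel_iff (a := a.1) (b := b.1) }

variable {ι : Type} [AddCommGroup ι] [DecidableEq ι] {𝒜 : ι → AddSubgroup R} [GradedRing 𝒜]
variable {M : Type u} [AddCommGroup M] [Module R M] (ℳ : ι → AddSubgroup M) [Decomposition ℳ]
  [SetLike.GradedSMul 𝒜 ℳ]

variable (𝒜) in
include ℳ in
theorem isHomogeneous_annihilator : (Module.annihilator R M).IsHomogeneous 𝒜 := by
  intro i r hr
  rw [Module.mem_annihilator] at hr ⊢
  intro m
  induction m using induction ℳ with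
  | zero => exact smul_zero _
  | hom g x hx =>
    have h := congrArg (proj ℳ (i + g)) (hr x)
    rw [map_zero] at h
    obtain ⟨s, hs, hs0⟩ := exists_sum_proj 𝒜 r
    rw [← hs, Finset.sum_smul, map_sum, Finset.sum_eq_single i (fun j _ hji => ?_) (fun hi => ?_)] at h
    · rwa [proj_same (smul_mem 𝒜 (proj_mem 𝒜 i r) hx)] at h
    · exact proj_ne (smul_mem 𝒜 (proj_mem 𝒜 j r) hx) fun e => hji (add_right_cancel e)
    · rw [hs0 i hi, zero_smul, map_zero]
  | add x y hx hy => rw [smul_add, hx, hy, add_zero]

end Groth.Agent.H4Gr
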