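import Groth.Agent.H4Gr.Pieces

/-!
# Torsion criteria, change of the ideal within its radical, transport along homogeneous isomorphisms
-/

set_option autoImplicit false
set_option linter.unusedSectionVars false

universe u

open DirectSum

namespace Groth.Agent.H4Gr

variable {ι : Type} [AddCommGroup ι] [DecidableEq ι]
variable {R : Type u} [CommRing R] [IsNoetherianRing R] {𝒜 : ι → AddSubgroup R} [GradedRing 𝒜]

/-- Torsion can be checked on generators. -/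
theorem mem_gam_span {M : Type u} [AddCommGroup M] [Module R M] (s : Set R) (x : M)
    (h : ∀ y ∈ s, ∃ k : ℕ, y ^ k • x = 0) : x ∈ GrLC.gam (Ideal.span s) M := by
  have hle : Ideal.span s ≤ Ideal.radical (LinearMap.ker (LinearMap.toSpanSingleton R M x)) :=
    Ideal.span_le.2 fun y hy => by
      obtain ⟨k, hk⟩ := h y hy
      exact ⟨k, LinearMap.mem_ker.2 hk⟩
  obtain ⟨n, hn⟩ := Ideal.exists_pow_le_of_le_radical_of_fg hle (IsNoetherian.noetherian _)
  exact ⟨n, fun r hr => LinearMap.mem_ker.1 (hn hr)⟩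

theorem gam_eq_of_radical_eq {I J : Ideal R} (h : I.radical = J.radical) (M : Type u) [AddCommGroup M]
    [Module R M] : GrLC.gam I M = GrLC.gam J M := by
  have key : ∀ {I J : Ideal R}, J ≤ I.radical → GrLC.gam I M ≤ GrLC.gam J M := fun {I J} hJ x ⟨n, hn⟩ => by
    obtain ⟨k, hk⟩ := Ideal.exists_pow_le_of_le_radical_of_fg hJ (IsNoetherian.noetherian J)
    exact ⟨k * n, fun r hr => hn r (by rw [pow_mul] at hr; exact Ideal.pow_right_mono hk n hr)⟩
  exact le_antisymm (key (h ▸ Ideal.le_radical)) (key (h ▸ Ideal.le_radical))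

variable {M : Type u} [AddCommGroup M] [Module R M] {ℳ : ι → AddSubgroup M} [Decomposition ℳ]
  [SetLike.GradedSMul 𝒜 ℳ]

theorem cocyc_eq_of_radical {a b : HomogeneousIdeal 𝒜} (h : a.toIdeal.radical = b.toIdeal.radical)
    (E : GrLC.StarInjRes 𝒜 ℳ) (i : ℕ) : E.cocyc a i = E.cocyc b i :=
  congrArg (· ⊓ LinearMap.ker (E.d i)) (gam_eq_of_radical_eq h _)

theorem cobdy_eq_of_radical {a b : HomogeneousIdeal 𝒜} (h : a.toIdeal.radical = b.toIdeal.radical)
    (E : GrLC.StarInjRes 𝒜 ℳ) : ∀ i : ℕ, E.cobdy a i = E.cobdy b i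
  | 0 => rfl
  | n + 1 => congrArg (Submodule.map (E.d n)) (gam_eq_of_radical_eq h _)

theorem Hcomp_eq_bot_iff_cobdy (a : HomogeneousIdeal 𝒜) (E : GrLC.StarInjRes 𝒜 ℳ) (i : ℕ) (g : ι) :
    E.Hcomp a i g = ⊥ ↔ ∀ z ∈ E.cocyc a i, z ∈ (E.X i).gr g → z ∈ E.cobdy a i := by
  rw [Hcomp_eq_bot_iff]
  refine ⟨fun h z hz hzg => (toH_eq_zero_iff a i ⟨z, hz⟩).1 (h _ ⟨⟨z, hz⟩, hzg, rfl⟩), ?_⟩
  rintro h _ ⟨z, hz, rfl⟩
  exact (toH_eq_zero_iff a i z).2 (h _ z.2 hz)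

/-- Vanishing of pieces only depends on the radical of the ideal. -/
theorem Hcomp_eq_bot_iff_of_radical {a b : HomogeneousIdeal 𝒜} (h : a.toIdeal.radical = b.toIdeal.radical)
    (E : GrLC.StarInjRes 𝒜 ℳ) (i : ℕ) (g : ι) : E.Hcomp a i g = ⊥ ↔ E.Hcomp b i g = ⊥ := by
  rw [Hcomp_eq_bot_iff_cobdy, Hcomp_eq_bot_iff_cobdy, cocyc_eq_of_radical h, cobdy_eq_of_radical h]

variable {L : Type u} [AddCommGroup L] [Module R L] {𝓛 : ι → AddSubgroup L} [Decomposition 𝓛]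
  [SetLike.GradedSMul 𝒜 𝓛]

/-- Transport of vanishing along a bijective homogeneous map. -/
theorem Hcomp_eq_bot_of_bijective (a : HomogeneousIdeal 𝒜) {φ : L →ₗ[R] M} {e : ι}
    (hφ : GrLC.IsGrHomDeg 𝓛 ℳ φ e) (hb : Function.Bijective φ) (EL : GrLC.StarInjRes 𝒜 𝓛)
    (EM : GrLC.StarInjRes 𝒜 ℳ) {i : ℕ} {g : ι} (h : EM.Hcomp a i (g + e) = ⊥) : EL.Hcomp a i g = ⊥ := by
  let ψ := (LinearEquiv.ofBijective φ hb).symm
  have hψ : GrLC.IsGrHomDeg ℳ 𝓛 ψ.toLinearMap (-e) := fun j m hm => by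
    obtain ⟨x, hx, rfl⟩ := exists_preimage_mem hφ (g := j + -e) (y := m) (by simpa using hm) (hb.2 m)
    show ψ (φ x) ∈ _
    rw [show ψ (φ x) = x from (LinearEquiv.ofBijective φ hb).symm_apply_apply x]
    exact hx
  refine (Hcomp_eq_bot_iff a).2 fun y hy => ?_
  have h0 : hmap a EL EM φ hφ i y = 0 :=
    (Hcomp_eq_bot_iff a).1 h _ (isGrHomDeg_hmap a EL EM φ hφ i g y hy)
  have h1 : hmap a EM EL ψ.toLinearMap hψ i (hmap a EL EM φ hφ i y) = y := by
    rw [← LinearMap.comp_apply, ← hmap_comp a hφ hψ,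
      hmap_congr a _ (isGrHomDeg_id (ℳ := 𝓛)) (LinearMap.ext (LinearEquiv.ofBijective φ hb).symm_apply_apply)
        (add_neg_cancel e), hmap_id]
    rfl
  rw [← h1, h0, map_zero]

theorem gam_eq_top_of_subsingleton [Subsingleton M] (I : Ideal R) : GrLC.gam I M = ⊤ :=
  eq_top_iff.2 fun x _ => (Subsingleton.elim x 0) ▸ zero_mem _

theorem Hcomp_eq_bot_of_subsingleton [Subsingleton M] (a : HomogeneousIdeal 𝒜) (E : GrLC.StarInjRes 𝒜 ℳ)
    (i : ℕ) (g : ι) : E.Hcomp a i g = ⊥ := by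
  cases i with
  | zero => exact (Hcomp_zero_eq_bot_iff E g).2 fun x _ _ => Subsingleton.elim x 0
  | succ i => exact Hcomp_succ_eq_bot_of_torsion E (gam_eq_top_of_subsingleton _) i g

end Groth.Agent.H4Gr
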